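import Cfsg.Agent.S0862
import Cfsg.Agent.S0863
import Cfsg.Agent.S0865

set_option autoImplicit false
set_option linter.style.haveILetI false
set_option linter.unusedSectionVars false

namespace Cfsg.Agent.Helper75

open Cfsg Cfsg.Agent.Helper81

universe u

section canon
variable {G : Type u} [Group G] [Finite G]

/-- the determinantal character of an irreducible character is a linear character -/
theorem detChar_linear {χ : G → ℂ} (hχ : IsIrrCharacter G χ) :
    IsCharacter G (detChar χ) ∧ detChar χ 1 = 1 := by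
  obtain ⟨k, σ, hσ, rfl⟩ := hχ
  haveI := hσ
  have hdet : ∀ g, detChar σ.character g = LinearMap.det (σ g) := fun g => detChar_eq_det σ g
  refine ⟨?_, ?_⟩
  · apply isCharacter_of_mul
    · rw [hdet, map_one, map_one]
    · intro g h
      rw [hdet, hdet, hdet, map_mul, map_mul]
  · rw [hdet, map_one, map_one]

/-- the determinantal character of an extension restricts to the determinantal character -/
theorem detChar_of_restrict (N : Subgroup G) {ϑ : N → ℂ} (hϑ : IsIrrCharacter N ϑ)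
    {χ : G → ℂ} (hχ : IsIrrCharacter G χ) (hres : ∀ n : N, χ n = ϑ n) (n : N) :
    detChar χ n = detChar ϑ n := by
  obtain ⟨k, σ, hσ, rfl⟩ := hχ
  haveI := hσ
  have hϑeq : ϑ = fun n : N => σ.character n := by
    funext n; exact (hres n).symm
  rw [detChar_eq_det, hϑeq]
  exact (detChar_restrict N σ (by rw [← hϑeq]; exact hϑ) n).symm

/-- the determinantal character of an invariant character is invariant -/
theorem detChar_conj_invariant (N : Subgroup G) [hN : N.Normal] {ϑ : N → ℂ}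
    (hϑ : IsIrrCharacter N ϑ)
    (hinv : ∀ (g : G) (n : N), ϑ ⟨g * n * g⁻¹, hN.conj_mem (n : G) n.2 g⟩ = ϑ n)
    (g : G) (n : N) :
    detChar ϑ ⟨g * n * g⁻¹, hN.conj_mem (n : G) n.2 g⟩ = detChar ϑ n := by
  classical
  haveI : Fintype N := Fintype.ofFinite N
  obtain ⟨k, ρ, hρ, rfl⟩ := hϑ
  haveI := hρ
  let φ : N →* N := (MulAut.conjNormal g : N ≃* N).toMonoidHom
  have hφ : Function.Surjective φ := (MulAut.conjNormal g : N ≃* N).surjective
  have hφn : ∀ m : N, φ m = ⟨g * m * g⁻¹, hN.conj_mem (m : G) m.2 g⟩ := by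
    intro m
    apply Subtype.ext
    exact MulAut.conjNormal_apply g m
  let ρ' : Representation ℂ N (Fin k → ℂ) := ρ.comp φ
  haveI : ρ'.IsIrreducible := isIrreducible_comp_of_surjective ρ φ hφ
  have hchar : ρ'.character = ρ.character := by
    funext m
    have : ρ'.character m = ρ.character (φ m) := rfl
    rw [this, hφn]
    exact hinv g m
  have h1 := det_eq_of_character_eq ρ' ρ hchar n
  rw [detChar_eq_det, detChar_eq_det, ← h1, ← hφn]
  rfl

/-- **Canonical extension** (Isaacs 6.28) for a solvable quotient. -/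
theorem canon_ext (N : Subgroup G) [hN : N.Normal] (hsolv : Group.IsSolvable (G ⧸ N))
    (ϑ : N → ℂ) (hϑ : IsIrrCharacter N ϑ)
    (hinv : ∀ (g : G) (n : N), ϑ ⟨g * n * g⁻¹, hN.conj_mem (n : G) n.2 g⟩ = ϑ n)
    (d : ℕ) (hd : ϑ 1 = d) (hcop : Nat.Coprime N.index (detOrder ϑ * d)) :
    ∃ χ : G → ℂ, (IsIrrCharacter G χ ∧ (∀ n : N, χ n = ϑ n) ∧ detOrder χ = detOrder ϑ) ∧
      ∀ χ' : G → ℂ, IsIrrCharacter G χ' → (∀ n : N, χ' n = ϑ n) →
        Nat.Coprime N.index (detOrder χ') → χ' = χ := by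
  have hcop1 : Nat.Coprime N.index (orderOf (detChar ϑ)) := Nat.Coprime.coprime_mul_right_right hcop
  have hcopd : Nat.Coprime N.index d := Nat.Coprime.coprime_mul_left_right hcop
  have hδ := detChar_linear hϑ
  obtain ⟨μ, ⟨hμ, hμ1, hμN, hμord⟩, hμuniq⟩ :=
    Cfsg.Agent.S0865.result N (detChar ϑ) hδ (detChar_conj_invariant N hϑ hinv) hcop1
  have hext : ∃ η : G → ℂ, IsIrrCharacter G η ∧ ∀ n : N, η n = ϑ n :=
    (Cfsg.Agent.S0863.result N hsolv ϑ hϑ hinv d hd hcopd).mpr ⟨μ, hμ, hμ1, hμN⟩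
  obtain ⟨χ, ⟨hχ, hχres, hχdet⟩, hχuniq⟩ :=
    Cfsg.Agent.S0862.result N ϑ hϑ d hd hcopd hext μ ⟨hμ, hμ1⟩ hμN
  refine ⟨χ, ⟨hχ, hχres, ?_⟩, ?_⟩
  · unfold detOrder
    rw [hχdet, hμord]
  · intro χ' hχ' hχ'res hcop'
    apply hχuniq χ' ⟨hχ', hχ'res, ?_⟩
    exact hμuniq (detChar χ') (detChar_linear hχ') (detChar_of_restrict N hϑ hχ' hχ'res) hcop'

end canon

end Cfsg.Agent.Helper75
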