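import Cfsg.Agent.Lib.Helper75.CanonExt
import Cfsg.Prelude.Def_Transfer

set_option autoImplicit false
set_option linter.style.haveILetI false
set_option linter.unusedSectionVars false

namespace Cfsg.Agent.Helper75

open Cfsg Cfsg.Agent.Helper81

universe u

/-- In a group generated by its `p'`-elements, determinantal orders are prime to `p`. -/
theorem detOrder_coprime_of_pResidual_eq_top {K : Type u} [Group K] [Finite K] {p : ℕ}
    (hp : p.Prime) (hK : pResidual p K = ⊤) {ψ : K → ℂ} (hψ : IsIrrCharacter K ψ) :
    Nat.Coprime (detOrder ψ) p := by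
  obtain ⟨hδ, hδ1⟩ := detChar_linear hψ
  have hmul := linear_mul hδ hδ1
  set δ := detChar ψ with hδdef
  set n := ordCompl[p] (Nat.card K) with hndef
  have hcard0 : Nat.card K ≠ 0 := Nat.card_pos.ne'
  have hn : Nat.Coprime n p := (Nat.coprime_ordCompl hp hcard0).symm
  have hpow : ∀ (k : K) (m : ℕ), δ (k ^ m) = δ k ^ m := by
    intro k m
    induction m with
    | zero => simp [hδ1]
    | succ m ih => rw [pow_succ, hmul, ih, pow_succ]
  let E : Subgroup K :=
    { carrier := {k | δ k ^ n = 1}
      one_mem' := by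
        show δ 1 ^ n = 1
        rw [hδ1, one_pow]
      mul_mem' := by
        intro a b ha hb
        show δ (a * b) ^ n = 1
        have ha' : δ a ^ n = 1 := ha
        have hb' : δ b ^ n = 1 := hb
        rw [hmul, mul_pow, ha', hb', mul_one]
      inv_mem' := by
        intro a ha
        show δ a⁻¹ ^ n = 1
        have ha' : δ a ^ n = 1 := ha
        have h1 : δ a⁻¹ * δ a = 1 := by rw [← hmul, inv_mul_cancel, hδ1]
        have h2 : δ a⁻¹ ^ n * δ a ^ n = 1 := by rw [← mul_pow, h1, one_pow]
        rw [ha', mul_one] at h2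
        exact h2 }
  have hE : E = ⊤ := by
    rw [eq_top_iff, ← hK]
    unfold pResidual
    rw [Subgroup.closure_le]
    intro k hk
    have hk' : Nat.Coprime (orderOf k) p := hk
    have h1 : orderOf k ∣ Nat.card K := orderOf_dvd_natCard k
    have h2 : orderOf k ∣ n := by
      have h3 := Nat.ordProj_mul_ordCompl_eq_self (Nat.card K) p
      rw [← h3] at h1
      exact Nat.Coprime.dvd_of_dvd_mul_left (Nat.Coprime.pow_right _ hk') h1
    show δ k ^ n = 1
    rw [← hpow, orderOf_dvd_iff_pow_eq_one.mp h2, hδ1]
  have hδn : δ ^ n = 1 := by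
    funext k
    have hk : k ∈ E := by rw [hE]; exact Subgroup.mem_top k
    have hk' : δ k ^ n = 1 := hk
    simpa using hk'
  exact Nat.Coprime.coprime_dvd_left (orderOf_dvd_of_pow_eq_one hδn) hn

end Cfsg.Agent.Helper75
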