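import Cfsg.Agent.S0857
import Cfsg.Agent.Lib.Helper55.Solv

set_option autoImplicit false
set_option linter.style.haveILetI false
set_option linter.unusedSectionVars false

namespace Cfsg.Agent.Helper75

open Cfsg Cfsg.Agent.Helper81 Cfsg.Agent.S0857

universe u

section deg
variable {K : Type u} [Group K] [Fintype K]

/-- If the inertia group of a constituent is `N`, the degree is `|K : N|` times its degree. -/
theorem deg_of_inertia_eq (N : Subgroup K) [Fintype N] (hN : N.Normal)
    {ϑ : K → ℂ} (hϑ : IsIrrCharacter K ϑ)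
    {φ : N → ℂ} (hφ : IsIrrCharacter N φ) (hne : classInner (fun n : N => ϑ n) φ ≠ 0)
    (hT : inertia N hN φ = N) : ϑ 1 = (N.index : ℂ) * φ 1 := by
  classical
  have hT' : ∀ g : K, g ∈ N ↔ conjFun N hN φ g = φ := by
    intro g
    rw [← mem_inertia, hT]
  obtain ⟨ψ, hψ, hind, hmult⟩ := clifford_corr_surj N N hN le_rfl hφ hT' hϑ hne
  have hres : resTo (le_refl N) ψ = ψ := rfl
  rw [hres] at hmult
  have hψφ : ψ = φ := eq_of_classInner_ne_zero hψ hφ (by rw [hmult]; exact hne)
  rw [← hind, hψφ, indFun_one]

/-- a subgroup containing a subgroup of prime index -/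
theorem eq_or_eq_top_of_prime_index {p : ℕ} (hp : p.Prime) (M : Subgroup K) (hM : M.index = p)
    (T : Subgroup K) (hMT : M ≤ T) : T = M ∨ T = ⊤ := by
  have h1 := Subgroup.relIndex_mul_index hMT
  rw [hM] at h1
  have h2 : T.index ∣ p := Dvd.intro_left _ h1
  rcases (Nat.dvd_prime hp).mp h2 with h | h
  · right
    exact Subgroup.index_eq_one.mp h
  · left
    rw [h] at h1
    have h3 : M.relIndex T = 1 := by
      have : M.relIndex T * p = 1 * p := by rw [h1, one_mul]
      exact Nat.eq_of_mul_eq_mul_right hp.pos this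
    exact le_antisymm (Subgroup.relIndex_eq_one.mp h3) hMT

/-- the index `p` step -/
theorem restrict_irr_prime_index {p : ℕ} (hp : p.Prime) (M : Subgroup K) (hMn : M.Normal)
    (hM : M.index = p) {χ : K → ℂ} (hχ : IsIrrCharacter K χ) (d : ℕ) (hd : χ 1 = d)
    (hpd : ¬ p ∣ d) : IsIrrCharacter M (fun m : M => χ m) := by
  classical
  haveI := hMn
  haveI : Fintype M := Fintype.ofFinite M
  haveI : Fact p.Prime := ⟨hp⟩
  have hres : IsCharacter M (fun n : M => χ n) :=
    isCharacter_restrict M (IsIrrCharacter.isCharacter hχ)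
  have hd0 : d ≠ 0 := by
    rintro rfl
    exact hpd (dvd_zero p)
  have hres0 : (fun n : M => χ n) ≠ 0 := by
    intro h0
    have h1 := congrFun h0 1
    simp only [OneMemClass.coe_one, Pi.zero_apply, hd] at h1
    exact hd0 (by exact_mod_cast h1)
  obtain ⟨φ, hφ, hne⟩ := exists_irr_constituent hres hres0
  have hMT : M ≤ inertia M hMn φ := fun n hn =>
    (mem_inertia M hMn φ n).mpr
      (conjFun_of_mem M hMn (isClassFunction_of_isCharacter (IsIrrCharacter.isCharacter hφ)) hn)
  rcases eq_or_eq_top_of_prime_index hp M hM _ hMT with hT | hT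
  · exfalso
    have h1 := deg_of_inertia_eq M hMn hχ hφ hne hT
    obtain ⟨d', _, hd'⟩ := irr_one_pos hφ
    rw [hd, hd', hM] at h1
    have h2 : d = p * d' := by exact_mod_cast h1
    exact hpd ⟨d', h2⟩
  · have hφinv : ∀ k : K, conjFun M hMn φ k = φ := by
      intro k
      rw [← mem_inertia, hT]
      exact Subgroup.mem_top k
    -- the quotient is abelian
    have hcard : Nat.card (K ⧸ M) = p := by rw [← Subgroup.index_eq_card, hM]
    haveI : IsCyclic (K ⧸ M) := isCyclic_of_prime_card hcard
    have hab : ∀ a b : K, a * b * a⁻¹ * b⁻¹ ∈ M := by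
      intro a b
      rw [← QuotientGroup.eq_one_iff]
      letI : CommGroup (K ⧸ M) := IsCyclic.commGroup
      have hc : ∀ x y : K ⧸ M, x * y = y * x := fun x y => mul_comm x y
      simp only [QuotientGroup.mk_mul, QuotientGroup.mk_inv]
      rw [hc (a : K ⧸ M) (b : K ⧸ M)]
      group
    have hchief : ∀ M' : Subgroup K, M ≤ M' →
        (∀ (a : Unit) (m : K), m ∈ M' → (1 : Unit →* MulAut K) a m ∈ M') →
        M' = M ∨ M' = ⊤ := fun M' h _ => eq_or_eq_top_of_prime_index hp M hM M' h
    rcases case_top M hMn hab (1 : Unit →* MulAut K) (fun _ n hn => by simpa using hn) hchief hχ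
      (fun _ k => by simp) hφ hne hφinv with h | ⟨e, _, he⟩
    · exact h
    · exfalso
      rw [hM] at he
      have h1 : e ∣ p := ⟨e, by rw [← he]; ring⟩
      rcases (Nat.dvd_prime hp).mp h1 with h | h
      · rw [h] at he
        exact hp.one_lt.ne' (by simpa using he.symm)
      · rw [h] at he
        have h2 : p * p = p * 1 := by rw [mul_one, ← sq]; exact he
        exact hp.one_lt.ne' (Nat.eq_of_mul_eq_mul_left hp.pos h2)

end deg

/-- restriction of an irreducible character of `p'`-degree to a normal subgroup of `p`-power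
index is irreducible -/
theorem restrict_irr_aux (p : ℕ) (hp : p.Prime) : ∀ (c : ℕ) (G : Type u) [Group G] [Finite G],
    Nat.card G = c → ∀ (N : Subgroup G), N.Normal → ∀ (a : ℕ), N.index = p ^ a →
    ∀ (χ : G → ℂ), IsIrrCharacter G χ → ∀ d : ℕ, χ 1 = d → ¬ p ∣ d →
    IsIrrCharacter N (fun n : N => χ n) := by
  intro c
  induction c using Nat.strong_induction_on with
  | _ c ih =>
    intro G _ _ hc N hN a ha χ hχ d hd hpd
    classical
    haveI : Fact p.Prime := ⟨hp⟩
    haveI : Fintype G := Fintype.ofFinite G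
    haveI := hN
    by_cases hNtop : N = ⊤
    · subst hNtop
      exact isIrrCharacter_comp_equiv (Subgroup.topEquiv : (⊤ : Subgroup G) ≃* G) hχ
    · haveI : Nontrivial (G ⧸ N) := by
        rw [QuotientGroup.nontrivial_iff]
        exact hNtop
      have hcardQ : Nat.card (G ⧸ N) = p ^ a := by rw [← Subgroup.index_eq_card, ha]
      have hPG : IsPGroup p (G ⧸ N) := IsPGroup.of_card hcardQ
      haveI : Group.IsNilpotent (G ⧸ N) := hPG.isNilpotent
      obtain ⟨M₀, hM₀n, hM₀⟩ := Cfsg.Agent.Helper55.exists_normal_prime_index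
        (X := G ⧸ N) inferInstance
      have hM₀p : M₀.index = p := by
        have h1 : M₀.index ∣ p ^ a := by
          rw [← hcardQ]
          exact Subgroup.index_dvd_card M₀
        exact (Nat.prime_dvd_prime_iff_eq hM₀ hp).mp (hM₀.dvd_of_dvd_pow h1)
      set M : Subgroup G := M₀.comap (QuotientGroup.mk' N) with hMdef
      have hMn : M.Normal := hM₀n.comap _
      have hNM : N ≤ M := by
        intro n hn
        rw [hMdef, Subgroup.mem_comap, QuotientGroup.mk'_apply, (QuotientGroup.eq_one_iff n).mpr hn]
        exact one_mem _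
      have hMidx : M.index = p := by
        rw [hMdef, Subgroup.index_comap_of_surjective M₀ (QuotientGroup.mk'_surjective N), hM₀p]
      have hχM := restrict_irr_prime_index hp M hMn hMidx hχ d hd hpd
      -- apply the induction hypothesis inside `M`
      have hcardM : Nat.card M < c := by
        rw [← hc, ← Subgroup.card_mul_index M, hMidx]
        have : 0 < Nat.card M := Nat.card_pos
        have := hp.one_lt
        nlinarith
      have hidx' : (N.subgroupOf M).index * p = p ^ a := by
        have := Subgroup.relIndex_mul_index hNM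
        rw [hMidx, ha] at this
        exact this
      obtain ⟨a', rfl⟩ : ∃ a', a = a' + 1 := by
        cases a with
        | zero =>
          exfalso
          simp only [pow_zero] at hidx'
          have : p ∣ 1 := ⟨_, by rw [← hidx']; ring⟩
          exact hp.one_lt.ne' (Nat.dvd_one.mp this)
        | succ n => exact ⟨n, rfl⟩
      have hidx'' : (N.subgroupOf M).index = p ^ a' := by
        rw [pow_succ] at hidx'
        exact Nat.eq_of_mul_eq_mul_right hp.pos hidx'
      have hIH := ih (Nat.card M) hcardM M rfl (N.subgroupOf M) (hN.subgroupOf M) a' hidx''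
        (fun m : M => χ m) hχM d (by simpa using hd) hpd
      let ι : N.subgroupOf M ≃* N := Subgroup.subgroupOfEquivOfLe hNM
      exact isIrrCharacter_comp_equiv ι.symm hIH

theorem restrict_irr {G : Type u} [Group G] [Finite G] {p : ℕ} (hp : p.Prime) (N : Subgroup G)
    (hN : N.Normal) (a : ℕ) (ha : N.index = p ^ a) {χ : G → ℂ} (hχ : IsIrrCharacter G χ)
    (d : ℕ) (hd : χ 1 = d) (hpd : ¬ p ∣ d) : IsIrrCharacter N (fun n : N => χ n) :=
  restrict_irr_aux p hp (Nat.card G) G rfl N hN a ha χ hχ d hd hpd

end Cfsg.Agent.Helper75
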