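import Mathlib

set_option autoImplicit false
set_option linter.style.haveILetI false
set_option linter.unusedSectionVars false

namespace Cfsg.Agent.Helper75

/-- Weighted orbit counting for a `p`-group action: a sum of an invariant weight is congruent
modulo `p` to the sum over the fixed points. -/
theorem sum_modEq_sum_fixed {P : Type*} [Group P] {p : ℕ} [Fact p.Prime] (hP : IsPGroup p P)
    {α : Type*} [MulAction P α] [Fintype α] (w : α → ℕ) (hw : ∀ (g : P) (a : α), w (g • a) = w a)
    (q : α → Prop) [DecidablePred q] (hq : ∀ a, q a ↔ ∀ g : P, g • a = a) :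
    ∑ a, w a ≡ ∑ a ∈ Finset.univ.filter q, w a [MOD p] := by
  classical
  let β := {x : α × ℕ // x.2 < w x.1}
  letI : MulAction P β :=
    { smul := fun g x => ⟨(g • x.1.1, x.1.2), by rw [hw]; exact x.2⟩
      one_smul := fun x => Subtype.ext (Prod.ext (one_smul P x.1.1) rfl)
      mul_smul := fun g h x => Subtype.ext (Prod.ext (mul_smul g h x.1.1) rfl) }
  have hsmul : ∀ (g : P) (x : β), ((g • x : β) : α × ℕ) = (g • x.1.1, x.1.2) := fun _ _ => rfl
  let e : β ≃ Σ a : α, Fin (w a) :=
    { toFun := fun x => ⟨x.1.1, ⟨x.1.2, x.2⟩⟩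
      invFun := fun y => ⟨(y.1, y.2.1), y.2.2⟩
      left_inv := fun x => rfl
      right_inv := fun y => rfl }
  haveI : Finite β := Finite.of_equiv _ e.symm
  have h1 := hP.card_modEq_card_fixedPoints β
  have hc1 : Nat.card β = ∑ a, w a := by
    rw [Nat.card_congr e, Nat.card_eq_fintype_card, Fintype.card_sigma]
    simp
  let e2 : MulAction.fixedPoints P β ≃ Σ a : {a : α // q a}, Fin (w a) :=
    { toFun := fun x => ⟨⟨x.1.1.1, (hq _).mpr fun g => by
          have h := x.2 g
          have h' := congrArg (fun y : β => y.1.1) h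
          simpa [hsmul] using h'⟩, ⟨x.1.1.2, x.1.2⟩⟩
      invFun := fun y => ⟨⟨(y.1.1, y.2.1), y.2.2⟩, fun g =>
          Subtype.ext (Prod.ext ((hq _).mp y.1.2 g) rfl)⟩
      left_inv := fun x => rfl
      right_inv := fun y => rfl }
  have hc2 : Nat.card (MulAction.fixedPoints P β) = ∑ a ∈ Finset.univ.filter q, w a := by
    rw [Nat.card_congr e2, Nat.card_eq_fintype_card, Fintype.card_sigma]
    simp only [Fintype.card_fin]
    rw [Finset.sum_subtype (Finset.univ.filter q) (p := q) (by simp) w]
  rw [hc1, hc2] at h1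
  exact h1

end Cfsg.Agent.Helper75
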