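import Mathlib
import Cfsg.Prelude.Def_Characters

set_option autoImplicit false

namespace Cfsg.Agent.Helper75

open scoped ComplexConjugate
open Polynomial Module

/-- A finite-order endomorphism of a finite-dimensional complex vector space has an eigenbasis. -/
theorem exists_eigenbasis_of_pow_eq_one {V : Type*} [AddCommGroup V] [Module ℂ V]
    [FiniteDimensional ℂ V] (A : Module.End ℂ V) (m : ℕ) (hm : 0 < m) (hA : A ^ m = 1) :
    ∃ (v : Basis (Fin (finrank ℂ V)) ℂ V) (μ : Fin (finrank ℂ V) → ℂ), ∀ i, A (v i) = μ i • v i := by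
  classical
  have hss : A.IsSemisimple := by
    apply Module.End.isSemisimple_of_squarefree_aeval_eq_zero (p := (X : ℂ[X]) ^ m - 1)
    · apply Separable.squarefree
      exact separable_X_pow_sub_C (1 : ℂ) (by exact_mod_cast hm.ne') one_ne_zero
    · simp [hA]
  have eigenDecomp := DirectSum.isInternal_submodule_of_iSupIndep_of_iSup_eq_top
    A.eigenspaces_iSupIndep hss.iSup_eigenspace_eq_top
  let I := (ν : ℂ) × Fin (finrank ℂ (A.eigenspace ν))
  let v : Basis I ℂ V := eigenDecomp.collectedBasis fun μ ↦ finBasis ℂ (A.eigenspace μ)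
  have : Fintype I := FiniteDimensional.fintypeBasisIndex v
  let μ : I → ℂ := Sigma.fst
  have hsv (i : I) : A (v i) = μ i • v i :=
    Module.End.mem_eigenspace_iff.mp (eigenDecomp.collectedBasis_mem _ i)
  have hcard : Fintype.card I = finrank ℂ V := (finrank_eq_card_basis v).symm
  let e : I ≃ Fin (finrank ℂ V) := Fintype.equivFinOfCardEq hcard
  refine ⟨v.reindex e, fun j => μ (e.symm j), fun j => ?_⟩
  simp only [Basis.reindex_apply]
  exact hsv _

theorem pow_apply_eigenvector {V : Type*} [AddCommGroup V] [Module ℂ V]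
    (A : Module.End ℂ V) (x : V) (c : ℂ) (h : A x = c • x) (k : ℕ) : (A ^ k) x = c ^ k • x := by
  induction k with
  | zero => simp
  | succ k ih =>
    rw [pow_succ, Module.End.mul_apply, h, map_smul, ih, smul_smul, pow_succ, mul_comm]

theorem trace_pow_eigenbasis {V : Type*} [AddCommGroup V] [Module ℂ V] {ι : Type*} [Fintype ι]
    [DecidableEq ι] (A : Module.End ℂ V) (v : Basis ι ℂ V) (μ : ι → ℂ)
    (h : ∀ i, A (v i) = μ i • v i) (k : ℕ) :
    LinearMap.trace ℂ V (A ^ k) = ∑ i, μ i ^ k := by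
  rw [LinearMap.trace_eq_matrix_trace ℂ v, Matrix.trace]
  apply Finset.sum_congr rfl
  intro i _
  rw [Matrix.diag_apply, LinearMap.toMatrix_apply, pow_apply_eigenvector A (v i) (μ i) (h i) k]
  simp

/-- Eigenvalues of `ρ g`: a family of roots of unity whose power sums are the character values
at the powers of `g`. -/
theorem exists_eigenvalues {G : Type*} [Group G] {V : Type*} [AddCommGroup V]
    [Module ℂ V] [FiniteDimensional ℂ V] (ρ : Representation ℂ G V) (g : G) (m : ℕ) (hm : 0 < m)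
    (hg : g ^ m = 1) :
    ∃ μ : Fin (finrank ℂ V) → ℂ, (∀ i, μ i ^ m = 1) ∧
      ∀ k : ℕ, ρ.character (g ^ k) = ∑ i, μ i ^ k := by
  classical
  have hA : (ρ g) ^ m = 1 := by rw [← map_pow, hg, map_one]
  obtain ⟨v, μ, hv⟩ := exists_eigenbasis_of_pow_eq_one (ρ g) m hm hA
  refine ⟨μ, fun i => ?_, fun k => ?_⟩
  · have h1 := pow_apply_eigenvector (ρ g) (v i) (μ i) (hv i) m
    rw [hA, Module.End.one_apply] at h1
    have h3 : (μ i ^ m - 1) • v i = 0 := by
      rw [sub_smul, ← h1]; simp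
    rcases smul_eq_zero.mp h3 with h | h
    · exact sub_eq_zero.mp h
    · exact absurd h (v.ne_zero i)
  · unfold Representation.character
    rw [map_pow]
    exact trace_pow_eigenbasis (ρ g) v μ hv k

theorem conj_eq_inv_of_pow_eq_one (μ : ℂ) (m : ℕ) (hm : 0 < m) (h : μ ^ m = 1) :
    conj μ = μ⁻¹ := by
  have h2 : ‖μ‖ ^ m = 1 := by rw [← norm_pow, h, norm_one]
  have h3 : ‖μ‖ = 1 := (pow_eq_one_iff_of_nonneg (norm_nonneg _) hm.ne').mp h2
  have h4 : μ * conj μ = 1 := by
    rw [Complex.mul_conj, Complex.normSq_eq_norm_sq, h3]; simp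
  exact (eq_inv_of_mul_eq_one_right h4)

/-- The value of a character at the inverse is the complex conjugate. -/
theorem char_inv {G : Type*} [Group G] [Finite G] {V : Type*} [AddCommGroup V]
    [Module ℂ V] [FiniteDimensional ℂ V] (ρ : Representation ℂ G V) (g : G) :
    ρ.character g⁻¹ = conj (ρ.character g) := by
  have hm : 0 < orderOf g := orderOf_pos g
  obtain ⟨μ, hμ, hchar⟩ := exists_eigenvalues ρ g (orderOf g) hm (pow_orderOf_eq_one g)
  have h1 : g⁻¹ = g ^ (orderOf g - 1) := by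
    rw [eq_comm, ← mul_eq_one_iff_eq_inv, ← pow_succ, Nat.sub_add_cancel hm, pow_orderOf_eq_one]
  have h2 := hchar 1
  rw [pow_one] at h2
  rw [h1, hchar, h2, map_sum]
  apply Finset.sum_congr rfl
  intro i _
  rw [pow_one, conj_eq_inv_of_pow_eq_one (μ i) _ hm (hμ i)]
  apply eq_inv_of_mul_eq_one_left
  rw [← pow_succ, Nat.sub_add_cancel hm, hμ i]

theorem norm_char_le {G : Type*} [Group G] [Finite G] {V : Type*} [AddCommGroup V]
    [Module ℂ V] [FiniteDimensional ℂ V] (ρ : Representation ℂ G V) (g : G) :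
    ‖ρ.character g‖ ≤ finrank ℂ V := by
  have hm : 0 < orderOf g := orderOf_pos g
  obtain ⟨μ, hμ, hchar⟩ := exists_eigenvalues ρ g (orderOf g) hm (pow_orderOf_eq_one g)
  have h2 := hchar 1
  rw [pow_one] at h2
  rw [h2]
  refine (norm_sum_le _ _).trans ?_
  have : ∀ i ∈ (Finset.univ : Finset (Fin (finrank ℂ V))), ‖μ i ^ 1‖ ≤ 1 := by
    intro i _
    rw [pow_one]
    have h2 : ‖μ i‖ ^ orderOf g = 1 := by rw [← norm_pow, hμ i, norm_one]
    exact ((pow_eq_one_iff_of_nonneg (norm_nonneg _) hm.ne').mp h2).le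
  refine (Finset.sum_le_sum this).trans ?_
  simp

/-- Character values at powers of `g` as values of one integer polynomial at powers of a
primitive root of unity. -/
theorem exists_poly {G : Type*} [Group G] {V : Type*} [AddCommGroup V]
    [Module ℂ V] [FiniteDimensional ℂ V] (ρ : Representation ℂ G V) (g : G) (N : ℕ) (hN : 0 < N)
    (hg : g ^ N = 1) (ζ : ℂ) (hζ : IsPrimitiveRoot ζ N) :
    ∃ F : ℤ[X], F.eval 1 = (finrank ℂ V : ℤ) ∧ ∀ k : ℕ, ρ.character (g ^ k) = aeval (ζ ^ k) F := by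
  classical
  obtain ⟨μ, hμ, hchar⟩ := exists_eigenvalues ρ g N hN hg
  have : NeZero N := ⟨hN.ne'⟩
  have hex : ∀ i, ∃ a : ℕ, ζ ^ a = μ i := by
    intro i
    obtain ⟨a, _, ha⟩ := hζ.eq_pow_of_pow_eq_one (hμ i)
    exact ⟨a, ha⟩
  choose a ha using hex
  refine ⟨∑ i, (X : ℤ[X]) ^ a i, ?_, fun k => ?_⟩
  · simp [eval_finsetSum]
  · rw [hchar, map_sum]
    apply Finset.sum_congr rfl
    intro i _
    rw [map_pow, aeval_X, ← ha i, ← pow_mul, ← pow_mul, mul_comm]

/-- Vanishing of an integer polynomial at one primitive root is equivalent to vanishing at any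
other. -/
theorem aeval_primitiveRoot_eq_zero_iff (N : ℕ) (hN : 0 < N) (η η' : ℂ)
    (hη : IsPrimitiveRoot η N) (hη' : IsPrimitiveRoot η' N) (P : ℤ[X]) :
    aeval η P = 0 ↔ aeval η' P = 0 := by
  rw [minpoly.isIntegrallyClosed_dvd_iff (hη.isIntegral hN),
    minpoly.isIntegrallyClosed_dvd_iff (hη'.isIntegral hN),
    ← cyclotomic_eq_minpoly hη hN, ← cyclotomic_eq_minpoly hη' hN]

/-- The product of the values of an integer polynomial at all primitive `N`-th roots of unity is a
rational integer (it is a norm from the cyclotomic field). -/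
theorem prod_aeval_primitiveRoots_int (N : ℕ) (hN : 0 < N) (P : ℤ[X]) :
    ∃ z : ℤ, (z : ℂ) = ∏ η ∈ primitiveRoots N ℂ, aeval η P := by
  have : NeZero N := ⟨hN.ne'⟩
  have hcyc : IsCyclotomicExtension {N} ℚ (CyclotomicField N ℚ) :=
    CyclotomicField.isCyclotomicExtension N ℚ
  have hζK : IsPrimitiveRoot (IsCyclotomicExtension.zeta N ℚ (CyclotomicField N ℚ)) N :=
    IsCyclotomicExtension.zeta_spec N ℚ (CyclotomicField N ℚ)
  set ζK := IsCyclotomicExtension.zeta N ℚ (CyclotomicField N ℚ) with hζKdef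
  set x : CyclotomicField N ℚ := aeval ζK P with hx
  have hxint : IsIntegral ℤ x := by
    have h1 : IsIntegral ℤ ζK := hζK.isIntegral hN
    rw [hx, aeval_eq_sum_range]
    apply IsIntegral.sum
    intro i _
    exact (h1.pow i).smul _
  have hnorm : IsIntegral ℤ (Algebra.norm ℚ x) := Algebra.isIntegral_norm ℚ hxint
  obtain ⟨z, hz⟩ := IsIntegrallyClosed.isIntegral_iff.mp hnorm
  refine ⟨z, ?_⟩
  have h1 := Algebra.norm_eq_prod_embeddings ℚ ℂ x
  have hirr : Irreducible (cyclotomic N ℚ) := cyclotomic.irreducible_rat hN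
  rw [← hz] at h1
  simp only [algebraMap_int_eq, eq_intCast, eq_ratCast, Rat.cast_intCast] at h1
  rw [h1]
  rw [← Finset.prod_coe_sort (primitiveRoots N ℂ)]
  apply Fintype.prod_equiv (hζK.embeddingsEquivPrimitiveRoots ℂ hirr)
  intro σ
  rw [IsPrimitiveRoot.embeddingsEquivPrimitiveRoots_apply_coe, hx]
  exact (aeval_algHom_apply (σ : CyclotomicField N ℚ →+* ℂ).toIntAlgHom ζK P).symm

/-- If an integer polynomial does not vanish at a primitive `N`-th root of unity, the product of
the absolute values at all primitive `N`-th roots of unity is at least one. -/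
theorem one_le_prod_norm_aeval (N : ℕ) (hN : 0 < N) (ζ : ℂ) (hζ : IsPrimitiveRoot ζ N) (P : ℤ[X])
    (hP : aeval ζ P ≠ 0) : 1 ≤ ∏ η ∈ primitiveRoots N ℂ, ‖aeval η P‖ := by
  obtain ⟨z, hz⟩ := prod_aeval_primitiveRoots_int N hN P
  have hne : ∏ η ∈ primitiveRoots N ℂ, aeval η P ≠ 0 := by
    rw [Finset.prod_ne_zero_iff]
    intro η hη
    rw [mem_primitiveRoots hN] at hη
    exact fun h0 => hP ((aeval_primitiveRoot_eq_zero_iff N hN ζ η hζ hη P).mpr h0)
  rw [← norm_prod, ← hz]
  rw [← hz] at hne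
  have hz0 : z ≠ 0 := by
    intro h0; apply hne; simp [h0]
  have : (1 : ℝ) ≤ |(z : ℝ)| := by
    have : (1 : ℤ) ≤ |z| := Int.one_le_abs hz0
    exact_mod_cast this
  simpa using this

/-- AM-GM in the form needed: nonnegative reals with product at least one have sum at least
their number. -/
theorem card_le_sum_of_one_le_prod {ι : Type*} (s : Finset ι) (z : ι → ℝ)
    (hz : ∀ i ∈ s, 0 ≤ z i) (h : 1 ≤ ∏ i ∈ s, z i) : (s.card : ℝ) ≤ ∑ i ∈ s, z i := by
  rcases s.eq_empty_or_nonempty with rfl | hne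
  · simp
  have hcard : (0 : ℝ) < s.card := by exact_mod_cast hne.card_pos
  have key := Real.geom_mean_le_arith_mean s (fun _ => (1 : ℝ)) z (fun _ _ => zero_le_one)
    (by simpa using hcard) hz
  simp only [Real.rpow_one, Finset.sum_const, nsmul_eq_mul, mul_one, one_mul] at key
  have h1 : (1 : ℝ) ≤ (∏ i ∈ s, z i) ^ ((s.card : ℝ))⁻¹ :=
    Real.one_le_rpow h (inv_nonneg.mpr hcard.le)
  have h2 := h1.trans key
  rwa [le_div_iff₀ hcard, one_mul] at h2

section Character

variable {G : Type*} [Group G] [Finite G] {V : Type*} [AddCommGroup V] [Module ℂ V]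
  [FiniteDimensional ℂ V] (ρ : Representation ℂ G V)

theorem exists_primitiveRoot_card (G : Type*) [Group G] [Finite G] :
    ∃ ζ : ℂ, IsPrimitiveRoot ζ (Nat.card G) :=
  ⟨_, Complex.isPrimitiveRoot_exp _ Nat.card_pos.ne'⟩

/-- Galois conjugation preserves vanishing of character values. -/
theorem char_pow_coprime_eq_zero_iff (g : G) (k : ℕ) (hk : k.Coprime (Nat.card G)) :
    ρ.character (g ^ k) = 0 ↔ ρ.character g = 0 := by
  have hN : 0 < Nat.card G := Nat.card_pos
  obtain ⟨ζ, hζ⟩ := exists_primitiveRoot_card G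
  obtain ⟨F, -, hF⟩ := exists_poly ρ g (Nat.card G) hN (pow_card_eq_one') ζ hζ
  have h1 := hF 1
  rw [pow_one, pow_one] at h1
  rw [hF k, h1]
  exact aeval_primitiveRoot_eq_zero_iff _ hN _ _ (hζ.pow_of_coprime k hk) hζ F

theorem aeval_conj_int (F : ℤ[X]) (η : ℂ) : aeval (conj η) F = conj (aeval η F) :=
  aeval_algHom_apply (starRingEnd ℂ).toIntAlgHom η F

theorem aeval_normSq_poly (N : ℕ) (hN : 0 < N) (F : ℤ[X]) (c : ℤ) (η : ℂ) (hη : η ^ N = 1) :
    aeval η (F * expand ℤ (N - 1) F - C c) = ((‖aeval η F‖ ^ 2 - c : ℝ) : ℂ) := by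
  have h1 : η ^ (N - 1) = conj η := by
    rw [conj_eq_inv_of_pow_eq_one η N hN hη]
    apply eq_inv_of_mul_eq_one_left
    rw [← pow_succ, Nat.sub_add_cancel hN, hη]
  rw [map_sub, map_mul, expand_aeval, h1, aeval_conj_int, Complex.mul_conj,
    Complex.normSq_eq_norm_sq, aeval_C]
  simp

/-- Galois conjugation preserves the property that the squared absolute value of a character
value is a given integer. -/
theorem normSq_char_pow_coprime_eq_int_iff (g : G) (k : ℕ) (hk : k.Coprime (Nat.card G)) (c : ℤ) :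
    ‖ρ.character (g ^ k)‖ ^ 2 = c ↔ ‖ρ.character g‖ ^ 2 = c := by
  have hN : 0 < Nat.card G := Nat.card_pos
  obtain ⟨ζ, hζ⟩ := exists_primitiveRoot_card G
  obtain ⟨F, -, hF⟩ := exists_poly ρ g (Nat.card G) hN (pow_card_eq_one') ζ hζ
  have h1 := hF 1
  rw [pow_one, pow_one] at h1
  have hζk := hζ.pow_of_coprime k hk
  have key := aeval_primitiveRoot_eq_zero_iff _ hN _ _ hζk hζ
    (F * expand ℤ (Nat.card G - 1) F - C c)
  rw [aeval_normSq_poly _ hN F c _ hζk.pow_eq_one, aeval_normSq_poly _ hN F c _ hζ.pow_eq_one,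
    ← hF k, ← h1] at key
  simp only [Complex.ofReal_eq_zero, sub_eq_zero] at key
  exact key

/-- Burnside's inequality: on a set of elements closed under the Galois action on which the
character does not vanish, the mean of `|χ|^2` is at least one. -/
theorem card_le_sum_normSq (T : Finset G)
    (hT : ∀ g ∈ T, ∀ k : ℕ, k.Coprime (Nat.card G) → g ^ k ∈ T)
    (hne : ∀ g ∈ T, ρ.character g ≠ 0) :
    (T.card : ℝ) ≤ ∑ g ∈ T, ‖ρ.character g‖ ^ 2 := by
  classical
  have hN : 0 < Nat.card G := Nat.card_pos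
  have : NeZero (Nat.card G) := ⟨hN.ne'⟩
  obtain ⟨ζ, hζ⟩ := exists_primitiveRoot_card G
  choose F _ hF using fun g : G => exists_poly ρ g (Nat.card G) hN (pow_card_eq_one') ζ hζ
  set R := primitiveRoots (Nat.card G) ℂ with hR
  have hζR : ζ ∈ R := (mem_primitiveRoots hN).mpr hζ
  have hRpos : (0 : ℝ) < R.card := by exact_mod_cast Finset.card_pos.mpr ⟨ζ, hζR⟩
  -- step 1
  have step1 : ∀ g ∈ T, (R.card : ℝ) ≤ ∑ η ∈ R, ‖aeval η (F g)‖ ^ 2 := by
    intro g hg
    apply card_le_sum_of_one_le_prod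
    · intro i _; positivity
    · rw [Finset.prod_pow]
      have h1 := hF g 1
      rw [pow_one, pow_one] at h1
      have := one_le_prod_norm_aeval _ hN ζ hζ (F g) (by rw [← h1]; exact hne g hg)
      exact one_le_pow₀ this
  -- step 2
  have step2 : ∀ η ∈ R, ∑ g ∈ T, ‖aeval η (F g)‖ ^ 2 = ∑ g ∈ T, ‖ρ.character g‖ ^ 2 := by
    intro η hη
    rw [hR, mem_primitiveRoots hN, hζ.isPrimitiveRoot_iff] at hη
    obtain ⟨k, -, hk, rfl⟩ := hη
    have himg : T.image (powCoprime hk.symm) = T := by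
      apply Finset.eq_of_subset_of_card_le
      · intro x hx
        obtain ⟨g, hg, rfl⟩ := Finset.mem_image.mp hx
        exact hT g hg k hk
      · rw [Finset.card_image_of_injective _ (powCoprime hk.symm).injective]
    conv_rhs => rw [← himg]
    rw [Finset.sum_image (fun x _ y _ h => (powCoprime hk.symm).injective h)]
    apply Finset.sum_congr rfl
    intro g _
    rw [← hF g k]
    rfl
  -- step 3
  have h3 : (R.card : ℝ) * T.card ≤ R.card * ∑ g ∈ T, ‖ρ.character g‖ ^ 2 := by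
    calc (R.card : ℝ) * T.card = ∑ g ∈ T, (R.card : ℝ) := by
          rw [Finset.sum_const, nsmul_eq_mul, mul_comm]
      _ ≤ ∑ g ∈ T, ∑ η ∈ R, ‖aeval η (F g)‖ ^ 2 := Finset.sum_le_sum step1
      _ = ∑ η ∈ R, ∑ g ∈ T, ‖aeval η (F g)‖ ^ 2 := Finset.sum_comm
      _ = ∑ η ∈ R, ∑ g ∈ T, ‖ρ.character g‖ ^ 2 := Finset.sum_congr rfl step2
      _ = R.card * ∑ g ∈ T, ‖ρ.character g‖ ^ 2 := by
          rw [Finset.sum_const, nsmul_eq_mul]
  exact le_of_mul_le_mul_left h3 hRpos

/-- First orthogonality for one irreducible representation: `∑ |χ(g)|^2 = |G|`. -/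
theorem sum_normSq_irr [Fintype G] [ρ.IsIrreducible] :
    ∑ g : G, ‖ρ.character g‖ ^ 2 = (Nat.card G : ℝ) := by
  classical
  have hN : (Nat.card G : ℂ) ≠ 0 := by exact_mod_cast (Nat.card_pos (α := G)).ne'
  have : Invertible (Nat.card G : ℂ) := invertibleOfNonzero hN
  have h := Representation.char_orthonormal ρ ρ
  rw [if_pos ⟨Representation.Equiv.refl ρ⟩] at h
  have h2 : ∑ g : G, ρ.character g * ρ.character g⁻¹ = (Nat.card G : ℂ) := by
    have := congrArg (fun x => (Nat.card G : ℂ) * x) h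
    simp only [← mul_assoc, mul_inv_cancel₀ hN, one_mul] at this
    simpa using this
  have h3 : ∀ g : G, ρ.character g * ρ.character g⁻¹ = ((‖ρ.character g‖ ^ 2 : ℝ) : ℂ) := by
    intro g
    rw [char_inv, Complex.mul_conj, Complex.normSq_eq_norm_sq]
  simp only [h3] at h2
  have h4 : ((∑ g : G, ‖ρ.character g‖ ^ 2 : ℝ) : ℂ) = ((Nat.card G : ℝ) : ℂ) := by
    push_cast
    simpa using h2
  exact_mod_cast h4

end Character

end Cfsg.Agent.Helper75
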