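import Mathlib
import Cfsg.Agent.S1017
import Cfsg.Agent.Lib.Helper17.Sieve

/-!
# Fixed-point kill for orders of simple groups (helper75)

`not_bad`: the actual number of Sylow `p`-subgroups of a nonabelian simple group is not `Bad`
(same proof as `Helper17.Sieve.sylow_kill`, stated for the actual Sylow number).
`exists_fix`: fixed-point data of an element of prime order `r` in `C(P)`, `|P| = p`.
-/

set_option autoImplicit false

namespace Cfsg.Agent.Helper75.FixKill

open Nat MulAction Cfsg.Agent.Helper17 Cfsg.Agent.Helper17.Sieve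

/-- the actual Sylow number is not `Bad` -/
theorem not_bad {G : Type*} [Group G] [Finite G] [IsSimpleGroup G] (hna : ¬ IsMulCommutative G)
    (p k m : ℕ) [hp : Fact p.Prime] (hk : k ≠ 0) (hm1 : m ≠ 1) (hn : Nat.card G = p ^ k * m)
    (hpm : ¬ p ∣ m) : ¬ Bad (p ^ k * m) p k m (Nat.card (Sylow p G)) := by
  intro hbad

  obtain ⟨hd1, hd2⟩ := sylow_count (G := G) hn hpm
  have hne := sylow_count_ne_one (G := G) hn hpm hk hm1
  obtain ⟨P⟩ : Nonempty (Sylow p G) := inferInstance
  have hPc := sylow_card_eq P hn hpm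
  have hNd := card_normalizer_mul_sylow_count P
  have hm0 : m ≠ 0 := fun h0 => hpm (h0 ▸ dvd_zero p)
  have hdpos : 0 < Nat.card (Sylow p G) := Nat.card_pos
  have hppos : 0 < p := hp.out.pos
  rcases hbad with h1 | ⟨hk1, hg⟩ | ⟨hk2, hdm⟩ | ⟨hk1, hdp, hp2, hnd⟩ | ⟨hp5, hd21⟩ | h2
  · exact hne h1
  · -- Burnside transfer, Sylow subgroup of prime order
    subst hk1
    rw [pow_one] at hPc hn
    have hGp : Nat.card G ≠ p := by
      rw [hn]; intro h
      have : p * m = p * 1 := by rw [h, mul_one]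
      exact hm1 (Nat.eq_of_mul_eq_mul_left hppos this)
    obtain ⟨e, he1, he2, he3⟩ := exists_e P hPc hGp
    have hcyc : IsCyclic ↥(P : Subgroup G) := isCyclic_of_prime_card hPc
    have hcomm : IsMulCommutative ↥(P : Subgroup G) := ⟨⟨IsCyclic.commGroup.mul_comm⟩⟩
    have hPC : (P : Subgroup G) ≤ Subgroup.centralizer ((P : Subgroup G) : Set G) :=
      Subgroup.le_centralizer_iff_isMulCommutative.2 hcomm
    obtain ⟨c, hc⟩ : p ∣ Nat.card ↥(Subgroup.centralizer ((P : Subgroup G) : Set G)) := by
      conv_lhs => rw [← hPc]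
      exact Subgroup.card_dvd_of_le hPC
    obtain ⟨j, hj⟩ := hd1
    -- |N| * d = p * m = p * (d * j)
    have hNj : Nat.card ↥(Subgroup.normalizer ((P : Subgroup G) : Set G)) = p * j := by
      have : Nat.card ↥(Subgroup.normalizer ((P : Subgroup G) : Set G)) * Nat.card (Sylow p G) =
          (p * j) * Nat.card (Sylow p G) := by rw [hNd, hn, hj]; ring
      exact Nat.eq_of_mul_eq_mul_right hdpos this
    have hmd : m / Nat.card (Sylow p G) = j := by
      rw [hj]; exact Nat.mul_div_cancel_left j hdpos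
    rw [hmd] at hg
    have hej : e ∣ j := by
      rw [hc, hNj] at he3
      have : c * e = j := by
        apply Nat.eq_of_mul_eq_mul_left hppos
        rw [← he3]; ring
      exact ⟨c, by rw [← this]; ring⟩
    have : e ∣ 1 := by rw [← hg]; exact Nat.dvd_gcd hej he1
    exact he2 (Nat.dvd_one.1 this)
  · -- Sylow subgroup of order `p ^ 2` equal to its normalizer
    subst hk2
    have hNP : Nat.card ↥(Subgroup.normalizer ((P : Subgroup G) : Set G)) = p ^ 2 := by
      have : Nat.card ↥(Subgroup.normalizer ((P : Subgroup G) : Set G)) * Nat.card (Sylow p G) =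
          p ^ 2 * Nat.card (Sylow p G) := by rw [hNd, hn, hdm]
      exact Nat.eq_of_mul_eq_mul_right hdpos this
    have hle : (P : Subgroup G) ≤ Subgroup.normalizer ((P : Subgroup G) : Set G) :=
      Subgroup.le_normalizer
    have heq : (P : Subgroup G) = Subgroup.normalizer ((P : Subgroup G) : Set G) :=
      Subgroup.eq_of_le_of_card_ge hle (by rw [hNP, hPc])
    have hcomm : IsMulCommutative ↥(P : Subgroup G) :=
      IsPGroup.isMulCommutative_of_card_eq_prime_sq hPc
    have hPC : (P : Subgroup G) ≤ Subgroup.centralizer ((P : Subgroup G) : Set G) :=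
      Subgroup.le_centralizer_iff_isMulCommutative.2 hcomm
    apply not_normalizer_le_centralizer P
    · rw [hPc]; exact (Nat.one_lt_pow two_ne_zero hp.out.one_lt).ne'
    · rw [hPc, hn]; intro h
      have : p ^ 2 * 1 = p ^ 2 * m := by rw [mul_one]; exact h
      exact hm1 (Nat.eq_of_mul_eq_mul_left (pow_pos hppos 2) this).symm
    · rw [← heq]; exact hPC
  · -- `p + 1` Sylow subgroups: normalizer inside the alternating group of degree `p + 1`
    subst hk1
    rw [pow_one] at hPc hn hnd
    have h2 := two_mul_card_normalizer_dvd hna hp2 P hPc hdp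
    apply hnd
    have hN : Nat.card ↥(Subgroup.normalizer ((P : Subgroup G) : Set G)) = p * m / (p + 1) := by
      rw [← hn, ← hNd, hdp]
      exact (Nat.mul_div_cancel _ (by omega)).symm
    rw [hdp, ← hN]
    exact h2
  · -- no group has exactly `21` Sylow `5`-subgroups
    subst hp5
    exact Cfsg.Agent.S1010.result hd21
  · -- the group embeds in the alternating group on its Sylow subgroups
    apply h2
    rw [← hn]
    exact sylow_count_factorial hna hne

/-- the arithmetic shape of the fixed-point data `(f, m')` of an element of prime order `r`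
centralising a Sylow `p`-subgroup of order `p`: `n = |G|`, `d = n_p`, `N = |N(P)|`. -/
def FixOK (n p d N r f m' : ℕ) : Prop :=
  m' ≤ N ∧ f % p = 1 ∧ f % r = d % r ∧ (r = 2 → f % 4 = d % 4) ∧ f < d ∧
    (d - 1 < p * (f - 1) → (p * r ∣ m' ∧ m' ∣ N ∧ f * m' ∣ n))

instance (n p d N r f m' : ℕ) : Decidable (FixOK n p d N r f m') := by
  unfold FixOK; infer_instance

/-- fixed-point data of an element of prime order `r ≠ p` in `C(P)` acting on `Syl_p(G)`. -/
theorem exists_fix {G : Type*} [Group G] [Finite G] [IsSimpleGroup G] (h2 : 2 < Nat.card G)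
    {p r : ℕ} [hp : Fact p.Prime] [hr : Fact r.Prime] (hpr : p ≠ r) (P : Sylow p G)
    (hP : Nat.card (P : Subgroup G) = p) (hd1 : 1 < Nat.card (Sylow p G))
    (hrC : r ∣ Nat.card (Subgroup.centralizer ((P : Subgroup G) : Set G))) :
    ∃ f m' : ℕ, FixOK (Nat.card G) p (Nat.card (Sylow p G))
      (Nat.card (Subgroup.normalizer ((P : Subgroup G) : Set G))) r f m' := by
  obtain ⟨u', hu'⟩ := exists_prime_orderOf_dvd_card'
    (G := ↥(Subgroup.centralizer ((P : Subgroup G) : Set G))) r hrC
  have hu : orderOf (u' : G) = r := by rw [Subgroup.orderOf_coe]; exact hu'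
  have huC : (u' : G) ∈ Subgroup.centralizer ((P : Subgroup G) : Set G) := u'.2
  set u : G := (u' : G) with hudef
  have hu1 : u ≠ 1 := Cfsg.Agent.S1017.ne_one_of_orderOf_prime u hr.out hu
  refine ⟨Nat.card (fixedBy (Sylow p G) u),
    Nat.card ↥(Subgroup.normalizer ((P : Subgroup G) : Set G) ⊓
      Subgroup.centralizer ({u} : Set G)), ?_, ?_, ?_, ?_, ?_, ?_⟩
  · exact Subgroup.card_le_of_le inf_le_left
  · have h0 := Cfsg.Agent.S1017.card_fixedBy_sylow_modEq P hP u huC
    rw [Nat.ModEq, Nat.mod_eq_of_lt hp.out.one_lt] at h0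
    exact h0
  · have h0 := Cfsg.Agent.S1017.card_modEq_card_fixedBy (α := Sylow p G) u hu
    exact h0.symm
  · intro hr2
    subst hr2
    exact Cfsg.Agent.S1017.card_fixedBy_mod_four h2 u hu
  · have hle := Cfsg.Agent.S1017.card_fixedBy_le (α := Sylow p G) u
    have hne := Cfsg.Agent.S1017.card_fixedBy_ne (α := Sylow p G)
      (Cfsg.Agent.S1017.sylow_action_nontrivial hd1) u hu1
    omega
  · intro hbig
    have hcard := Cfsg.Agent.S1017.card_centralizer_eq P hP u huC hbig
    refine ⟨?_, ?_, ?_⟩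
    · have hPle : (P : Subgroup G) ≤ Subgroup.normalizer ((P : Subgroup G) : Set G) ⊓
          Subgroup.centralizer ({u} : Set G) :=
        le_inf Subgroup.le_normalizer ((Cfsg.Agent.S1017.le_centralizer_singleton_iff _ u).2 huC)
      have hpd : p ∣ Nat.card ↥(Subgroup.normalizer ((P : Subgroup G) : Set G) ⊓
          Subgroup.centralizer ({u} : Set G)) := by
        conv_lhs => rw [← hP]
        exact Subgroup.card_dvd_of_le hPle
      have humem : u ∈ Subgroup.normalizer ((P : Subgroup G) : Set G) ⊓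
          Subgroup.centralizer ({u} : Set G) := by
        refine ⟨Subgroup.centralizer_le_normalizer _ huC, ?_⟩
        show u ∈ Subgroup.centralizer ({u} : Set G)
        rw [Subgroup.mem_centralizer_iff]
        intro y hy
        rw [Set.mem_singleton_iff] at hy
        rw [hy]
      have hrd : r ∣ Nat.card ↥(Subgroup.normalizer ((P : Subgroup G) : Set G) ⊓
          Subgroup.centralizer ({u} : Set G)) := by
        rw [← hu]
        exact Subgroup.orderOf_dvd_natCard _ humem
      have hcop : Nat.Coprime p r := (Nat.coprime_primes hp.out hr.out).2 hpr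
      exact hcop.mul_dvd_of_dvd_of_dvd hpd hrd
    · exact Subgroup.card_dvd_of_le inf_le_left
    · rw [← hcard]
      exact Subgroup.card_subgroup_dvd_card _

/-- link certificate: the prime `q ≠ p` divides `n` exactly once and no admissible number `dq` of
Sylow `q`-subgroups has `p ∣ n / dq = |N(Q)|`. -/
def LinkOK (n p q : ℕ) : Prop :=
  q.Prime ∧ q ≠ p ∧ q ∣ n ∧ ¬ q ∣ n / q ∧ n / q ≠ 1 ∧
    ∀ dq ∈ List.range (n / q + 1), dq ∣ n / q → dq % q = 1 →
      ¬ Bad (q ^ 1 * (n / q)) q 1 (n / q) dq → ¬ p ∣ n / dq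

instance (n p q : ℕ) : Decidable (LinkOK n p q) := by unfold LinkOK; infer_instance

/-- the decidable certificate for `fix_kill`: for every admissible Sylow number `d` and every
admissible index `e = |N(P) : C(P)|`, either there is a prime `r ≠ p` dividing
`|C(P)| = p m / (d e)` for which no fixed-point data exist, or a prime `q` dividing `|C(P)|` with
`LinkOK`. -/
def FixCert (p m : ℕ) : Prop :=
  ∀ d ∈ List.range (m + 1), d ∣ m → d % p = 1 → ¬ Bad (p ^ 1 * m) p 1 m d →
    ∀ e ∈ List.range p, e ∣ p - 1 → e ≠ 1 → d * e ∣ p * m →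
      (∃ r ∈ List.range (p * m / (d * e) + 1), r.Prime ∧ r ≠ p ∧ r ∣ p * m / (d * e) ∧
        ∀ f ∈ List.range d, ∀ m' ∈ List.range (p * m / d + 1),
          ¬ FixOK (p * m) p d (p * m / d) r f m') ∨
      (∃ q ∈ List.range (p * m / (d * e) + 1), q ∣ p * m / (d * e) ∧ LinkOK (p * m) p q)

instance (p m : ℕ) : Decidable (FixCert p m) := by unfold FixCert; infer_instance

/-- the link step: if `q ∣ |C(P)|` then `LinkOK` is impossible. -/
theorem link_absurd {G : Type*} [Group G] [Finite G] [IsSimpleGroup G] (hna : ¬ IsMulCommutative G)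
    {n p q : ℕ} [hp : Fact p.Prime] (hn0 : Nat.card G = n) (P : Sylow p G)
    (hPall : ∀ P : Sylow p G, Nat.card (P : Subgroup G) = p)
    (hqc : q ∣ Nat.card ↥(Subgroup.centralizer ((P : Subgroup G) : Set G)))
    (hL : LinkOK n p q) : False := by
  obtain ⟨hqp, hqne, hqn, hqm, hm1, hall⟩ := hL
  have : Fact q.Prime := ⟨hqp⟩
  have hqpos : 0 < q := hqp.pos
  have hn : Nat.card G = q ^ 1 * (n / q) := by
    rw [hn0, pow_one, Nat.mul_div_cancel' hqn]
  have hQall : ∀ Q : Sylow q G, Nat.card (Q : Subgroup G) = q := by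
    intro Q
    have h0 := sylow_card_eq Q hn hqm
    rwa [pow_one] at h0
  obtain ⟨Q, hQ⟩ := sylow_link hPall hQall P hqc
  obtain ⟨hdm, hdq⟩ := sylow_count (G := G) hn hqm
  have hnb := not_bad hna q 1 (n / q) one_ne_zero hm1 hn hqm
  have hm0 : n / q ≠ 0 := fun h0 => hqm (h0 ▸ dvd_zero q)
  have hdle : Nat.card (Sylow q G) ≤ n / q := Nat.le_of_dvd (Nat.pos_of_ne_zero hm0) hdm
  have hNd := card_normalizer_mul_sylow_count Q
  have hdpos : 0 < Nat.card (Sylow q G) := Nat.card_pos
  have hNdiv : n / Nat.card (Sylow q G) =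
      Nat.card ↥(Subgroup.normalizer ((Q : Subgroup G) : Set G)) := by
    rw [← hn0, ← hNd]; exact Nat.mul_div_cancel _ hdpos
  apply hall _ (List.mem_range.2 (by omega)) hdm hdq hnb
  rw [hNdiv]
  exact hQ.trans (Subgroup.card_dvd_of_le (Subgroup.centralizer_le_normalizer _))

/-- **fixed-point kill**: no nonabelian simple group of order `p * m` (`p ∤ m`) if `FixCert p m`. -/
theorem fix_kill.{u} {p m : ℕ} (hp : p.Prime) (hpm : ¬ p ∣ m) (hm1 : m ≠ 1) (h : FixCert p m) :
    NoSimple.{u} (p * m) := by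
  intro G _ _ _ hna hn0
  have : Fact p.Prime := ⟨hp⟩
  have hn : Nat.card G = p ^ 1 * m := by rw [hn0, pow_one]
  have hppos : 0 < p := hp.pos
  have hm0 : m ≠ 0 := fun h0 => hpm (h0 ▸ dvd_zero p)
  obtain ⟨P⟩ : Nonempty (Sylow p G) := inferInstance
  have hPall : ∀ P : Sylow p G, Nat.card (P : Subgroup G) = p := by
    intro P
    have h0 := sylow_card_eq P hn hpm
    rwa [pow_one] at h0
  have hPc : Nat.card (P : Subgroup G) = p := hPall P
  obtain ⟨hdm, hdp⟩ := sylow_count (G := G) hn hpm
  have hnb := not_bad hna p 1 m one_ne_zero hm1 hn hpm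
  have hne := sylow_count_ne_one (G := G) hn hpm one_ne_zero hm1
  have hdpos : 0 < Nat.card (Sylow p G) := Nat.card_pos
  have hd1 : 1 < Nat.card (Sylow p G) := by omega
  have hNd := card_normalizer_mul_sylow_count P
  have hGp : Nat.card G ≠ p := by
    rw [hn0]; intro h0
    have : p * m = p * 1 := by rw [h0, mul_one]
    exact hm1 (Nat.eq_of_mul_eq_mul_left hppos this)
  obtain ⟨e, he1, he2, he3⟩ := exists_e P hPc hGp
  set d := Nat.card (Sylow p G) with hd
  set N := Nat.card ↥(Subgroup.normalizer ((P : Subgroup G) : Set G)) with hN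
  set c := Nat.card ↥(Subgroup.centralizer ((P : Subgroup G) : Set G)) with hc
  have hdle : d ≤ m := Nat.le_of_dvd (Nat.pos_of_ne_zero hm0) hdm
  have hele : e < p := by
    have h0 : e ≤ p - 1 := Nat.le_of_dvd (by have := hp.two_le; omega) he1
    omega
  have hced : c * (d * e) = p * m := by
    rw [← hn0, ← hNd, ← he3]; ring
  have hde : d * e ∣ p * m := ⟨c, by rw [← hced]; ring⟩
  have hepos : 0 < e := Nat.pos_of_dvd_of_pos he1 (by have := hp.two_le; omega)
  have hcdiv : p * m / (d * e) = c := by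
    rw [← hced]; exact Nat.mul_div_cancel _ (Nat.mul_pos hdpos hepos)
  have hNdiv : p * m / d = N := by
    rw [← hn0, ← hNd]; exact Nat.mul_div_cancel _ hdpos
  rcases h d (List.mem_range.2 (by omega)) hdm hdp hnb e (List.mem_range.2 hele) he1 he2 hde with
    ⟨r, -, hrp, hrne, hrc, hall⟩ | ⟨q, -, hqc, hL⟩
  · have : Fact r.Prime := ⟨hrp⟩
    rw [hcdiv] at hrc
    have h2 : 2 < Nat.card G := by
      rw [hn0]
      have h3 : 2 ≤ p := hp.two_le
      have h4 : 2 ≤ m := by omega
      nlinarith
    obtain ⟨f, m', hfix⟩ := exists_fix h2 (Ne.symm hrne) P hPc hd1 hrc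
    rw [hn0] at hfix
    have hfd : f < d := hfix.2.2.2.2.1
    have hm'N : m' ≤ N := hfix.1
    refine hall f (List.mem_range.2 hfd) m' (List.mem_range.2 (by rw [hNdiv]; omega)) ?_
    rw [hNdiv]
    exact hfix
  · rw [hcdiv] at hqc
    exact link_absurd hna hn0 P hPall hqc hL

end Cfsg.Agent.Helper75.FixKill
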