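import Mathlib
import Cfsg.Prelude.Def_OddOrderLocal
import Cfsg.Agent.S1453

set_option autoImplicit false

namespace Cfsg.Agent.Helper75.S1423A2

open Subgroup Cfsg
open scoped commutatorElement

section general
variable {R : Type*} [Group R]

theorem elemAb_of_le {p : ℕ} {A B : Subgroup R} (hB : IsElementaryAbelian p B) (h : A ≤ B) :
    IsElementaryAbelian p A := by
  refine ⟨⟨⟨fun a b => ?_⟩⟩, fun a ha => hB.2 a (h ha)⟩
  have := hB.1
  have h1 := mul_comm' (⟨a.1, h a.2⟩ : B) ⟨b.1, h b.2⟩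
  apply Subtype.ext
  exact congrArg (fun z : B => (z : R)) h1

theorem elemAb_comm {p : ℕ} {A : Subgroup R} (hA : IsElementaryAbelian p A) {a b : R}
    (ha : a ∈ A) (hb : b ∈ A) : a * b = b * a := by
  have := hA.1
  exact congrArg Subtype.val (mul_comm' (⟨a, ha⟩ : A) ⟨b, hb⟩)

theorem elemAb_sup {p : ℕ} {A B : Subgroup R} (hA : IsElementaryAbelian p A)
    (hB : IsElementaryAbelian p B) (hAB : A ≤ centralizer (B : Set R)) :
    IsElementaryAbelian p (A ⊔ B) := by
  have hBA : B ≤ centralizer (A : Set R) := Subgroup.le_centralizer_iff.mp hAB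
  have hAA : A ≤ centralizer (A : Set R) := fun a ha =>
    Subgroup.mem_centralizer_iff.mpr fun b hb => elemAb_comm hA hb ha
  have hBB : B ≤ centralizer (B : Set R) := fun a ha =>
    Subgroup.mem_centralizer_iff.mpr fun b hb => elemAb_comm hB hb ha
  have hcen : A ⊔ B ≤ centralizer ((A ⊔ B : Subgroup R) : Set R) := by
    rw [Subgroup.le_centralizer_iff]
    refine sup_le ?_ ?_
    · rw [Subgroup.le_centralizer_iff]; exact sup_le hAA hBA
    · rw [Subgroup.le_centralizer_iff]; exact sup_le hAB hBB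
  have hcomm : ∀ x ∈ A ⊔ B, ∀ y ∈ A ⊔ B, x * y = y * x := fun x hx y hy =>
    (Subgroup.mem_centralizer_iff.mp (hcen hy) x hx)
  refine ⟨⟨⟨fun a b => Subtype.ext (hcomm a.1 a.2 b.1 b.2)⟩⟩, ?_⟩
  intro x hx
  have key : x ∈ A ⊔ B ∧ x ^ p = 1 := by
    rw [sup_eq_closure] at hx
    induction hx using Subgroup.closure_induction with
    | mem y hy =>
      rcases hy with hy | hy
      · exact ⟨(le_sup_left : A ≤ A ⊔ B) hy, hA.2 y hy⟩
      · exact ⟨(le_sup_right : B ≤ A ⊔ B) hy, hB.2 y hy⟩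
    | one => exact ⟨one_mem _, one_pow _⟩
    | mul y z _ _ ihy ihz =>
      refine ⟨mul_mem ihy.1 ihz.1, ?_⟩
      have hc : Commute y z := hcomm y ihy.1 z ihz.1
      rw [hc.mul_pow, ihy.2, ihz.2, one_mul]
    | inv y _ ihy => exact ⟨inv_mem ihy.1, by rw [inv_pow, ihy.2, inv_one]⟩
  exact key.2

theorem elemAb_map {p : ℕ} {R' : Type*} [Group R'] (f : R →* R') {A : Subgroup R}
    (hA : IsElementaryAbelian p A) : IsElementaryAbelian p (A.map f) := by
  refine ⟨⟨⟨fun a b => ?_⟩⟩, ?_⟩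
  · obtain ⟨x, hx, hxa⟩ := a.2
    obtain ⟨y, hy, hyb⟩ := b.2
    apply Subtype.ext
    show a.1 * b.1 = b.1 * a.1
    rw [← hxa, ← hyb, ← map_mul, ← map_mul, elemAb_comm hA hx hy]
  · rintro _ ⟨x, hx, rfl⟩
    rw [← map_pow, hA.2 x hx, map_one]

theorem elemAb_comap_subtype {p : ℕ} (S : Subgroup R) {A : Subgroup R}
    (hA : IsElementaryAbelian p A) : IsElementaryAbelian p (A.subgroupOf S) := by
  refine ⟨⟨⟨fun a b => ?_⟩⟩, ?_⟩
  · apply Subtype.ext; apply Subtype.ext
    exact elemAb_comm hA (Subgroup.mem_subgroupOf.mp a.2) (Subgroup.mem_subgroupOf.mp b.2)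
  · intro a ha
    apply Subtype.ext
    have := hA.2 a.1 (Subgroup.mem_subgroupOf.mp ha)
    simpa using this

/-- A `p`-group of order greater than `p ^ 2` has order at least `p ^ 3`. -/
theorem pow_three_le_card [Finite R] {p : ℕ} [hp : Fact p.Prime] (hR : IsPGroup p R)
    (B : Subgroup R) (h : p ^ 2 < Nat.card B) : p ^ 3 ≤ Nat.card B := by
  obtain ⟨k, hk⟩ := (IsPGroup.iff_card.mp (hR.to_subgroup B))
  rw [hk] at h ⊢
  have h2 : 2 < k := (Nat.pow_lt_pow_iff_right hp.out.one_lt).mp h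
  exact Nat.pow_le_pow_right hp.out.pos h2

/-- The intrinsic version of (A2). -/
theorem exists_elemAb_cube_ge [Finite R] (p : ℕ) [hp : Fact p.Prime] (hp2 : p ≠ 2)
    (hR : IsPGroup p R) (hr : ¬ PRankLE p 2 R)
    (E : Subgroup R) (hE : IsElementaryAbelian p E) (hE2 : Nat.card E = p ^ 2)
    (hEmax : ∀ B : Subgroup R, IsElementaryAbelian p B → E ≤ B → B = E)
    (X : Subgroup R) (hX : Nat.card X = p) (hXc : X ≤ commutator R) :
    ∃ B : Subgroup R, IsElementaryAbelian p B ∧ p ^ 3 ≤ Nat.card B ∧ X ≤ B := by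
  classical
  obtain ⟨-, -, ⟨hW, hWc⟩, hTchar, hTidx⟩ :=
    Cfsg.Agent.S1453.result p hp2 hR hr E hE hE2 hEmax
  set W : Subgroup R :=
    Subgroup.closure {x : R | x ∈ Subgroup.upperCentralSeries R 2 ∧ x ^ p = 1} with hWdef
  set T : Subgroup R := Subgroup.centralizer (W : Set R) with hTdef
  have hTn : T.Normal := by
    have := hTchar
    infer_instance
  -- `[R,R] ≤ T`
  have hcomT : commutator R ≤ T := by
    have hcardq : Nat.card (R ⧸ T) = p := by rw [← Subgroup.index_eq_card]; exact hTidx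
    have hcyc : IsCyclic (R ⧸ T) := isCyclic_of_prime_card hcardq
    let _ : CommGroup (R ⧸ T) := IsCyclic.commGroup
    have := Abelianization.commutator_subset_ker (QuotientGroup.mk' T)
    rwa [QuotientGroup.ker_mk'] at this
  have hXT : X ≤ T := hXc.trans hcomT
  -- `X` is elementary abelian
  have hXe : IsElementaryAbelian p X := by
    have hcyc : IsCyclic X := isCyclic_of_prime_card hX
    refine ⟨⟨⟨fun a b => ?_⟩⟩, fun a ha => ?_⟩
    · let _ : CommGroup X := IsCyclic.commGroup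
      exact mul_comm a b
    · have h1 : (⟨a, ha⟩ : X) ^ Nat.card X = 1 := pow_card_eq_one'
      rw [hX] at h1
      exact congrArg Subtype.val h1
  by_cases hXW : X ≤ W
  · -- second case: use a large elementary abelian subgroup `F`
    have hr' : ∃ F : Subgroup R, IsMulCommutative F ∧ (∀ a ∈ F, a ^ p = 1) ∧
        p ^ 2 < Nat.card F := by
      unfold PRankLE at hr
      push Not at hr
      exact hr
    obtain ⟨F, hFc, hFe, hFcard⟩ := hr'
    have hFel : IsElementaryAbelian p F := ⟨hFc, hFe⟩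
    have hFT : IsElementaryAbelian p (F ⊓ T) := elemAb_of_le hFel inf_le_left
    have hB : IsElementaryAbelian p ((F ⊓ T) ⊔ W) := elemAb_sup hFT hW inf_le_right
    refine ⟨(F ⊓ T) ⊔ W, hB, ?_, hXW.trans le_sup_right⟩
    apply pow_three_le_card hR
    by_contra hlt
    have hle : Nat.card ((F ⊓ T) ⊔ W : Subgroup R) ≤ Nat.card W := by
      rw [hWc]; exact not_lt.mp hlt
    have hBW : W = (F ⊓ T) ⊔ W := Subgroup.eq_of_le_of_card_ge le_sup_right hle
    have hFTW : F ⊓ T ≤ W := by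
      calc F ⊓ T ≤ (F ⊓ T) ⊔ W := le_sup_left
        _ = W := hBW.symm
    -- `|F : F ∩ T| ∣ p`
    have hrel : (F ⊓ T).relIndex F ∣ p := by
      rw [Subgroup.inf_relIndex_left, ← hTidx]
      exact Subgroup.relIndex_dvd_index_of_normal T F
    have hmul : Nat.card (F ⊓ T : Subgroup R) * (F ⊓ T).relIndex F = Nat.card F := by
      have := Subgroup.relIndex_mul_relIndex (⊥ : Subgroup R) (F ⊓ T) F bot_le inf_le_left
      rwa [Subgroup.relIndex_bot_left, Subgroup.relIndex_bot_left] at this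
    have hF3 : p ^ 3 ≤ Nat.card F := pow_three_le_card hR F hFcard
    have hle2 : Nat.card F ≤ Nat.card (F ⊓ T : Subgroup R) * p := by
      rw [← hmul]
      exact Nat.mul_le_mul_left _ (Nat.le_of_dvd hp.out.pos hrel)
    have hFT2 : p ^ 2 ≤ Nat.card (F ⊓ T : Subgroup R) := by
      have : p ^ 2 * p ≤ Nat.card (F ⊓ T : Subgroup R) * p := by
        calc p ^ 2 * p = p ^ 3 := by ring
          _ ≤ Nat.card F := hF3
          _ ≤ _ := hle2
      exact Nat.le_of_mul_le_mul_right this hp.out.pos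
    have hFTeq : F ⊓ T = W := Subgroup.eq_of_le_of_card_ge hFTW (by rw [hWc]; exact hFT2)
    have hWF : W ≤ F := hFTeq ▸ inf_le_left
    have hFleT : F ≤ T := by
      intro f hf
      rw [hTdef, Subgroup.mem_centralizer_iff]
      intro w hw
      exact elemAb_comm hFel (hWF hw) hf
    have hFW : F = W := by rw [← hFTeq]; exact (inf_eq_left.mpr hFleT).symm
    rw [hFW, hWc] at hFcard
    exact lt_irrefl _ hFcard
  · -- first case: `B = X W`
    have hB : IsElementaryAbelian p (X ⊔ W) := elemAb_sup hXe hW hXT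
    refine ⟨X ⊔ W, hB, ?_, le_sup_left⟩
    apply pow_three_le_card hR
    by_contra hlt
    have hle : Nat.card (X ⊔ W : Subgroup R) ≤ Nat.card W := by
      rw [hWc]; exact not_lt.mp hlt
    have hBW : W = X ⊔ W := Subgroup.eq_of_le_of_card_ge le_sup_right hle
    exact hXW (by
      calc X ≤ X ⊔ W := le_sup_left
        _ = W := hBW.symm)

end general

variable {G : Type*} [Group G] [Finite G]

/-- (A2) `p`-group lemma from S1453, exact signature requested by helper89 for S1423. -/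
theorem exists_elemAb_cube_ge_of_le_commutator (p : ℕ) [Fact p.Prime] (hp : p ≠ 2)
    (S : Subgroup G) (hS : IsPGroup p S) (hr : ¬ PRankLE p 2 ↥S)
    (E : Subgroup G) (hES : E ≤ S) (hE : IsElementaryAbelian p E) (hE2 : Nat.card E = p ^ 2)
    (hEmax : ∀ B : Subgroup G, B ≤ S → IsElementaryAbelian p B → E ≤ B → B = E)
    (X : Subgroup G) (hX : Nat.card X = p) (hXc : X ≤ ⁅S, S⁆) :
    ∃ B : Subgroup G, B ≤ S ∧ IsElementaryAbelian p B ∧ p ^ 3 ≤ Nat.card B ∧ X ≤ B := by
  classical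
  have hSS : ⁅S, S⁆ ≤ S := Subgroup.commutator_le.mpr fun a ha b hb =>
    S.mul_mem (S.mul_mem (S.mul_mem ha hb) (S.inv_mem ha)) (S.inv_mem hb)
  have hXS : X ≤ S := hXc.trans hSS
  have hE' : IsElementaryAbelian p (E.subgroupOf S) := elemAb_comap_subtype S hE
  have hE2' : Nat.card (E.subgroupOf S) = p ^ 2 := by
    rw [← hE2]; exact Nat.card_congr (Subgroup.subgroupOfEquivOfLe hES).toEquiv
  have hEmax' : ∀ B' : Subgroup ↥S, IsElementaryAbelian p B' → E.subgroupOf S ≤ B' →
      B' = E.subgroupOf S := by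
    intro B' hB' hEB'
    have h1 : B'.map S.subtype = E := by
      apply hEmax _ (Subgroup.map_subtype_le B') (elemAb_map S.subtype hB')
      intro e he
      exact ⟨⟨e, hES he⟩, hEB' (Subgroup.mem_subgroupOf.mpr he), rfl⟩
    rw [← h1]
    exact (Subgroup.comap_map_eq_self_of_injective (Subgroup.subtype_injective S) B').symm
  have hX' : Nat.card (X.subgroupOf S) = p := by
    rw [← hX]; exact Nat.card_congr (Subgroup.subgroupOfEquivOfLe hXS).toEquiv
  have hXc' : X.subgroupOf S ≤ commutator ↥S := by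
    intro x hx
    have hx1 : (x : G) ∈ ⁅S, S⁆ := hXc (Subgroup.mem_subgroupOf.mp hx)
    have hmap : ⁅S, S⁆ ≤ (commutator ↥S).map S.subtype := by
      rw [Subgroup.commutator_le]
      intro a ha b hb
      refine ⟨⁅(⟨a, ha⟩ : S), ⟨b, hb⟩⁆, ?_, rfl⟩
      rw [commutator_def]
      exact Subgroup.commutator_mem_commutator (Subgroup.mem_top _) (Subgroup.mem_top _)
    obtain ⟨y, hy, hyx⟩ := hmap hx1
    have : y = x := Subtype.ext hyx
    rwa [this] at hy
  obtain ⟨B', hB'e, hB'c, hXB'⟩ := exists_elemAb_cube_ge p hp hS hr (E.subgroupOf S) hE' hE2'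
    hEmax' (X.subgroupOf S) hX' hXc'
  refine ⟨B'.map S.subtype, Subgroup.map_subtype_le B', elemAb_map S.subtype hB'e, ?_, ?_⟩
  · rw [Subgroup.card_map_of_injective (Subgroup.subtype_injective S)]; exact hB'c
  · intro x hx
    exact ⟨⟨x, hXS hx⟩, hXB' (Subgroup.mem_subgroupOf.mpr hx), rfl⟩

end Cfsg.Agent.Helper75.S1423A2
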