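import Cfsg.Agent.S0179

set_option autoImplicit false
set_option linter.style.haveILetI false

namespace Cfsg.Agent.Helper75

open scoped ComplexConjugate
open Module Cfsg.Agent.Helper3

/-- Generalisation of "degree divides index of the centre" (Isaacs 3.12): if every element of a
subgroup `A` acts as a scalar in an irreducible representation, the degree divides `|G : A|`. -/
theorem finrank_dvd_index_of_scalar {G : Type*} [Group G] [Finite G] {V : Type*} [AddCommGroup V]
    [Module ℂ V] [FiniteDimensional ℂ V] (ρ : Representation ℂ G V) [ρ.IsIrreducible]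
    (A : Subgroup G) (hA : ∀ a ∈ A, ∃ c : ℂ, ρ a = c • (1 : Module.End ℂ V)) :
    Module.finrank ℂ V ∣ A.index := by
  classical
  haveI : Fintype G := Fintype.ofFinite G
  haveI : Fintype A := Fintype.ofFinite _
  haveI : Fintype (G ⧸ A) := Fintype.ofFinite _
  have hV := nontrivial_of_irr ρ
  choose! a ha1 using hA
  have ha4 : ∀ z ∈ A, ‖a z‖ = 1 := by
    intro z hz
    have h1 : (ρ z) ^ (orderOf z) = 1 := by rw [← map_pow, pow_orderOf_eq_one, map_one]
    rw [ha1 z hz, smul_pow, one_pow] at h1
    have h2 : (a z ^ orderOf z - 1) • (1 : Module.End ℂ V) = 0 := by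
      rw [sub_smul, h1, one_smul, sub_self]
    have h3 : a z ^ orderOf z = 1 := by
      rcases smul_eq_zero.mp h2 with h | h
      · exact sub_eq_zero.mp h
      · exact absurd h one_ne_zero
    exact Complex.norm_eq_one_of_pow_eq_one h3 (orderOf_pos z).ne'
  have ha5 : ∀ z ∈ A, ∀ g : G, ρ.character (g * z) = a z * ρ.character g := by
    intro z hz g
    unfold Representation.character
    rw [map_mul, ha1 z hz, mul_smul_comm, mul_one, map_smul, smul_eq_mul]
  set c : G → ℂ := fun x => conj (ρ.character x) with hcdef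
  have hcl : Cfsg.IsClassFunction G c := by
    intro x y
    simp only [hcdef, Representation.char_conj]
  have h := opSum_eq_smul_of_irr ρ c hcl
  have hsum : ∑ x, c x * ρ.character x = (Nat.card G : ℂ) := by
    have := classInner_irr_self (isIrrCharacter_of_rep ρ)
    unfold Cfsg.classInner at this
    have hG : (Nat.card G : ℂ) ≠ 0 := card_ne_zero_complex
    field_simp at this
    rw [← this]
    apply Finset.sum_congr rfl
    intro x _
    simp only [hcdef]; ring
  rw [hsum] at h
  set c' : G → ℂ := fun x => if ((x : G ⧸ A)).out = x then c x else 0 with hc'def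
  have hint : ∀ x, IsIntegral ℤ (c' x) := by
    intro x
    simp only [hc'def]
    split_ifs
    · exact isIntegral_conj (char_isIntegral ρ x)
    · exact isIntegral_zero
  have hinv : ∀ g : G, ∀ z ∈ A, c (g * z) • ρ (g * z) = c g • ρ g := by
    intro g z hz
    simp only [hcdef]
    rw [ha5 z hz g, map_mul ρ, ha1 z hz, map_mul, mul_smul_comm, mul_one, smul_smul]
    congr 1
    have h1 : conj (a z) * a z = 1 := by
      rw [mul_comm, Complex.mul_conj, Complex.normSq_eq_norm_sq, ha4 z hz]; simp
    calc conj (a z) * conj (ρ.character g) * a z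
        = (conj (a z) * a z) * conj (ρ.character g) := by ring
      _ = conj (ρ.character g) := by rw [h1, one_mul]
  have key : opSum ρ c = Nat.card A • opSum ρ c' := by
    unfold opSum
    rw [Cfsg.Agent.S0179.sum_eq_card_smul_sum_out A (fun g => c g • ρ g) hinv]
    congr 1
    rw [← Cfsg.Agent.S0179.sum_ite_out A (fun g => c g • ρ g)]
    apply Finset.sum_congr rfl
    intro g _
    simp only [hc'def]
    split_ifs <;> simp
  have hZpos : (Nat.card A : ℂ) ≠ 0 := by
    exact_mod_cast (Nat.card_pos (α := A)).ne'
  have hnpos : (finrank ℂ V : ℂ) ≠ 0 := by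
    exact_mod_cast (Module.finrank_pos (R := ℂ) (M := V)).ne'
  have h2 : opSum ρ c' = ((A.index : ℂ) / (finrank ℂ V : ℂ)) • (1 : Module.End ℂ V) := by
    have h3 : (Nat.card A : ℂ) • opSum ρ c'
        = ((Nat.card G : ℂ) / (finrank ℂ V : ℂ)) • (1 : Module.End ℂ V) := by
      rw [← h, key, Nat.cast_smul_eq_nsmul]
    have h4 : opSum ρ c' = (Nat.card A : ℂ)⁻¹ • ((Nat.card A : ℂ) • opSum ρ c') := by
      rw [smul_smul, inv_mul_cancel₀ hZpos, one_smul]
    rw [h4, h3, smul_smul]
    congr 1
    have h5 : (Nat.card G : ℂ) = (Nat.card A : ℂ) * (A.index : ℂ) := by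
      rw [← Subgroup.card_mul_index A]; push_cast; rfl
    rw [h5]
    field_simp
  have := isIntegral_of_opSum_eq_smul ρ c' hint _ h2
  exact rat_of_isIntegral_natCast_div _ _ (Module.finrank_pos (R := ℂ) (M := V)).ne' this

end Cfsg.Agent.Helper75
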