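import Mathlib
import Cfsg.Prelude.Def_OddOrderLocal

/-!
# `M` controls `G`-fusion in `M_σ` (Bender–Glauberman 14.4(a)), as a formal consequence of the
frozen statement S1374 (taken here as a hypothesis, in its exact shape).
-/

set_option autoImplicit false
open Cfsg

namespace Cfsg.Agent.Helper75.SigmaFusion

open Subgroup

variable {G : Type*} [Group G]

theorem sigmaCore_le (M : Subgroup G) : Cfsg.sigmaCore M ≤ M :=
  Subgroup.map_subtype_le _

/-- A coatom of a simple group which is not trivial is self-normalizing. -/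
theorem normalizer_eq_of_isCoatom [IsSimpleGroup G] {M : Subgroup G} (hM : IsCoatom M)
    (hM1 : M ≠ ⊥) : normalizer (M : Set G) = M := by
  rcases hM.le_iff.mp (le_normalizer : M ≤ normalizer (M : Set G)) with h | h
  · exfalso
    have hn : M.Normal := normalizer_eq_top_iff.mp h
    rcases hn.eq_bot_or_eq_top with h1 | h1
    · exact hM1 h1
    · exact hM.1 h1
  · exact h

/-- **B–G 14.4(a)** from S1374: two elements of `M_σ` conjugate in `G` are conjugate in `M`.
The hypothesis `h1374` has exactly the shape of the conclusion of the frozen statement S1374, so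
it is discharged by `fun x hx hx1 => Cfsg.Agent.S1374.result hG M hM x hx hx1`. -/
theorem sigmaCore_fusion [IsSimpleGroup G] (M : Subgroup G) (hM : IsCoatom M)
    (h1374 : ∀ x ∈ Cfsg.sigmaCore M, x ≠ 1 →
      (Nat.card ↥(M ⊓ Subgroup.centralizer ({x} : Set G))).Coprime
          ((M ⊓ Subgroup.centralizer ({x} : Set G)).relIndex (Subgroup.centralizer ({x} : Set G))) ∧
        ∃ R : Subgroup G, Subgroup.centralizer ({x} : Set G) ≤ Subgroup.normalizer (R : Set G) ∧
          Cfsg.IsComplIn (M ⊓ Subgroup.centralizer ({x} : Set G)) R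
            (Subgroup.centralizer ({x} : Set G)) ∧
          ∀ g : G, x ∈ M.map (MulAut.conj g).toMonoidHom →
            ∃! r : G, r ∈ R ∧ M.map (MulAut.conj r).toMonoidHom = M.map (MulAut.conj g).toMonoidHom) :
    ∀ x ∈ Cfsg.sigmaCore M, ∀ g : G, g * x * g⁻¹ ∈ Cfsg.sigmaCore M →
      ∃ m ∈ M, m * x * m⁻¹ = g * x * g⁻¹ := by
  intro x hx g hgx
  by_cases hx1 : x = 1
  · subst hx1; exact ⟨1, M.one_mem, by group⟩
  have hxM : x ∈ M := sigmaCore_le M hx
  have hM1 : M ≠ ⊥ := by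
    intro h; rw [h, Subgroup.mem_bot] at hxM; exact hx1 hxM
  set y := g * x * g⁻¹ with hy
  have hy1 : y ≠ 1 := by
    intro h; exact hx1 (conj_eq_one_iff.mp h)
  obtain ⟨-, R, -, hcompl, hR⟩ := h1374 y hgx hy1
  have hyg : y ∈ M.map (MulAut.conj g).toMonoidHom := ⟨x, hxM, rfl⟩
  obtain ⟨r, ⟨hrR, hrM⟩, -⟩ := hR g hyg
  have hrc : r ∈ Subgroup.centralizer ({y} : Set G) := hcompl.2.1 hrR
  have hry : y * r = r * y := by
    rw [Subgroup.mem_centralizer_iff] at hrc
    exact hrc y rfl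
  set m := r⁻¹ * g with hm
  have hmN : m ∈ normalizer (M : Set G) := by
    rw [Subgroup.mem_normalizer_iff]
    have key : ∀ z : G, z ∈ M → r⁻¹ * g * z * (r⁻¹ * g)⁻¹ ∈ M := by
      intro z hz
      have h1 : g * z * g⁻¹ ∈ M.map (MulAut.conj g).toMonoidHom := ⟨z, hz, rfl⟩
      rw [← hrM] at h1
      obtain ⟨w, hw, hwe⟩ := h1
      have hwe' : r * w * r⁻¹ = g * z * g⁻¹ := hwe
      have h2 : r⁻¹ * g * z * (r⁻¹ * g)⁻¹ = w := by
        have : r⁻¹ * g * z * (r⁻¹ * g)⁻¹ = r⁻¹ * (g * z * g⁻¹) * r := by group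
        rw [this, ← hwe']; group
      rw [h2]; exact hw
    have key' : ∀ z : G, z ∈ M → (r⁻¹ * g)⁻¹ * z * (r⁻¹ * g) ∈ M := by
      intro z hz
      have h1 : r * z * r⁻¹ ∈ M.map (MulAut.conj r).toMonoidHom := ⟨z, hz, rfl⟩
      rw [hrM] at h1
      obtain ⟨w, hw, hwe⟩ := h1
      have hwe' : g * w * g⁻¹ = r * z * r⁻¹ := hwe
      have h2 : (r⁻¹ * g)⁻¹ * z * (r⁻¹ * g) = w := by
        have : (r⁻¹ * g)⁻¹ * z * (r⁻¹ * g) = g⁻¹ * (r * z * r⁻¹) * g := by group
        rw [this, ← hwe']; group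
      rw [h2]; exact hw
    intro z
    constructor
    · intro hz; exact key z hz
    · intro hz
      have h3 := key' _ hz
      have h4 : (r⁻¹ * g)⁻¹ * (r⁻¹ * g * z * (r⁻¹ * g)⁻¹) * (r⁻¹ * g) = z := by group
      rwa [h4] at h3
  rw [normalizer_eq_of_isCoatom hM hM1] at hmN
  refine ⟨m, hmN, ?_⟩
  have h5 : m * x * m⁻¹ = r⁻¹ * y * r := by rw [hm, hy]; group
  rw [h5]
  have h6 : r⁻¹ * y * r = r⁻¹ * (y * r) := by group
  rw [h6, hry]; group

end Cfsg.Agent.Helper75.SigmaFusion
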