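import Mathlib
import Cfsg.Agent.Lib.Helper75.FixKill

/-!
# Exercise orders for S0983 (helper17's sieve): orders killed by the fixed-point certificate
-/

set_option autoImplicit false

namespace Cfsg.Agent.Helper75.SV

open Cfsg.Agent.Helper17.Sieve Cfsg.Agent.Helper75.FixKill

set_option maxRecDepth 100000 in
theorem cert_3696 : FixCert 11 336 := by decide +kernel

/-- no nonabelian simple group of order 3696 -/
theorem no_3696.{u} : NoSimple.{u} 3696 :=
  fix_kill (p := 11) (m := 336) (by norm_num) (by norm_num) (by norm_num) cert_3696

set_option maxRecDepth 100000 in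
theorem cert_3780 : FixCert 7 540 := by decide +kernel

/-- no nonabelian simple group of order 3780 -/
theorem no_3780.{u} : NoSimple.{u} 3780 :=
  fix_kill (p := 7) (m := 540) (by norm_num) (by norm_num) (by norm_num) cert_3780

set_option maxRecDepth 100000 in
theorem cert_4160 : FixCert 13 320 := by decide +kernel

/-- no nonabelian simple group of order 4160 -/
theorem no_4160.{u} : NoSimple.{u} 4160 :=
  fix_kill (p := 13) (m := 320) (by norm_num) (by norm_num) (by norm_num) cert_4160

set_option maxRecDepth 100000 in
theorem cert_4200 : FixCert 7 600 := by decide +kernel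

/-- no nonabelian simple group of order 4200 -/
theorem no_4200.{u} : NoSimple.{u} 4200 :=
  fix_kill (p := 7) (m := 600) (by norm_num) (by norm_num) (by norm_num) cert_4200

set_option maxRecDepth 100000 in
theorem cert_4400 : FixCert 11 400 := by decide +kernel

/-- no nonabelian simple group of order 4400 -/
theorem no_4400.{u} : NoSimple.{u} 4400 :=
  fix_kill (p := 11) (m := 400) (by norm_num) (by norm_num) (by norm_num) cert_4400

set_option maxRecDepth 100000 in
theorem cert_4480 : FixCert 7 640 := by decide +kernel

/-- no nonabelian simple group of order 4480 -/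
theorem no_4480.{u} : NoSimple.{u} 4480 :=
  fix_kill (p := 7) (m := 640) (by norm_num) (by norm_num) (by norm_num) cert_4480

set_option maxRecDepth 100000 in
theorem cert_4928 : FixCert 11 448 := by decide +kernel

/-- no nonabelian simple group of order 4928 -/
theorem no_4928.{u} : NoSimple.{u} 4928 :=
  fix_kill (p := 11) (m := 448) (by norm_num) (by norm_num) (by norm_num) cert_4928

set_option maxRecDepth 100000 in
theorem cert_5200 : FixCert 13 400 := by decide +kernel

/-- no nonabelian simple group of order 5200 -/
theorem no_5200.{u} : NoSimple.{u} 5200 :=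
  fix_kill (p := 13) (m := 400) (by norm_num) (by norm_num) (by norm_num) cert_5200

set_option maxRecDepth 100000 in
theorem cert_5236 : FixCert 7 748 := by decide +kernel

/-- no nonabelian simple group of order 5236 -/
theorem no_5236.{u} : NoSimple.{u} 5236 :=
  fix_kill (p := 7) (m := 748) (by norm_num) (by norm_num) (by norm_num) cert_5236

set_option maxRecDepth 100000 in
theorem cert_5852 : FixCert 7 836 := by decide +kernel

/-- no nonabelian simple group of order 5852 -/
theorem no_5852.{u} : NoSimple.{u} 5852 :=
  fix_kill (p := 7) (m := 836) (by norm_num) (by norm_num) (by norm_num) cert_5852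

set_option maxRecDepth 100000 in
theorem cert_6160 : FixCert 7 880 := by decide +kernel

/-- no nonabelian simple group of order 6160 -/
theorem no_6160.{u} : NoSimple.{u} 6160 :=
  fix_kill (p := 7) (m := 880) (by norm_num) (by norm_num) (by norm_num) cert_6160

end Cfsg.Agent.Helper75.SV
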