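import Mathlib
import Cfsg.Prelude.Def_OddOrder
import Cfsg.Prelude.Def_OddOrderLocal
import Cfsg.Agent.Lib.Helper52.Coprime
import Cfsg.Agent.Lib.Helper52.CoprimeHall
import Cfsg.Agent.Lib.Helper23.FittingHall
import Cfsg.Agent.Lib.Helper55.BGDecomp2

/-!
# Pure group theory for Bender–Glauberman Corollary 15.3 (S1438)

Hall subgroups of nilpotent groups, conjugation of `π`-subgroups into Hall subgroups of solvable
groups, and the fusion lemma for a Hall subgroup `H` of a group `S` with a normal Sylow subgroup `Q`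
having nilpotent complements.
-/

set_option autoImplicit false

namespace Cfsg.Agent.Helper75.BG153

open Subgroup Cfsg

section Abstract

variable {D : Type*} [Group D] [Finite D]

/-- A normal Hall subgroup contains every subgroup whose order divides its order. -/
theorem le_of_normal_hall (A : Subgroup D) [A.Normal]
    (hA : (Nat.card A).Coprime A.index) (B : Subgroup D) (hB : Nat.card B ∣ Nat.card A) :
    B ≤ A := by
  intro b hb
  have h1 : orderOf ((QuotientGroup.mk' A) b) ∣ Nat.card A := by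
    refine (orderOf_map_dvd _ b).trans ?_
    exact (Subgroup.orderOf_dvd_natCard B hb).trans hB
  have h2 : orderOf ((QuotientGroup.mk' A) b) ∣ A.index := by
    rw [Subgroup.index_eq_card]; exact _root_.orderOf_dvd_natCard _
  have h3 : orderOf ((QuotientGroup.mk' A) b) = 1 := Nat.eq_one_of_dvd_coprimes hA h1 h2
  have := orderOf_eq_one_iff.mp h3
  exact (QuotientGroup.eq_one_iff b).mp this

/-- A Hall subgroup of a nilpotent group is normal. -/
theorem hall_normal_of_nilpotent [Group.IsNilpotent D]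
    (A : Subgroup D) (hA : (Nat.card A).Coprime A.index) : A.Normal := by
  set N := normalizer (A : Set D) with hN
  by_contra hnot
  have hNtop : N < ⊤ := by
    rw [lt_top_iff_ne_top]
    intro h
    exact hnot (normalizer_eq_top_iff.mp h)
  have hlt := Group.normalizerCondition_of_isNilpotent (G := D) N hNtop
  obtain ⟨g, hgN', hgN⟩ := SetLike.exists_of_lt hlt
  apply hgN
  -- `A` is a normal Hall subgroup of `N`
  have hAN : A ≤ N := le_normalizer
  have hAn : (A.subgroupOf N).Normal := normal_subgroupOf_of_le_normalizer le_rfl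
  have hcardA : Nat.card (A.subgroupOf N) = Nat.card A :=
    Nat.card_congr (Subgroup.subgroupOfEquivOfLe hAN).toEquiv
  have hidx : (A.subgroupOf N).index ∣ A.index := by
    show A.relIndex N ∣ A.index
    exact Subgroup.relIndex_dvd_index_of_le hAN
  have hcop : (Nat.card (A.subgroupOf N)).Coprime (A.subgroupOf N).index := by
    rw [hcardA]
    exact Nat.Coprime.coprime_dvd_right hidx hA
  -- the conjugate of `A` by `g` lies in `N` and has the same order
  set A' : Subgroup D := A.map (MulAut.conj g).toMonoidHom with hA'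
  have hA'N : A' ≤ N := by
    rintro _ ⟨a, ha, rfl⟩
    have := (Subgroup.mem_normalizer_iff.mp hgN' a).mp (hAN ha)
    simpa using this
  have hcardA' : Nat.card A' = Nat.card A :=
    Subgroup.card_map_of_injective (MulAut.conj g).injective
  have hle : A'.subgroupOf N ≤ A.subgroupOf N := by
    apply le_of_normal_hall _ hcop
    rw [hcardA, Nat.card_congr (Subgroup.subgroupOfEquivOfLe hA'N).toEquiv, hcardA']
  have hle' : A' ≤ A := by
    intro x hx
    have : (⟨x, hA'N hx⟩ : N) ∈ A'.subgroupOf N := Subgroup.mem_subgroupOf.mpr hx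
    exact Subgroup.mem_subgroupOf.mp (hle this)
  have heq : A' = A := Subgroup.eq_of_le_of_card_ge hle' (by rw [hcardA'])
  rw [hN, Subgroup.mem_normalizer_iff]
  intro h
  constructor
  · intro hh
    rw [← heq]
    exact ⟨h, hh, rfl⟩
  · intro hh
    rw [← heq] at hh
    obtain ⟨a, ha, hae⟩ := hh
    have : a = h := by
      have h1 : g * a * g⁻¹ = g * h * g⁻¹ := hae
      exact mul_left_cancel (mul_right_cancel h1)
    rwa [← this]

/-- Hall subgroups of a given order in a nilpotent group are unique. -/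
theorem nil_hall_unique [Group.IsNilpotent D]
    (A B : Subgroup D) (hA : (Nat.card A).Coprime A.index) (hAB : Nat.card B = Nat.card A) :
    B = A := by
  have hn : A.Normal := hall_normal_of_nilpotent A hA
  exact Subgroup.eq_of_le_of_card_ge (le_of_normal_hall A hA B (by rw [hAB])) (by rw [hAB])

end Abstract

section Relative

universe u

variable {G : Type u} [Group G]

theorem conj_mem_of_le_normalizer {M S : Subgroup G} (h : M ≤ normalizer (S : Set G)) {m s : G}
    (hm : m ∈ M) (hs : s ∈ S) : m * s * m⁻¹ ∈ S :=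
  (Subgroup.mem_normalizer_iff.mp (h hm) s).mp hs

theorem map_conj_le_of_le_normalizer {M S L : Subgroup G} (h : M ≤ normalizer (S : Set G))
    (hL : L ≤ S) {m : G} (hm : m ∈ M) : L.map (MulAut.conj m).toMonoidHom ≤ S := by
  rintro _ ⟨l, hl, rfl⟩
  exact conj_mem_of_le_normalizer h hm (hL hl)

/-- `M` normalizes `L` as soon as it conjugates `L` into itself. -/
theorem le_normalizer_of_forall_conj_mem {M L : Subgroup G}
    (h : ∀ m ∈ M, ∀ x ∈ L, m * x * m⁻¹ ∈ L) : M ≤ normalizer (L : Set G) := by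
  intro m hm
  rw [Subgroup.mem_normalizer_iff]
  intro x
  constructor
  · exact h m hm x
  · intro hx
    have := h m⁻¹ (M.inv_mem hm) _ hx
    have e : m⁻¹ * (m * x * m⁻¹) * m⁻¹⁻¹ = x := by group
    rwa [e] at this

/-- elements of `K ⊔ A` when `A` normalizes `K` -/
theorem mem_sup_of_le_normalizer {K A : Subgroup G} (h : A ≤ normalizer (K : Set G)) {x : G}
    (hx : x ∈ K ⊔ A) : ∃ k ∈ K, ∃ a ∈ A, x = k * a := by
  let S : Subgroup G :=
    { carrier := {x | ∃ k ∈ K, ∃ a ∈ A, x = k * a}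
      one_mem' := ⟨1, K.one_mem, 1, A.one_mem, by simp⟩
      mul_mem' := by
        rintro _ _ ⟨k, hk, a, ha, rfl⟩ ⟨k', hk', a', ha', rfl⟩
        refine ⟨k * (a * k' * a⁻¹), K.mul_mem hk ?_, a * a', A.mul_mem ha ha', by group⟩
        exact (Subgroup.mem_normalizer_iff.mp (h ha) k').mp hk'
      inv_mem' := by
        rintro _ ⟨k, hk, a, ha, rfl⟩
        refine ⟨a⁻¹ * k⁻¹ * a⁻¹⁻¹, ?_, a⁻¹, A.inv_mem ha, by group⟩
        exact (Subgroup.mem_normalizer_iff.mp (h (A.inv_mem ha)) k⁻¹).mp (K.inv_mem hk) }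
  have hle : K ⊔ A ≤ S :=
    sup_le (fun k hk => ⟨k, hk, 1, A.one_mem, by simp⟩) (fun a ha => ⟨1, K.one_mem, a, ha, by simp⟩)
  exact hle hx

/-- If `S = Q D` with `Q ∩ D = 1` and `Q ≤ L ≤ S` then `L = Q (L ∩ D)` (Dedekind). -/
theorem isComplIn_inf {S Q D L : Subgroup G} (hD : IsComplIn Q D S) (hQL : Q ≤ L) (hLS : L ≤ S) :
    IsComplIn Q (L ⊓ D) L := by
  refine ⟨hQL, inf_le_left, ?_, ?_⟩
  · rw [eq_bot_iff]
    intro x hx
    rw [← hD.2.2.1]
    exact ⟨hx.1, hx.2.2⟩
  · intro l hl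
    obtain ⟨a, ha, b, hb, hab⟩ := hD.2.2.2 l (hLS hl)
    refine ⟨a, ha, b, ⟨?_, hb⟩, hab⟩
    have : b = a⁻¹ * l := by rw [hab]; group
    rw [this]
    exact L.mul_mem (L.inv_mem (hQL ha)) hl

variable [Finite G]

/-- A `π`-subgroup of a solvable group is conjugate into any Hall `π`-subgroup. -/
theorem exists_conj_le_hall {M U X : Subgroup G} (hM : Group.IsSolvable M) (hUM : U ≤ M)
    (hU : (Nat.card U).Coprime (U.relIndex M)) (hXM : X ≤ M)
    (hX : (Nat.card X).Coprime (U.relIndex M)) :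
    ∃ m ∈ M, X.map (MulAut.conj m).toMonoidHom ≤ U := by
  have hmn : Nat.card M = Nat.card U * U.relIndex M :=
    (Cfsg.Agent.Helper55.BGB.card_mul_relIndex hUM).symm
  obtain ⟨Q, hQM, hQc, hXQ, -⟩ := Cfsg.Agent.Helper52.exists_invariant_hall_ge
    (⊥ : Subgroup G) M X bot_le (by simp) hM _ _ hmn hU hXM bot_le hX
  obtain ⟨k, hk, hkQ⟩ := Cfsg.Agent.Helper52.hall_conj_internal M hM _ _ hmn hU Q U hQM hUM hQc rfl
  exact ⟨k, hk, by rw [hkQ]; exact Subgroup.map_mono hXQ⟩

/-- Schur–Zassenhaus/Hall: a Hall subgroup `Q` of the solvable group `S` has a complement. -/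
theorem exists_isComplIn_of_hall {S Q : Subgroup G} (hS : Group.IsSolvable S) (hQS : Q ≤ S)
    (hQ : (Nat.card Q).Coprime (Q.relIndex S)) : ∃ D : Subgroup G, IsComplIn Q D S := by
  have hmn : Nat.card S = Q.relIndex S * Nat.card Q := by
    rw [mul_comm]; exact (Cfsg.Agent.Helper55.BGB.card_mul_relIndex hQS).symm
  obtain ⟨D, hDS, hDc⟩ := Cfsg.Agent.Helper52.hall_exists_internal S hS _ _ hmn hQ.symm
  refine ⟨D, Cfsg.Agent.Helper55.BGB.isComplIn_of_card hQS hDS ?_ ?_⟩
  · exact (Subgroup.disjoint_of_coprime_natCard (by rw [hDc]; exact hQ)).eq_bot  -- placeholder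
  · rw [hDc, mul_comm]; exact hmn.symm

/-- With `S = Q D`, `D` nilpotent: a subgroup `L` between `Q` and `S` which is a Hall subgroup of
`S` is the only subgroup of its order between `Q` and `S`. -/
theorem eq_of_nilpotent_compl {S Q D L L₁ : Subgroup G} (hD : IsComplIn Q D S)
    (hDnil : Group.IsNilpotent D) (hQL : Q ≤ L) (hLS : L ≤ S) (hQL₁ : Q ≤ L₁) (hL₁S : L₁ ≤ S)
    (hcard : Nat.card L₁ = Nat.card L) (hHall : (Nat.card L).Coprime (L.relIndex S)) :
    L₁ = L := by
  have h1 := isComplIn_inf hD hQL hLS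
  have h2 := isComplIn_inf hD hQL₁ hL₁S
  have c1 := Cfsg.Agent.Helper23.card_of_isComplIn h1
  have c2 := Cfsg.Agent.Helper23.card_of_isComplIn h2
  have c0 := Cfsg.Agent.Helper23.card_of_isComplIn hD
  have hc : Nat.card (L₁ ⊓ D : Subgroup G) = Nat.card (L ⊓ D : Subgroup G) := by
    have : Nat.card Q * Nat.card (L₁ ⊓ D : Subgroup G) = Nat.card Q * Nat.card (L ⊓ D : Subgroup G) := by
      rw [← c1, ← c2, hcard]
    exact Nat.eq_of_mul_eq_mul_left Nat.card_pos this
  -- the relative index of `L ⊓ D` in `D` is that of `L` in `S`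
  have hrel : (L ⊓ D).relIndex D = L.relIndex S := by
    have e1 := Cfsg.Agent.Helper55.BGB.card_mul_relIndex (inf_le_right : L ⊓ D ≤ D)
    have e2 := Cfsg.Agent.Helper55.BGB.card_mul_relIndex hLS
    have : Nat.card L * (L ⊓ D).relIndex D = Nat.card L * L.relIndex S := by
      rw [e2, c0, ← e1, c1]; ring
    exact Nat.eq_of_mul_eq_mul_left Nat.card_pos this
  have hcop : (Nat.card ((L ⊓ D).subgroupOf D)).Coprime ((L ⊓ D).subgroupOf D).index := by
    have e : Nat.card ((L ⊓ D).subgroupOf D) = Nat.card (L ⊓ D : Subgroup G) :=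
      Nat.card_congr (Subgroup.subgroupOfEquivOfLe inf_le_right).toEquiv
    rw [e]
    show (Nat.card (L ⊓ D : Subgroup G)).Coprime ((L ⊓ D).relIndex D)
    rw [hrel]
    exact Nat.Coprime.coprime_dvd_left (Subgroup.card_dvd_of_le inf_le_left) hHall
  have key : (L₁ ⊓ D).subgroupOf D = (L ⊓ D).subgroupOf D := by
    apply nil_hall_unique _ _ hcop
    rw [Nat.card_congr (Subgroup.subgroupOfEquivOfLe (inf_le_right : L₁ ⊓ D ≤ D)).toEquiv,
      Nat.card_congr (Subgroup.subgroupOfEquivOfLe (inf_le_right : L ⊓ D ≤ D)).toEquiv, hc]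
  have key' : L₁ ⊓ D = L ⊓ D := by
    ext x
    constructor
    · intro hx
      have : (⟨x, hx.2⟩ : D) ∈ (L₁ ⊓ D).subgroupOf D := Subgroup.mem_subgroupOf.mpr hx
      rw [key] at this
      exact Subgroup.mem_subgroupOf.mp this
    · intro hx
      have : (⟨x, hx.2⟩ : D) ∈ (L ⊓ D).subgroupOf D := Subgroup.mem_subgroupOf.mpr hx
      rw [← key] at this
      exact Subgroup.mem_subgroupOf.mp this
  apply le_antisymm
  · intro l hl
    obtain ⟨a, ha, b, hb, rfl⟩ := h2.2.2.2 l hl
    rw [key'] at hb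
    exact L.mul_mem (hQL ha) hb.1
  · intro l hl
    obtain ⟨a, ha, b, hb, rfl⟩ := h1.2.2.2 l hl
    rw [← key'] at hb
    exact L₁.mul_mem (hQL₁ ha) hb.1

/-- **Fusion lemma.** `S ⊴ M`, `H` a Hall subgroup of `S`, `Q ⊴ M` a solvable Hall subgroup of `S`
with a nilpotent complement `D` in `S`, and either `Q ≤ H` or `(|Q|, |H|) = 1`.  Then `N_M(H)`
controls `M`-fusion in `H`. -/
theorem hall_fusion_core {M S H Q D : Subgroup G} (hSM : S ≤ M)
    (hMS : M ≤ normalizer (S : Set G)) (hHS : H ≤ S)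
    (hHall : (Nat.card H).Coprime (H.relIndex S))
    (hQS : Q ≤ S) (hMQ : M ≤ normalizer (Q : Set G))
    (hQHall : (Nat.card Q).Coprime (Q.relIndex S)) (hQsolv : Group.IsSolvable Q)
    (hQH : Q ≤ H ∨ (Nat.card Q).Coprime (Nat.card H))
    (hD : IsComplIn Q D S) (hDnil : Group.IsNilpotent D) :
    ∀ x ∈ H, ∀ m ∈ M, m * x * m⁻¹ ∈ H →
      ∃ n ∈ M ⊓ normalizer (H : Set G), n * x * n⁻¹ = m * x * m⁻¹ := by
  have hHM : H ≤ M := hHS.trans hSM
  have hHNQ : H ≤ normalizer (Q : Set G) := hHM.trans hMQ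
  -- `L = Q H` is a Hall subgroup of `S`
  set L : Subgroup G := Q ⊔ H with hL
  have hQL : Q ≤ L := le_sup_left
  have hHL : H ≤ L := le_sup_right
  have hLS : L ≤ S := sup_le hQS hHS
  have hLHall : (Nat.card L).Coprime (L.relIndex S) := by
    rcases hQH with hQH | hQH
    · have : L = H := sup_eq_right.mpr hQH
      rw [this]; exact hHall
    · have hdisj : Q ⊓ H = ⊥ := (Subgroup.disjoint_of_coprime_natCard hQH).eq_bot
      have hc : IsComplIn Q H L := by
        refine ⟨hQL, hHL, hdisj, ?_⟩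
        intro l hl
        exact mem_sup_of_le_normalizer hHNQ hl
      have hcard := Cfsg.Agent.Helper23.card_of_isComplIn hc
      rw [hcard]
      apply Nat.Coprime.mul_left
      · exact Nat.Coprime.coprime_dvd_right (Subgroup.relIndex_dvd_of_le_left S hQL) hQHall
      · exact Nat.Coprime.coprime_dvd_right (Subgroup.relIndex_dvd_of_le_left S hHL) hHall
  -- `M` normalizes `L`
  have hML : M ≤ normalizer (L : Set G) := by
    apply le_normalizer_of_forall_conj_mem
    intro m hm x hx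
    set L₁ : Subgroup G := L.map (MulAut.conj m).toMonoidHom with hL₁
    have hL₁S : L₁ ≤ S := map_conj_le_of_le_normalizer hMS hLS hm
    have hQL₁ : Q ≤ L₁ := by
      intro y hy
      refine ⟨m⁻¹ * y * m, hQL ?_, ?_⟩
      · have := conj_mem_of_le_normalizer hMQ (M.inv_mem hm) hy
        simpa using this
      · simp [mul_assoc]
    have hcard : Nat.card L₁ = Nat.card L :=
      Subgroup.card_map_of_injective (MulAut.conj m).injective
    have := eq_of_nilpotent_compl hD hDnil hQL hLS hQL₁ hL₁S hcard hLHall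
    rw [← this]
    exact ⟨x, hx, rfl⟩
  intro x hx m hm hxm
  rcases hQH with hQH | hQH
  · -- `L = H`
    have hLH : L = H := sup_eq_right.mpr hQH
    rw [hLH] at hML
    exact ⟨m, ⟨hm, hML hm⟩, rfl⟩
  · have hdisj : Q ⊓ H = ⊥ := (Subgroup.disjoint_of_coprime_natCard hQH).eq_bot
    set H₁ : Subgroup G := H.map (MulAut.conj m).toMonoidHom with hH₁
    have hH₁L : H₁ ≤ Q ⊔ H := by
      rintro _ ⟨h, hh, rfl⟩
      exact conj_mem_of_le_normalizer hML hm (hHL hh)
    have hcard : Nat.card H₁ = Nat.card H :=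
      Subgroup.card_map_of_injective (MulAut.conj m).injective
    obtain ⟨a, haQ, haH⟩ := Cfsg.Agent.Helper52.sz_conj_internal Q H H₁ hHNQ (Or.inl hQsolv) hQH
      hcard hH₁L
    -- `n = a⁻¹ m` normalizes `H`
    have haM : a ∈ M := hSM (hQS haQ)
    have hnH : ∀ y ∈ H, (a⁻¹ * m) * y * (a⁻¹ * m)⁻¹ ∈ H := by
      intro y hy
      have h1 : m * y * m⁻¹ ∈ H₁ := ⟨y, hy, rfl⟩
      rw [haH] at h1
      obtain ⟨z, hz, hze⟩ := h1
      have hze' : a * z * a⁻¹ = m * y * m⁻¹ := hze
      have : (a⁻¹ * m) * y * (a⁻¹ * m)⁻¹ = z := by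
        have : (a⁻¹ * m) * y * (a⁻¹ * m)⁻¹ = a⁻¹ * (m * y * m⁻¹) * a := by group
        rw [this, ← hze']; group
      rw [this]; exact hz
    have hnH' : ∀ y ∈ H, (a⁻¹ * m)⁻¹ * y * (a⁻¹ * m) ∈ H := by
      intro y hy
      have h1 : a * y * a⁻¹ ∈ H₁ := by rw [haH]; exact ⟨y, hy, rfl⟩
      obtain ⟨z, hz, hze⟩ := h1
      have hze' : m * z * m⁻¹ = a * y * a⁻¹ := hze
      have : (a⁻¹ * m)⁻¹ * y * (a⁻¹ * m) = z := by
        have : (a⁻¹ * m)⁻¹ * y * (a⁻¹ * m) = m⁻¹ * (a * y * a⁻¹) * m := by group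
        rw [this, ← hze']; group
      rw [this]; exact hz
    have hnN : a⁻¹ * m ∈ normalizer (H : Set G) := by
      rw [Subgroup.mem_normalizer_iff]
      intro y
      constructor
      · exact hnH y
      · intro hy
        have := hnH' _ hy
        have e : (a⁻¹ * m)⁻¹ * ((a⁻¹ * m) * y * (a⁻¹ * m)⁻¹) * (a⁻¹ * m) = y := by group
        rwa [e] at this
    refine ⟨a⁻¹ * m, ⟨M.mul_mem (M.inv_mem haM) hm, hnN⟩, ?_⟩
    -- `a` centralizes `x' = m x m⁻¹`
    set x' := m * x * m⁻¹ with hx'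
    have h2 : (a⁻¹ * m) * x * (a⁻¹ * m)⁻¹ = a⁻¹ * x' * a := by rw [hx']; group
    rw [h2]
    have h3 : a⁻¹ * x' * a ∈ H := by rw [← h2]; exact hnH x hx
    have h4 : x'⁻¹ * (a⁻¹ * x' * a) ∈ Q ⊓ H := by
      refine ⟨?_, H.mul_mem (H.inv_mem hxm) h3⟩
      have h5 : x'⁻¹ * a⁻¹ * x'⁻¹⁻¹ ∈ Q :=
        conj_mem_of_le_normalizer hHNQ (H.inv_mem hxm) (Q.inv_mem haQ)
      have e : x'⁻¹ * (a⁻¹ * x' * a) = (x'⁻¹ * a⁻¹ * x'⁻¹⁻¹) * a := by group
      rw [e]
      exact Q.mul_mem h5 haQ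
    rw [hdisj, Subgroup.mem_bot] at h4
    have : a⁻¹ * x' * a = x' * (x'⁻¹ * (a⁻¹ * x' * a)) := by group
    rw [this, h4, mul_one]

end Relative

end Cfsg.Agent.Helper75.BG153
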