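import Mathlib
import Cfsg.Agent.Lib.Helper75.BG153a
import Cfsg.Agent.Lib.Helper75.SigmaFusion
import Cfsg.Agent.Lib.Helper45.BGTools

/-!
# Bender–Glauberman Corollary 15.3(b) (second half of S1438), from hypotheses in the shape of the
frozen statements S1374 and S1437.
-/

set_option autoImplicit false

namespace Cfsg.Agent.Helper75.BG153

open Subgroup Cfsg

universe u

variable {G : Type u} [Group G] [Finite G]

theorem solvable_of_le' {C K : Subgroup G} (hK : Group.IsSolvable K) (hCK : C ≤ K) :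
    Group.IsSolvable C :=
  Group.isSolvable_of_isSolvable_injective (Subgroup.inclusion_injective hCK)

/-- A normal `q`-subgroup `Q` of `S` lies in every subgroup `H` of `S` of index prime to `q`. -/
theorem normal_pgroup_le_of_not_dvd {S H Q : Subgroup G} {q : ℕ} [Fact q.Prime]
    (hQS : Q ≤ S) (hSQ : S ≤ normalizer (Q : Set G)) (hQ : IsPGroup q Q)
    (hidx : ¬ q ∣ H.relIndex S) : Q ≤ H := by
  obtain ⟨s, hs, hsQ⟩ := Cfsg.Agent.Helper45.BGTools.exists_conj_le (M := S) (K := H) (X := Q)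
    hidx hQS hQ
  intro y hy
  apply hsQ
  rw [Cfsg.Agent.Helper45.BGTools.mem_cjm]
  have := conj_mem_of_le_normalizer hSQ (S.inv_mem hs) hy
  simpa using this

/-- **B–G 15.3(b)** in hypothesis form. -/
theorem part_b [IsSimpleGroup G] (M : Subgroup G) (hM : IsCoatom M)
    (hsolv : Group.IsSolvable M)
    (hMS : M ≤ normalizer (Cfsg.sigmaCore M : Set G))
    (h1374 : ∀ x ∈ Cfsg.sigmaCore M, x ≠ 1 →
      (Nat.card ↥(M ⊓ Subgroup.centralizer ({x} : Set G))).Coprime
          ((M ⊓ Subgroup.centralizer ({x} : Set G)).relIndex (Subgroup.centralizer ({x} : Set G))) ∧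
        ∃ R : Subgroup G, Subgroup.centralizer ({x} : Set G) ≤ Subgroup.normalizer (R : Set G) ∧
          Cfsg.IsComplIn (M ⊓ Subgroup.centralizer ({x} : Set G)) R
            (Subgroup.centralizer ({x} : Set G)) ∧
          ∀ g : G, x ∈ M.map (MulAut.conj g).toMonoidHom →
            ∃! r : G, r ∈ R ∧ M.map (MulAut.conj r).toMonoidHom = M.map (MulAut.conj g).toMonoidHom)
    (hstruct : Group.IsNilpotent (Cfsg.sigmaCore M) ∨
      ∃ (q : ℕ) (Q : Subgroup G), q.Prime ∧ Q ≤ Cfsg.sigmaCore M ∧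
        M ≤ normalizer (Q : Set G) ∧ IsPGroup q Q ∧ ¬ q ∣ Q.relIndex (Cfsg.sigmaCore M) ∧
        ∀ D : Subgroup G, Cfsg.IsComplIn Q D (Cfsg.sigmaCore M) → Group.IsNilpotent D)
    (H : Subgroup G) (hH : H ≤ Cfsg.sigmaCore M)
    (hHall : (Nat.card H).Coprime (H.relIndex (Cfsg.sigmaCore M))) :
    ∀ x ∈ H, ∀ g : G, g * x * g⁻¹ ∈ H →
      ∃ n ∈ M ⊓ Subgroup.normalizer (H : Set G), n * x * n⁻¹ = g * x * g⁻¹ := by
  intro x hx g hgx
  set S := Cfsg.sigmaCore M with hS
  have hSM : S ≤ M := Cfsg.Agent.Helper75.SigmaFusion.sigmaCore_le M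
  obtain ⟨m, hm, hmx⟩ := Cfsg.Agent.Helper75.SigmaFusion.sigmaCore_fusion M hM h1374 x (hH hx) g
    (hH hgx)
  rw [← hmx] at hgx ⊢
  have hSsolv : Group.IsSolvable S := solvable_of_le' hsolv hSM
  rcases hstruct with hnil | ⟨q, Q, hq, hQS, hMQ, hQp, hqidx, hDnil⟩
  · -- nilpotent case: `Q = ⊥`, `D = S`
    have hD : IsComplIn (⊥ : Subgroup G) S S :=
      ⟨bot_le, le_rfl, bot_inf_eq _, fun s hs => ⟨1, Subgroup.one_mem _, s, hs, (one_mul s).symm⟩⟩
    have hMbot : M ≤ normalizer ((⊥ : Subgroup G) : Set G) := by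
      apply le_normalizer_of_forall_conj_mem
      intro m _ y hy
      rw [Subgroup.mem_bot] at hy ⊢
      rw [hy]; group
    have hbotsolv : Group.IsSolvable (⊥ : Subgroup G) := inferInstance
    exact hall_fusion_core hSM hMS hH hHall bot_le hMbot (by simp) hbotsolv (Or.inl bot_le) hD hnil
      x hx m hm hgx
  · have : Fact q.Prime := ⟨hq⟩
    have hQHall : (Nat.card Q).Coprime (Q.relIndex S) := by
      obtain ⟨k, hk⟩ := IsPGroup.iff_card.mp hQp
      rw [hk]
      exact Nat.Coprime.pow_left _ ((Nat.Prime.coprime_iff_not_dvd hq).mpr hqidx)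
    have hQnil : Group.IsNilpotent Q := hQp.isNilpotent
    have hQsolv : Group.IsSolvable Q := inferInstance
    obtain ⟨D, hD⟩ := exists_isComplIn_of_hall hSsolv hQS hQHall
    have hQH : Q ≤ H ∨ (Nat.card Q).Coprime (Nat.card H) := by
      by_cases hqH : q ∣ Nat.card H
      · left
        apply normal_pgroup_le_of_not_dvd hQS (hSM.trans hMQ) hQp
        intro hdvd
        exact (Nat.Prime.one_lt hq).ne' (Nat.eq_one_of_dvd_coprimes hHall hqH hdvd)
      · right
        obtain ⟨k, hk⟩ := IsPGroup.iff_card.mp hQp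
        rw [hk]
        exact Nat.Coprime.pow_left _ ((Nat.Prime.coprime_iff_not_dvd hq).mpr hqH)
    exact hall_fusion_core hSM hMS hH hHall hQS hMQ hQHall hQsolv hQH hD (hDnil D hD)
      x hx m hm hgx

end Cfsg.Agent.Helper75.BG153
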