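import Mathlib
import Cfsg.Agent.Lib.Helper75.BG153a
import Cfsg.Agent.Lib.Helper45.BGTools
import Cfsg.Agent.Lib.Helper55.BGHall
import Cfsg.Agent.Lib.Helper60.BG144b
import Cfsg.Agent.S0636

/-!
# Bender–Glauberman Corollary 15.3(a) (first half of S1438), from hypotheses in the shape of the
frozen statements S1350, S1351, S1417, S1421, S1430, S1431, S1432.
-/

set_option autoImplicit false

namespace Cfsg.Agent.Helper75.BG153

open Subgroup Cfsg

universe u

variable {G : Type u} [Group G]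

theorem elemAb_map' {p : ℕ} {G' : Type*} [Group G'] (f : G →* G') {A : Subgroup G}
    (hA : IsElementaryAbelian p A) : IsElementaryAbelian p (A.map f) := by
  have hc : ∀ a ∈ A, ∀ b ∈ A, a * b = b * a := by
    intro a ha b hb
    have := hA.1
    exact congrArg Subtype.val (mul_comm' (⟨a, ha⟩ : A) ⟨b, hb⟩)
  refine ⟨⟨⟨fun a b => ?_⟩⟩, ?_⟩
  · obtain ⟨x, hx, hxa⟩ := a.2
    obtain ⟨y, hy, hyb⟩ := b.2
    apply Subtype.ext
    show a.1 * b.1 = b.1 * a.1
    rw [← hxa, ← hyb, ← map_mul, ← map_mul, hc x hx y hy]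
  · rintro _ ⟨x, hx, rfl⟩
    rw [← map_pow, hA.2 x hx, map_one]

theorem relIndex_dvd_of_le_normalizer {N C M : Subgroup G}
    (hMN : M ≤ normalizer (N : Set G)) (hCM : C ≤ M) : N.relIndex C ∣ N.relIndex M := by
  have hn : (N.subgroupOf M).Normal := normal_subgroupOf_of_le_normalizer hMN
  have h1 : (N.subgroupOf M).relIndex (C.subgroupOf M) = N.relIndex C :=
    Subgroup.relIndex_subgroupOf hCM
  rw [← h1]
  exact Subgroup.relIndex_dvd_index_of_normal _ _

/-- commutativity is inherited from a conjugate -/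
theorem comm_of_map_conj_le {X U : Subgroup G} {m : G}
    (hU : ∀ a ∈ U, ∀ b ∈ U, a * b = b * a) (h : X.map (MulAut.conj m).toMonoidHom ≤ U) :
    ∀ a ∈ X, ∀ b ∈ X, a * b = b * a := by
  intro a ha b hb
  have h1 := hU _ (h ⟨a, ha, rfl⟩) _ (h ⟨b, hb, rfl⟩)
  have h2 : m * a * m⁻¹ * (m * b * m⁻¹) = m * b * m⁻¹ * (m * a * m⁻¹) := h1
  have h3 : m * (a * b) * m⁻¹ = m * (b * a) * m⁻¹ := by
    calc m * (a * b) * m⁻¹ = m * a * m⁻¹ * (m * b * m⁻¹) := by group
      _ = m * b * m⁻¹ * (m * a * m⁻¹) := h2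
      _ = m * (b * a) * m⁻¹ := by group
  exact mul_left_cancel (mul_right_cancel h3)

theorem comm_of_isMulCommutative {U : Subgroup G} (hU : IsMulCommutative U) :
    ∀ a ∈ U, ∀ b ∈ U, a * b = b * a := by
  intro a ha b hb
  exact congrArg Subtype.val (mul_comm' (⟨a, ha⟩ : U) ⟨b, hb⟩)

variable [Finite G]

/-- **B–G 15.3(a)** in hypothesis form. -/
theorem part_a (hodd : Odd (Nat.card G)) (M : Subgroup G) (hsolv : Group.IsSolvable M)
    (hMS : M ≤ normalizer (Cfsg.sigmaCore M : Set G))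
    (h1350 : Cfsg.IsPiHallOf (Cfsg.sigma M) (Cfsg.sigmaCore M) M)
    (h1432 : ∀ x ∈ Cfsg.sigmaCore M, x ≠ 1 → ∀ x' ∈ M ⊓ Subgroup.centralizer ({x} : Set G), x' ≠ 1 →
      (∀ p : ℕ, p.Prime → p ∣ orderOf x' → p ∉ Cfsg.sigma M) →
      (∀ p : ℕ, p.Prime → p ∣ orderOf x' → p ∈ Cfsg.kappa M) ∨
        (∀ p : ℕ, p.Prime → p ∣ orderOf x' → p ∈ Cfsg.tau2 M))
    (h1351 : ∃ K : Subgroup G, Cfsg.IsPiHallOf (Cfsg.kappa M) K M)
    (h1430a : ∀ K : Subgroup G, Cfsg.IsPiHallOf (Cfsg.kappa M) K M → K ≠ ⊥ → ∀ k ∈ K, k ≠ 1 →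
      Cfsg.sigmaCore M ⊓ Subgroup.centralizer ({k} : Set G) =
        Cfsg.sigmaCore M ⊓ Subgroup.centralizer (K : Set G))
    (h1430b : ∀ K : Subgroup G, Cfsg.IsPiHallOf (Cfsg.kappa M) K M → K ≠ ⊥ →
      ∃ U : Subgroup G, IsMulCommutative U ∧
        Cfsg.IsPiHallOf {q | q.Prime ∧ q ∉ Cfsg.kappa M ∧ q ∉ Cfsg.sigma M} U M)
    (h1431 : ∀ K : Subgroup G, Cfsg.IsPiHallOf (Cfsg.kappa M) K M → K ≠ ⊥ →
      ∀ p : ℕ, p.Prime →
        p ∣ Nat.card ↥(Cfsg.sigmaCore M ⊓ Subgroup.centralizer (K : Set G)) →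
        ∀ S : Sylow p ↥(Cfsg.sigmaCore M),
          ¬ (S : Subgroup ↥(Cfsg.sigmaCore M)).map (Cfsg.sigmaCore M).subtype ≤
            Cfsg.sigmaCore M ⊓ Subgroup.centralizer (K : Set G))
    (h1417 : ∀ p : ℕ, p.Prime → p ∈ Cfsg.tau2 M → ∀ A : Subgroup G, A ≤ M →
      Cfsg.IsElementaryAbelian p A → Nat.card A = p ^ 2 →
      Cfsg.sigmaCore M ⊓ Subgroup.centralizer (A : Set G) = ⊥)
    (h1421 : ∀ E : Subgroup G, Cfsg.IsComplIn E (Cfsg.sigmaCore M) M →
      (∀ e ∈ E, e ≠ 1 → (∀ p : ℕ, p.Prime → p ∣ orderOf e → p ∈ Cfsg.tau1 M ∪ Cfsg.tau3 M) →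
        Cfsg.sigmaCore M ⊓ Subgroup.centralizer ({e} : Set G) = ⊥) →
      ∃ A₀ : Subgroup G, IsMulCommutative A₀ ∧
        ∀ x ∈ Cfsg.sigmaCore M, x ≠ 1 → E ⊓ Subgroup.centralizer ({x} : Set G) ≤ A₀)
    (H : Subgroup G) (hH : H ≤ Cfsg.sigmaCore M) (hH1 : H ≠ ⊥)
    (hHall : (Nat.card H).Coprime (H.relIndex (Cfsg.sigmaCore M))) :
    ∃ X : Subgroup G, IsCyclic X ∧ (∀ p : ℕ, p.Prime → p ∣ Nat.card X → p ∈ Cfsg.tau2 M) ∧
      M ⊓ Subgroup.centralizer (H : Set G) =
        (Cfsg.sigmaCore M ⊓ Subgroup.centralizer (H : Set G)) ⊔ X := by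
  classical
  set S := Cfsg.sigmaCore M with hS
  have hSM : S ≤ M := h1350.1
  set C : Subgroup G := M ⊓ Subgroup.centralizer (H : Set G) with hC
  set C₀ : Subgroup G := S ⊓ Subgroup.centralizer (H : Set G) with hC₀
  have hC₀C : C₀ ≤ C := inf_le_inf_right _ hSM
  have hCM : C ≤ M := inf_le_left
  have hCsolv : Group.IsSolvable C :=
    Group.isSolvable_of_isSolvable_injective (Subgroup.inclusion_injective hCM)
  -- a nontrivial element of `H`
  obtain ⟨h, hhH, hh1⟩ : ∃ h ∈ H, h ≠ 1 := by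
    by_contra hno
    push Not at hno
    exact hH1 ((Subgroup.eq_bot_iff_forall H).mpr hno)
  have hhS : h ∈ S := hH hhH
  -- `C₀` is a Hall subgroup of `C`
  have hC₀eq : C₀ = S ⊓ C := by
    rw [hC₀, hC, ← inf_assoc, inf_eq_left.mpr hSM]
  have hrel : C₀.relIndex C ∣ S.relIndex M := by
    rw [hC₀eq, Subgroup.inf_relIndex_right]
    exact relIndex_dvd_of_le_normalizer hMS hCM
  have hC₀Hall : (Nat.card C₀).Coprime (C₀.relIndex C) := by
    apply Nat.coprime_of_dvd
    intro k hk hk1 hk2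
    have hkσ : k ∈ Cfsg.sigma M :=
      h1350.2.1 k hk (hk1.trans (Subgroup.card_dvd_of_le (inf_le_left : C₀ ≤ S)))
    exact h1350.2.2 k hk hkσ (hk2.trans hrel)
  obtain ⟨X, hX⟩ := exists_isComplIn_of_hall hCsolv hC₀C hC₀Hall
  have hXC : X ≤ C := hX.2.1
  have hXM : X ≤ M := hXC.trans hCM
  have hXcent : ∀ x ∈ X, ∀ z ∈ H, z * x = x * z := by
    intro x hx z hz
    have := (Subgroup.mem_inf.mp (hXC hx)).2
    rw [Subgroup.mem_centralizer_iff] at this
    exact this z hz
  have hcardX : Nat.card X = C₀.relIndex C := by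
    have e1 := Cfsg.Agent.Helper23.card_of_isComplIn hX
    have e2 := Cfsg.Agent.Helper55.BGB.card_mul_relIndex hC₀C
    have : Nat.card C₀ * Nat.card X = Nat.card C₀ * C₀.relIndex C := by rw [← e1, e2]
    exact Nat.eq_of_mul_eq_mul_left Nat.card_pos this
  have hXσ : ∀ p : ℕ, p.Prime → p ∣ Nat.card X → p ∉ Cfsg.sigma M := by
    intro p hp hpX hpσ
    rw [hcardX] at hpX
    exact h1350.2.2 p hp hpσ (hpX.trans hrel)
  obtain ⟨K₀, hK₀⟩ := h1351
  -- primes of `X` lie in `τ₂(M)`
  have hXτ : ∀ p : ℕ, p.Prime → p ∣ Nat.card X → p ∈ Cfsg.tau2 M := by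
    intro p hp hpX
    have : Fact p.Prime := ⟨hp⟩
    obtain ⟨y, hy⟩ := exists_prime_orderOf_dvd_card' (G := X) p hpX
    set x' : G := (y : G) with hx'
    have hox' : orderOf x' = p := by rw [hx', Subgroup.orderOf_coe, hy]
    have hx'X : x' ∈ X := y.2
    have hx'1 : x' ≠ 1 := by
      intro h1
      rw [h1, orderOf_one] at hox'
      exact hp.one_lt.ne hox'
    have hx'mem : x' ∈ M ⊓ Subgroup.centralizer ({h} : Set G) := by
      refine Subgroup.mem_inf.mpr ⟨hXM hx'X, ?_⟩
      rw [Subgroup.mem_centralizer_iff]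
      intro z hz
      rw [Set.mem_singleton_iff] at hz
      rw [hz]
      exact hXcent x' hx'X h hhH
    have hσ : ∀ r : ℕ, r.Prime → r ∣ orderOf x' → r ∉ Cfsg.sigma M := by
      intro r hr hrd
      rw [hox'] at hrd
      have : r = p := (Nat.prime_dvd_prime_iff_eq hr hp).mp hrd
      rw [this]
      exact hXσ p hp hpX
    rcases h1432 h hhS hh1 x' hx'mem hx'1 hσ with hκ | hτ
    · exfalso
      have hpκ : p ∈ Cfsg.kappa M := hκ p hp (by rw [hox'])
      have hidx : ¬ p ∣ K₀.relIndex M := hK₀.2.2 p hp hpκ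
      have hpz : IsPGroup p (zpowers x') := by
        apply IsPGroup.of_card (n := 1)
        rw [Nat.card_zpowers, hox', pow_one]
      obtain ⟨m, hm, hmk⟩ := Cfsg.Agent.Helper45.BGTools.exists_conj_mem hidx (hXM hx'X) hpz
      set k := m * x' * m⁻¹ with hk
      have hk1 : k ≠ 1 := by
        intro h1
        exact hx'1 (conj_eq_one_iff.mp h1)
      have hK₀1 : K₀ ≠ ⊥ := by
        intro hb
        rw [hb, Subgroup.mem_bot] at hmk
        exact hk1 hmk
      have hkst := h1430a K₀ hK₀ hK₀1 k hmk hk1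
      set H' : Subgroup G := H.map (MulAut.conj m).toMonoidHom with hH'
      have hH'S : H' ≤ S := map_conj_le_of_le_normalizer hMS hH hm
      have hH'K : H' ≤ S ⊓ Subgroup.centralizer (K₀ : Set G) := by
        rw [← hkst]
        refine le_inf hH'S ?_
        rintro _ ⟨z, hz, rfl⟩
        rw [Subgroup.mem_centralizer_iff]
        intro w hw
        rw [Set.mem_singleton_iff] at hw
        rw [hw]
        have hc := hXcent x' hx'X z hz
        show m * x' * m⁻¹ * (m * z * m⁻¹) = m * z * m⁻¹ * (m * x' * m⁻¹)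
        calc m * x' * m⁻¹ * (m * z * m⁻¹) = m * (x' * z) * m⁻¹ := by group
          _ = m * (z * x') * m⁻¹ := by rw [hc]
          _ = m * z * m⁻¹ * (m * x' * m⁻¹) := by group
      have hcardH' : Nat.card H' = Nat.card H :=
        Subgroup.card_map_of_injective (MulAut.conj m).injective
      have hHne : Nat.card H ≠ 1 := by
        intro h1
        exact hH1 (Subgroup.card_eq_one.mp h1)
      obtain ⟨r, hr, hrH⟩ := Nat.exists_prime_and_dvd hHne
      have hrK : r ∣ Nat.card ↥(S ⊓ Subgroup.centralizer (K₀ : Set G)) := by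
        refine dvd_trans ?_ (Subgroup.card_dvd_of_le hH'K)
        rw [hcardH']; exact hrH
      -- `H'` is a Hall subgroup of `S` of the same order as `H`
      have hrelH' : H'.relIndex S = H.relIndex S := by
        have e1 := Cfsg.Agent.Helper55.BGB.card_mul_relIndex hH'S
        have e2 := Cfsg.Agent.Helper55.BGB.card_mul_relIndex hH
        rw [hcardH'] at e1
        have : Nat.card H * H'.relIndex S = Nat.card H * H.relIndex S := by rw [e1, e2]
        exact Nat.eq_of_mul_eq_mul_left Nat.card_pos this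
      have hridx : ¬ r ∣ (H'.subgroupOf S).index := by
        show ¬ r ∣ H'.relIndex S
        rw [hrelH']
        intro hd
        exact hr.one_lt.ne' (Nat.eq_one_of_dvd_coprimes hHall hrH hd)
      have : Fact r.Prime := ⟨hr⟩
      obtain ⟨P, hP⟩ := Cfsg.Agent.Helper45.BGTools.exists_sylow_le_of_not_dvd_index
        (H'.subgroupOf S) hridx
      apply h1431 K₀ hK₀ hK₀1 r hr hrK P
      rintro _ ⟨z, hz, rfl⟩
      exact hH'K (Subgroup.mem_subgroupOf.mp (hP hz))
    · exact hτ p hp (by rw [hox'])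
  -- `X` is abelian
  have hXcomm : ∀ a ∈ X, ∀ b ∈ X, a * b = b * a := by
    by_cases hK₀1 : K₀ = ⊥
    · -- no `κ`: use S1421
      obtain ⟨E, hE⟩ := Cfsg.Agent.Helper55.BGB.exists_compl_sigmaCore h1350
      have hhyp : ∀ e ∈ E, e ≠ 1 →
          (∀ p : ℕ, p.Prime → p ∣ orderOf e → p ∈ Cfsg.tau1 M ∪ Cfsg.tau3 M) →
          S ⊓ Subgroup.centralizer ({e} : Set G) = ⊥ := by
        intro e heE he1 hep
        by_contra hne
        obtain ⟨y, hy, hy1⟩ : ∃ y ∈ S ⊓ Subgroup.centralizer ({e} : Set G), y ≠ 1 := by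
          by_contra hno
          push Not at hno
          exact hne ((Subgroup.eq_bot_iff_forall _).mpr hno)
        have hyS : y ∈ S := (Subgroup.mem_inf.mp hy).1
        have hye : e * y = y * e := by
          have := (Subgroup.mem_inf.mp hy).2
          rw [Subgroup.mem_centralizer_iff] at this
          exact this e rfl
        have hemem : e ∈ M ⊓ Subgroup.centralizer ({y} : Set G) := by
          refine Subgroup.mem_inf.mpr ⟨hE.1 heE, ?_⟩
          rw [Subgroup.mem_centralizer_iff]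
          intro z hz
          rw [Set.mem_singleton_iff] at hz
          rw [hz]
          exact hye.symm
        have hσe : ∀ p : ℕ, p.Prime → p ∣ orderOf e → p ∉ Cfsg.sigma M := by
          intro p hp hpe
          rcases hep p hp hpe with h1 | h3
          · exact h1.2.1
          · exact h3.2.1
        have hoe : orderOf e ≠ 1 := fun h => he1 (orderOf_eq_one_iff.mp h)
        obtain ⟨p, hp, hpe⟩ := Nat.exists_prime_and_dvd hoe
        rcases h1432 y hyS hy1 e hemem he1 hσe with hκ | hτ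
        · have hpκ := hκ p hp hpe
          have := hK₀.2.2 p hp hpκ
          rw [hK₀1, Subgroup.relIndex_bot_left] at this
          exact this hpκ.2.1
        · have hpτ := hτ p hp hpe
          rcases hep p hp hpe with h1 | h3
          · exact hpτ.2.2.2 h1.2.2.2.2
          · exact hpτ.2.2.2 h3.2.2.2
      obtain ⟨A₀, hA₀c, hA₀⟩ := h1421 E hE hhyp
      -- conjugate `X` into `E`
      have hcE : Nat.card M = Nat.card E * Nat.card S := Cfsg.Agent.Helper23.card_of_isComplIn hE
      have hrelE : E.relIndex M = Nat.card S := by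
        have e1 := Cfsg.Agent.Helper55.BGB.card_mul_relIndex hE.1
        have : Nat.card E * E.relIndex M = Nat.card E * Nat.card S := by rw [e1, hcE]
        exact Nat.eq_of_mul_eq_mul_left Nat.card_pos this
      have hcardE : Nat.card E = S.relIndex M := by
        have e1 := Cfsg.Agent.Helper55.BGB.card_mul_relIndex hSM
        have : Nat.card S * Nat.card E = Nat.card S * S.relIndex M := by rw [e1, hcE, mul_comm]
        exact Nat.eq_of_mul_eq_mul_left Nat.card_pos this
      have hEHall : (Nat.card E).Coprime (E.relIndex M) := by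
        rw [hrelE, hcardE]
        apply Nat.coprime_of_dvd
        intro k hk hk1 hk2
        exact h1350.2.2 k hk (h1350.2.1 k hk hk2) hk1
      have hXE : (Nat.card X).Coprime (E.relIndex M) := by
        rw [hrelE]
        apply Nat.coprime_of_dvd
        intro k hk hk1 hk2
        exact hXσ k hk hk1 (h1350.2.1 k hk hk2)
      obtain ⟨m, hm, hmX⟩ := exists_conj_le_hall hsolv hE.1 hEHall hXM hXE
      set h' := m * h * m⁻¹ with hh'
      have hh'S : h' ∈ S := conj_mem_of_le_normalizer hMS hm hhS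
      have hh'1 : h' ≠ 1 := fun h1 => hh1 (conj_eq_one_iff.mp h1)
      have hle : X.map (MulAut.conj m).toMonoidHom ≤ A₀ := by
        refine le_trans ?_ (hA₀ h' hh'S hh'1)
        refine le_inf hmX ?_
        rintro _ ⟨z, hz, rfl⟩
        rw [Subgroup.mem_centralizer_iff]
        intro w hw
        rw [Set.mem_singleton_iff] at hw
        rw [hw]
        have hc := hXcent z hz h hhH
        show m * h * m⁻¹ * (m * z * m⁻¹) = m * z * m⁻¹ * (m * h * m⁻¹)
        calc m * h * m⁻¹ * (m * z * m⁻¹) = m * (h * z) * m⁻¹ := by group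
          _ = m * (z * h) * m⁻¹ := by rw [hc]
          _ = m * z * m⁻¹ * (m * h * m⁻¹) := by group
      exact comm_of_map_conj_le (comm_of_isMulCommutative hA₀c) hle
    · obtain ⟨U, hUc, hU⟩ := h1430b K₀ hK₀ hK₀1
      have hUHall : (Nat.card U).Coprime (U.relIndex M) := by
        apply Nat.coprime_of_dvd
        intro k hk hk1 hk2
        exact hU.2.2 k hk (hU.2.1 k hk hk1) hk2
      have hXU : (Nat.card X).Coprime (U.relIndex M) := by
        apply Nat.coprime_of_dvd
        intro k hk hk1 hk2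
        have hkτ := hXτ k hk hk1
        exact hU.2.2 k hk
          ⟨hk, Cfsg.Agent.Helper60.BG144.not_mem_kappa_of_mem_tau2 hkτ, hkτ.2.1⟩ hk2
      obtain ⟨m, hm, hmX⟩ := exists_conj_le_hall hsolv hU.1 hUHall hXM hXU
      exact comm_of_map_conj_le (comm_of_isMulCommutative hUc) hmX
  -- the Sylow subgroups of `X` are cyclic
  have hXsyl : ∀ (p : ℕ), p.Prime → ∀ (P : Sylow p ↥X), IsCyclic P := by
    intro p hp P
    have : Fact p.Prime := ⟨hp⟩
    by_cases hpX : p ∣ Nat.card X
    · by_contra hnc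
      have hpτ := hXτ p hp hpX
      have hp2 : p ≠ 2 := by
        rintro rfl
        have h2G : 2 ∣ Nat.card G := hpX.trans (Subgroup.card_subgroup_dvd_card X)
        exact (Nat.not_even_iff_odd.mpr hodd) (even_iff_two_dvd.mpr h2G)
      have hnc' : ¬ IsCyclic (⊤ : Subgroup ↥(P : Subgroup ↥X)) := by
        intro hc
        apply hnc
        exact isCyclic_of_surjective (Subgroup.topEquiv (G := ↥(P : Subgroup ↥X))).toMonoidHom
          (Subgroup.topEquiv).surjective
      obtain ⟨A', -, -, hA'e, hA'c⟩ := Cfsg.Agent.S0636.result hp2 P.isPGroup'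
        (⊤ : Subgroup ↥(P : Subgroup ↥X)) hnc'
      set A : Subgroup G := (A'.map (P : Subgroup ↥X).subtype).map X.subtype with hA
      have hAe : IsElementaryAbelian p A := elemAb_map' _ (elemAb_map' _ hA'e)
      have hAc : Nat.card A = p ^ 2 := by
        rw [hA, Subgroup.card_map_of_injective X.subtype_injective,
          Subgroup.card_map_of_injective (Subgroup.subtype_injective _), hA'c]
      have hAX : A ≤ X := Subgroup.map_subtype_le _
      have hbot := h1417 p hp hpτ A (hAX.trans hXM) hAe hAc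
      apply hH1
      rw [eq_bot_iff, ← hbot]
      refine le_inf hH ?_
      intro z hz
      rw [Subgroup.mem_centralizer_iff]
      intro a ha
      exact (hXcent a (hAX ha) z hz).symm
    · have hcard : Nat.card P = 1 := by
        rw [P.card_eq_multiplicity, Nat.factorization_eq_zero_of_not_dvd hpX, pow_zero]
      have : Subsingleton P := (Nat.card_eq_one_iff_unique.mp hcard).1
      exact isCyclic_of_subsingleton
  have hXcyc : IsCyclic X := by
    have hz : IsZGroup X := ⟨hXsyl⟩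
    have hnil : Group.IsNilpotent X := by
      let _ : CommGroup X :=
        { (inferInstance : Group X) with
          mul_comm := fun a b => Subtype.ext (hXcomm a a.2 b b.2) }
      exact CommGroup.isNilpotent
    exact inferInstance
  refine ⟨X, hXcyc, hXτ, ?_⟩
  apply le_antisymm
  · intro c hc
    obtain ⟨a, ha, b, hb, rfl⟩ := hX.2.2.2 c hc
    exact mul_mem (mem_sup_left ha) (mem_sup_right hb)
  · exact sup_le hC₀C hXC

end Cfsg.Agent.Helper75.BG153
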