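import Cfsg.Agent.Lib.Helper75.CharGalois
import Cfsg.Agent.Lib.Helper80.CharBasic

set_option autoImplicit false

namespace Cfsg.Agent.Helper75

open scoped ComplexConjugate
open Polynomial Module Cfsg Cfsg.Agent.Helper80

universe u

/-- A class function satisfying the functional equation of normalized irreducible characters is
proportional to an irreducible character. -/
theorem prop_irr_of_functional_equation {G : Type u} [Group G] [Fintype G] (φ : G → ℂ)
    (hφc : ∀ g h : G, φ (h * g * h⁻¹) = φ g) (hφ1 : φ 1 ≠ 0)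
    (hFE : ∀ g h : G, (∑ x : G, φ (x * g * x⁻¹ * h)) * φ 1 = (Nat.card G : ℂ) * φ g * φ h) :
    ∃ b : IrrCharacter G, ∀ g, φ g * (b : G → ℂ) 1 = φ 1 * (b : G → ℂ) g := by
  classical
  have hN : (Nat.card G : ℂ) ≠ 0 := by exact_mod_cast (Nat.card_pos (α := G)).ne'
  -- Step 1
  have hex : ∃ b : IrrCharacter G, classInner φ (b : G → ℂ) ≠ 0 := by
    by_contra hcon
    push Not at hcon
    apply hφ1
    rw [classFunction_expansion φ hφc 1]
    simp [hcon]
  obtain ⟨b, hb⟩ := hex
  refine ⟨b, fun g => ?_⟩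
  set T : ℂ := ∑ h : G, φ h * conj ((b : G → ℂ) h) with hT
  have hTne : T ≠ 0 := by
    intro h0
    apply hb
    unfold classInner
    rw [← hT, h0, mul_zero]
  set S : ℂ := ∑ h : G, (∑ x : G, φ (x * g * x⁻¹ * h)) * conj ((b : G → ℂ) h) with hS
  -- (i)
  have h1 : S * φ 1 = (Nat.card G : ℂ) * φ g * T := by
    rw [hS, Finset.sum_mul, hT, Finset.mul_sum]
    apply Finset.sum_congr rfl
    intro h _
    rw [mul_right_comm, hFE g h]
    ring
  -- (ii)
  have h2 : S * (b : G → ℂ) 1 = (Nat.card G : ℂ) * (b : G → ℂ) g * T := by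
    have h3 : S = ∑ x : G, ∑ h : G, φ h * conj ((b : G → ℂ) (x * g⁻¹ * x⁻¹ * h)) := by
      rw [hS]
      simp only [Finset.sum_mul]
      rw [Finset.sum_comm]
      apply Finset.sum_congr rfl
      intro x _
      refine Fintype.sum_equiv (Equiv.mulLeft (x * g * x⁻¹)) _ _ (fun h => ?_)
      simp only [Equiv.coe_mulLeft]
      congr 3
      group
    have h4 : S = ∑ h : G, φ h * conj (∑ x : G, (b : G → ℂ) (x * g⁻¹ * x⁻¹ * h)) := by
      rw [h3, Finset.sum_comm]
      apply Finset.sum_congr rfl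
      intro h _
      rw [map_sum, Finset.mul_sum]
    have hb1 : conj ((b : G → ℂ) 1) = (b : G → ℂ) 1 := by
      rw [irr_one]; simp
    have hbg : conj ((b : G → ℂ) g⁻¹) = (b : G → ℂ) g := by
      rw [irr_inv, Complex.conj_conj]
    rw [h4, Finset.sum_mul, hT, Finset.mul_sum]
    apply Finset.sum_congr rfl
    intro h _
    rw [irr_sum_conj_mul b g⁻¹ h, map_div₀, map_mul, map_mul, hb1, hbg]
    have := irr_one_ne_zero b
    simp only [map_natCast]
    field_simp
  -- combine
  have h5 : S * φ 1 * (b : G → ℂ) 1 = S * (b : G → ℂ) 1 * φ 1 := by ring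
  rw [h1, h2] at h5
  have h6 : (Nat.card G : ℂ) * T * (φ g * (b : G → ℂ) 1) =
      (Nat.card G : ℂ) * T * (φ 1 * (b : G → ℂ) g) := by
    linear_combination h5
  exact mul_left_cancel₀ (mul_ne_zero hN hTne) h6

/-- The functional equation for the Galois twist, by the polynomial trick. -/
theorem twist_functional_equation {G : Type u} [Group G] [Fintype G] (χ : IrrCharacter G) (k : ℕ)
    (hk : k.Coprime (Nat.card G)) (g h : G) :
    (∑ x : G, (χ : G → ℂ) ((x * g * x⁻¹ * h) ^ k)) * (χ : G → ℂ) 1 =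
      (Nat.card G : ℂ) * (χ : G → ℂ) (g ^ k) * (χ : G → ℂ) (h ^ k) := by
  classical
  have hN : 0 < Nat.card G := Nat.card_pos
  obtain ⟨ζ, hζ⟩ := exists_primitiveRoot_card G
  obtain ⟨n, ρ, hirr, hρ⟩ := χ.2
  choose F hF1 hF using fun y : G => exists_poly ρ y (Nat.card G) hN (pow_card_eq_one') ζ hζ
  have hχ : ∀ y : G, ∀ j : ℕ, (χ : G → ℂ) (y ^ j) = aeval (ζ ^ j) (F y) := by
    intro y j
    rw [← hρ]; exact hF y j
  have hdeg : (χ : G → ℂ) 1 = (n : ℂ) := by
    rw [← hρ, Representation.char_one]; simp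
  set P : ℤ[X] := (∑ x : G, F (x * g * x⁻¹ * h)) * C (n : ℤ) -
    C (Nat.card G : ℤ) * F g * F h with hP
  have hPval : ∀ j : ℕ, aeval (ζ ^ j) P =
      (∑ x : G, (χ : G → ℂ) ((x * g * x⁻¹ * h) ^ j)) * (χ : G → ℂ) 1 -
      (Nat.card G : ℂ) * (χ : G → ℂ) (g ^ j) * (χ : G → ℂ) (h ^ j) := by
    intro j
    rw [hP, map_sub, map_mul, map_mul, map_mul, map_sum, hdeg]
    simp only [hχ, aeval_C]
    simp
  have h1 : aeval ζ P = 0 := by
    have := hPval 1
    simp only [pow_one] at this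
    rw [this, irr_sum_conj_mul χ g h, sub_eq_zero]
    have := irr_one_ne_zero χ
    field_simp
  have h2 := (aeval_primitiveRoot_eq_zero_iff _ hN _ _ hζ (hζ.pow_of_coprime k hk) P).mp h1
  rw [hPval k, sub_eq_zero] at h2
  exact h2

/-- **Galois twist**: composing an irreducible character with the `k`-th power map, `k` prime to
the group order, gives an irreducible character. -/
theorem galois_twist_irr {G : Type u} [Group G] [Finite G] (χ : IrrCharacter G) (k : ℕ)
    (hk : k.Coprime (Nat.card G)) :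
    IsIrrCharacter G (fun g => (χ : G → ℂ) (g ^ k)) := by
  classical
  have := Fintype.ofFinite G
  set φ : G → ℂ := fun g => (χ : G → ℂ) (g ^ k) with hφ
  have hφc : ∀ g h : G, φ (h * g * h⁻¹) = φ g := by
    intro g h
    simp only [hφ, conj_pow]
    exact irr_conj_class χ _ _
  have hφ1 : φ 1 ≠ 0 := by
    simp only [hφ, one_pow]; exact irr_one_ne_zero χ
  have hFE : ∀ g h : G, (∑ x : G, φ (x * g * x⁻¹ * h)) * φ 1 =
      (Nat.card G : ℂ) * φ g * φ h := by
    intro g h
    have := twist_functional_equation χ k hk g h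
    simpa only [hφ, one_pow] using this
  obtain ⟨b, hb⟩ := prop_irr_of_functional_equation φ hφc hφ1 hFE
  -- norms
  have hNc : (Nat.card G : ℂ) ≠ 0 := by exact_mod_cast (Nat.card_pos (α := G)).ne'
  have hnφ : ∑ g : G, φ g * conj (φ g) = (Nat.card G : ℂ) := by
    have h1 := irr_first_orthogonality χ χ
    rw [if_pos rfl] at h1
    rw [← h1]
    exact Fintype.sum_equiv (powCoprime hk.symm) _ _ (fun g => rfl)
  have hnb : ∑ g : G, (b : G → ℂ) g * conj ((b : G → ℂ) g) = (Nat.card G : ℂ) := by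
    have h1 := irr_first_orthogonality b b
    rwa [if_pos rfl] at h1
  have hb1 := irr_one b
  have hχ1 := irr_one χ
  have hφ1' : φ 1 = (charDegree (χ : G → ℂ) : ℂ) := by simp only [hφ, one_pow]; exact hχ1
  set dχ := charDegree (χ : G → ℂ) with hdχ
  set db := charDegree (b : G → ℂ) with hdb
  have hdχpos : 0 < dχ := charDegree_pos χ
  have hdbpos : 0 < db := charDegree_pos b
  have hrel : ∀ g, φ g * (db : ℂ) = (dχ : ℂ) * (b : G → ℂ) g := by
    intro g; rw [← hb1, ← hφ1']; exact hb g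
  -- compare norms
  have h3 : (db : ℂ) ^ 2 * (Nat.card G : ℂ) = (dχ : ℂ) ^ 2 * (Nat.card G : ℂ) := by
    conv_lhs => rw [← hnφ]
    conv_rhs => rw [← hnb]
    rw [Finset.mul_sum, Finset.mul_sum]
    apply Finset.sum_congr rfl
    intro g _
    have h4 : conj (φ g) * (db : ℂ) = (dχ : ℂ) * conj ((b : G → ℂ) g) := by
      have := congrArg (starRingEnd ℂ) (hrel g)
      simpa using this
    calc (db : ℂ) ^ 2 * (φ g * conj (φ g)) = (φ g * (db : ℂ)) * (conj (φ g) * (db : ℂ)) := by ring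
      _ = ((dχ : ℂ) * (b : G → ℂ) g) * ((dχ : ℂ) * conj ((b : G → ℂ) g)) := by rw [hrel g, h4]
      _ = (dχ : ℂ) ^ 2 * ((b : G → ℂ) g * conj ((b : G → ℂ) g)) := by ring
  have h5 : (db : ℂ) ^ 2 = (dχ : ℂ) ^ 2 := mul_right_cancel₀ hNc h3
  have h6 : db ^ 2 = dχ ^ 2 := by exact_mod_cast h5
  have h7 : db = dχ := by
    exact Nat.pow_left_injective (by norm_num : 2 ≠ 0) h6
  have h8 : φ = (b : G → ℂ) := by
    funext g
    have h9 := hrel g
    rw [h7] at h9
    have hd : (dχ : ℂ) ≠ 0 := by exact_mod_cast hdχpos.ne'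
    rw [mul_comm] at h9
    exact mul_left_cancel₀ hd h9
  rw [h8]
  exact b.2

end Cfsg.Agent.Helper75
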