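import Cfsg.Agent.Lib.Helper81.CharAbel

set_option autoImplicit false
set_option linter.style.haveILetI false
set_option linter.unusedSectionVars false

namespace Cfsg.Agent.Helper75

open Cfsg Cfsg.Agent.Helper81

universe u

section
variable {G : Type u} [Group G] [Fintype G]

/-- induction from equal subgroups -/
theorem indFun_congr {A B : Subgroup G} (h : A = B) (a : A → ℂ) (b : B → ℂ)
    (hab : ∀ (x : G) (ha : x ∈ A) (hb : x ∈ B), a ⟨x, ha⟩ = b ⟨x, hb⟩) :
    indFun A a = indFun B b := by
  subst h
  have : a = b := funext fun x => hab x.1 x.2 x.2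
  rw [this]

/-- induction from the whole group -/
theorem indFun_top {χ : G → ℂ} (hχ : IsClassFunction G χ) :
    indFun (⊤ : Subgroup G) (fun x => χ x) = χ := by
  funext g
  rw [indFun_apply]
  have h1 : ∀ x : G, extendByZero (⊤ : Subgroup G) (fun y => χ y) (x⁻¹ * g * x) = χ g := by
    intro x
    rw [extendByZero_apply_mem _ _ (Subgroup.mem_top _)]
    have := hχ g x⁻¹
    rw [inv_inv] at this
    exact this
  simp only [h1, Finset.sum_const, Finset.card_univ, nsmul_eq_mul]
  have h2 : Nat.card (⊤ : Subgroup G) = Fintype.card G := by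
    rw [Subgroup.card_top, Nat.card_eq_fintype_card]
  rw [h2]
  have h3 : (Fintype.card G : ℂ) ≠ 0 := by
    exact_mod_cast Fintype.card_ne_zero
  field_simp

/-- induction in stages through a subgroup viewed as a group -/
theorem indFun_map_subtype (T : Subgroup G) [Fintype T] (H' : Subgroup T) (ψ' : H' → ℂ) :
    indFun (H'.map T.subtype)
      (fun x => ψ' ((H'.equivMapOfInjective T.subtype T.subtype_injective).symm x)) =
      indFun T (indFun H' ψ') := by
  set e := H'.equivMapOfInjective T.subtype T.subtype_injective with he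
  have hle : H'.map T.subtype ≤ T := Subgroup.map_subtype_le H'
  rw [← indFun_trans (H'.map T.subtype) T hle]
  congr 1
  apply indFun_congr
  · ext x
    rw [Subgroup.mem_subgroupOf]
    constructor
    · rintro ⟨y, hy, hyx⟩
      have : y = x := Subtype.ext hyx
      rwa [← this]
    · intro hx
      exact ⟨x, hx, rfl⟩
  · intro x ha hb
    show ψ' (e.symm ⟨(x : G), _⟩) = ψ' ⟨x, hb⟩
    congr 1
    apply e.injective
    rw [MulEquiv.apply_symm_apply]
    apply Subtype.ext
    rfl

end

end Cfsg.Agent.Helper75
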