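import Mathlib

set_option autoImplicit false

namespace Cfsg.Agent.Helper75.PD2

/-- sorted core of the `(2,2,2)` case: `1/a + 1/b + 1/c = 1 + 2/N`. -/
theorem tri_sorted (N a b c k1 k2 k3 : ℕ) (h1 : N = k1 * a) (h2 : N = k2 * b) (h3 : N = k3 * c)
    (ha : 2 ≤ a) (hab : a ≤ b) (hbc : b ≤ c) (hk1 : 3 ≤ k1) (hk2 : 3 ≤ k2) (hk3 : 3 ≤ k3)
    (hsum : k1 + k2 + k3 = N + 2) : N = 12 ∨ N = 24 ∨ N = 60 := by
  have hb : 2 ≤ b := le_trans ha hab
  have hc : 2 ≤ c := le_trans hb hbc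
  -- a = 2
  have ha2 : a = 2 := by
    by_contra hne
    have ha3 : 3 ≤ a := by omega
    have e1 : k1 * 3 ≤ N := by rw [h1]; exact Nat.mul_le_mul_left _ ha3
    have e2 : k2 * 3 ≤ N := by rw [h2]; exact Nat.mul_le_mul_left _ (by omega)
    have e3 : k3 * 3 ≤ N := by rw [h3]; exact Nat.mul_le_mul_left _ (by omega)
    omega
  subst ha2
  have hb3 : b ≤ 3 := by
    by_contra hne
    have hb4 : 4 ≤ b := by omega
    have e2 : k2 * 4 ≤ N := by rw [h2]; exact Nat.mul_le_mul_left _ hb4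
    have e3 : k3 * 4 ≤ N := by rw [h3]; exact Nat.mul_le_mul_left _ (by omega)
    omega
  have hb' : b = 2 ∨ b = 3 := by omega
  rcases hb' with rfl | rfl
  · omega
  · have hc6 : c < 6 := by
      by_contra hne
      have hc6 : 6 ≤ c := by omega
      have e3 : k3 * 6 ≤ N := by rw [h3]; exact Nat.mul_le_mul_left _ hc6
      omega
    interval_cases c <;> omega

theorem tri (N a b c k1 k2 k3 : ℕ) (h1 : N = k1 * a) (h2 : N = k2 * b) (h3 : N = k3 * c)
    (ha : 2 ≤ a) (hb : 2 ≤ b) (hc : 2 ≤ c) (hk1 : 3 ≤ k1) (hk2 : 3 ≤ k2) (hk3 : 3 ≤ k3)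
    (hsum : k1 + k2 + k3 = N + 2) : N = 12 ∨ N = 24 ∨ N = 60 := by
  rcases le_total a b with hab | hab <;> rcases le_total b c with hbc | hbc <;>
    rcases le_total a c with hac | hac
  · exact tri_sorted N a b c k1 k2 k3 h1 h2 h3 ha hab hbc hk1 hk2 hk3 hsum
  · exact tri_sorted N a b c k1 k2 k3 h1 h2 h3 ha hab hbc hk1 hk2 hk3 hsum
  · exact tri_sorted N a c b k1 k3 k2 h1 h3 h2 ha hac hbc hk1 hk3 hk2 (by omega)
  · exact tri_sorted N c a b k3 k1 k2 h3 h1 h2 hc hac hab hk3 hk1 hk2 (by omega)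
  · exact tri_sorted N b a c k2 k1 k3 h2 h1 h3 hb hab hac hk2 hk1 hk3 (by omega)
  · exact tri_sorted N b c a k2 k3 k1 h2 h3 h1 hb hbc hac hk2 hk3 hk1 (by omega)
  · exact tri_sorted N c b a k3 k2 k1 h3 h2 h1 hc hbc hab hk3 hk2 hk1 (by omega)
  · exact tri_sorted N c b a k3 k2 k1 h3 h2 h1 hc hbc hab hk3 hk2 hk1 (by omega)

/-- the `(1,2)` case. -/
theorem duo (N a b k1 k2 : ℕ) (h1 : N = k1 * a) (h2 : N = k2 * b)
    (ha : 2 ≤ a) (hb : 2 ≤ b) (hk1 : 3 ≤ k1) (hk2 : 3 ≤ k2)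
    (hsum : 2 * k1 + k2 = N + 2) : N = 12 ∨ N = 24 ∨ N = 60 := by
  have ha3 : 3 ≤ a := by
    by_contra hne
    have : a = 2 := by omega
    subst this
    omega
  have e1 : k1 * 3 ≤ N := by rw [h1]; exact Nat.mul_le_mul_left _ ha3
  have hb2 : b = 2 := by
    by_contra hne
    have hb3 : 3 ≤ b := by omega
    have e2 : k2 * 3 ≤ N := by rw [h2]; exact Nat.mul_le_mul_left _ hb3
    omega
  subst hb2
  have ha4 : a < 4 := by
    by_contra hne
    have ha4 : 4 ≤ a := by omega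
    have e1 : k1 * 4 ≤ N := by rw [h1]; exact Nat.mul_le_mul_left _ ha4
    omega
  have : a = 3 := by omega
  subst this
  omega

/-- data attached to one class of centralizers. `k = [G : A]`, `a = [A : Z]`, `w = [N(A) : A]`,
`d =` (size of the class union) `/ |Z|`. -/
def Dat (N d : ℕ) : Prop :=
  ∃ a w k : ℕ, k * a = N ∧ 2 ≤ a ∧ (w = 1 ∨ w = 2) ∧ 3 ≤ k ∧ w * d = N - k

theorem Dat.four_mul_ge {N d : ℕ} (h : Dat N d) : N ≤ 4 * d := by
  obtain ⟨a, w, k, h1, ha, hw, hk, hd⟩ := h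
  have e1 : k * 2 ≤ N := by rw [← h1]; exact Nat.mul_le_mul_left _ ha
  rcases hw with rfl | rfl <;> omega

theorem arith {ι : Type*} [DecidableEq ι] (s : Finset ι) (N : ℕ) (d : ι → ℕ)
    (h : ∀ b ∈ s, Dat N (d b)) (hsum : ∑ b ∈ s, d b = N - 1) (hN : 2 ≤ N) :
    N = 12 ∨ N = 24 ∨ N = 60 := by
  have hcard : s.card ≤ 3 := by
    by_contra hne
    have h4 : 4 ≤ s.card := by omega
    have : s.card * N ≤ ∑ b ∈ s, 4 * d b := by
      rw [← smul_eq_mul, ← Finset.sum_const]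
      exact Finset.sum_le_sum fun b hb => (h b hb).four_mul_ge
    rw [← Finset.mul_sum, hsum] at this
    have : 4 * N ≤ s.card * N := Nat.mul_le_mul_right _ h4
    omega
  have hc : s.card = 0 ∨ s.card = 1 ∨ s.card = 2 ∨ s.card = 3 := by omega
  rcases hc with hc | hc | hc | hc
  · rw [Finset.card_eq_zero] at hc
    subst hc
    simp at hsum
    omega
  · rw [Finset.card_eq_one] at hc
    obtain ⟨x, rfl⟩ := hc
    simp only [Finset.sum_singleton] at hsum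
    obtain ⟨a, w, k, h1, ha, hw, hk, hd⟩ := h x (by simp)
    have e1 : k * 2 ≤ N := by rw [← h1]; exact Nat.mul_le_mul_left _ ha
    rcases hw with rfl | rfl <;> omega
  · rw [Finset.card_eq_two] at hc
    obtain ⟨x, y, hxy, rfl⟩ := hc
    rw [Finset.sum_pair hxy] at hsum
    obtain ⟨a1, w1, k1, h1, ha1, hw1, hk1, hd1⟩ := h x (by simp)
    obtain ⟨a2, w2, k2, h2, ha2, hw2, hk2, hd2⟩ := h y (by simp)
    have e1 : k1 * 2 ≤ N := by rw [← h1]; exact Nat.mul_le_mul_left _ ha1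
    have e2 : k2 * 2 ≤ N := by rw [← h2]; exact Nat.mul_le_mul_left _ ha2
    rcases hw1 with rfl | rfl <;> rcases hw2 with rfl | rfl
    · omega
    · exact duo N a1 a2 k1 k2 h1.symm h2.symm ha1 ha2 hk1 hk2 (by omega)
    · exact duo N a2 a1 k2 k1 h2.symm h1.symm ha2 ha1 hk2 hk1 (by omega)
    · omega
  · rw [Finset.card_eq_three] at hc
    obtain ⟨x, y, z, hxy, hxz, hyz, rfl⟩ := hc
    rw [Finset.sum_insert (by simp [hxy, hxz]), Finset.sum_pair hyz] at hsum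
    obtain ⟨a1, w1, k1, h1, ha1, hw1, hk1, hd1⟩ := h x (by simp)
    obtain ⟨a2, w2, k2, h2, ha2, hw2, hk2, hd2⟩ := h y (by simp)
    obtain ⟨a3, w3, k3, h3, ha3, hw3, hk3, hd3⟩ := h z (by simp)
    have e1 : k1 * 2 ≤ N := by rw [← h1]; exact Nat.mul_le_mul_left _ ha1
    have e2 : k2 * 2 ≤ N := by rw [← h2]; exact Nat.mul_le_mul_left _ ha2
    have e3 : k3 * 2 ≤ N := by rw [← h3]; exact Nat.mul_le_mul_left _ ha3
    rcases hw1 with rfl | rfl <;> rcases hw2 with rfl | rfl <;> rcases hw3 with rfl | rfl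
    · omega
    · omega
    · omega
    · omega
    · omega
    · omega
    · omega
    · exact tri N a1 a2 a3 k1 k2 k3 h1.symm h2.symm h3.symm ha1 ha2 ha3 hk1 hk2 hk3 (by omega)

end Cfsg.Agent.Helper75.PD2
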