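import Mathlib
import Cfsg.Agent.Lib.Helper75.PrimDeg2Arith

set_option autoImplicit false

namespace Cfsg.Agent.Helper75.PD2

open Subgroup

variable {G : Type*} [Group G]

/-- centralizer of an element -/
abbrev Cg (g : G) : Subgroup G := Subgroup.centralizer ({g} : Set G)

theorem mem_Cg {g x : G} : x ∈ Cg g ↔ g * x = x * g := by
  simp [Cg, Subgroup.mem_centralizer_iff]

theorem self_mem_Cg (g : G) : g ∈ Cg g := mem_Cg.mpr rfl

theorem mem_Cg_comm {g x : G} : x ∈ Cg g ↔ g ∈ Cg x := by
  rw [mem_Cg, mem_Cg]; exact eq_comm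

theorem mem_Cg_conj {g x y : G} : x ∈ Cg (y * g * y⁻¹) ↔ y⁻¹ * x * y ∈ Cg g := by
  rw [mem_Cg, mem_Cg]
  constructor
  · intro h
    have e : g * (y⁻¹ * x * y) = y⁻¹ * ((y * g * y⁻¹) * x) * y := by group
    rw [e, h]; group
  · intro h
    have e : y * g * y⁻¹ * x = y * (g * (y⁻¹ * x * y)) * y⁻¹ := by group
    rw [e, h]; group

theorem center_le_Cg (g : G) : center G ≤ Cg g := by
  intro z hz
  rw [mem_Cg]
  exact ((Subgroup.mem_center_iff.mp hz) g)

theorem Cg_eq_top_iff {g : G} : Cg g = ⊤ ↔ g ∈ center G := by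
  constructor
  · intro h
    rw [Subgroup.mem_center_iff]
    intro x
    have : x ∈ Cg g := by rw [h]; trivial
    exact (mem_Cg.mp this).symm
  · intro h
    rw [eq_top_iff]
    intro x _
    rw [mem_Cg]
    exact ((Subgroup.mem_center_iff.mp h) x).symm

theorem conj_mem_center_iff {g x : G} : x * g * x⁻¹ ∈ center G ↔ g ∈ center G := by
  constructor
  · intro h
    have := (center G).normal_of_characteristic.conj_mem _ h x⁻¹
    simpa [mul_assoc] using this
  · intro h
    exact (center G).normal_of_characteristic.conj_mem _ h x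

theorem Cg_conj_congr {g h : G} (x : G) (e : Cg h = Cg g) :
    Cg (x * h * x⁻¹) = Cg (x * g * x⁻¹) := by
  ext z
  rw [mem_Cg_conj, mem_Cg_conj, e]

theorem Cg_conj_eq_iff_mem_normalizer {g y : G} :
    Cg (y * g * y⁻¹) = Cg g ↔ y ∈ normalizer (Cg g : Set G) := by
  rw [mem_normalizer_iff'']
  constructor
  · intro h z
    rw [← mem_Cg_conj, h]
  · intro h
    ext z
    rw [mem_Cg_conj, ← h z]

/-- conjugate centralizers have the same cardinality -/
def CgConjEquiv (g x : G) : Cg (x * g * x⁻¹) ≃ Cg g where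
  toFun z := ⟨x⁻¹ * z * x, mem_Cg_conj.mp z.2⟩
  invFun z := ⟨x * z * x⁻¹, mem_Cg_conj.mpr (by simpa [mul_assoc] using z.2)⟩
  left_inv z := by ext; simp [mul_assoc]
  right_inv z := by ext; simp [mul_assoc]

theorem card_Cg_conj (g x : G) : Nat.card (Cg (x * g * x⁻¹)) = Nat.card (Cg g) :=
  Nat.card_congr (CgConjEquiv g x)

section
variable (H1 : ∀ g : G, g ∉ center G → ∀ x ∈ Cg g, ∀ y ∈ Cg g, x * y = y * x)
include H1

theorem Cg_eq_of_mem {g x : G} (hg : g ∉ center G) (hx : x ∈ Cg g) (hxZ : x ∉ center G) :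
    Cg x = Cg g := by
  ext y
  constructor
  · intro hy
    have hgx : g ∈ Cg x := mem_Cg_comm.mp hx
    have := H1 x hxZ y hy g hgx
    rw [mem_Cg]; exact this.symm
  · intro hy
    have := H1 g hg x hx y hy
    rw [mem_Cg]; exact this

theorem Cg_eq_iff {g h : G} (hg : g ∉ center G) : Cg h = Cg g ↔ h ∈ Cg g ∧ h ∉ center G := by
  constructor
  · intro e
    refine ⟨e ▸ self_mem_Cg h, fun hZ => hg ?_⟩
    rw [← Cg_eq_top_iff, ← e, Cg_eq_top_iff]; exact hZ
  · rintro ⟨h1, h2⟩
    exact Cg_eq_of_mem H1 hg h1 h2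

end

/-- the relation "the centralizers are conjugate". -/
def Rel (g h : G) : Prop := ∃ x : G, Cg h = Cg (x * g * x⁻¹)

theorem Rel.refl (g : G) : Rel g g := ⟨1, by simp⟩

theorem Rel.symm {g h : G} (r : Rel g h) : Rel h g := by
  obtain ⟨x, e⟩ := r
  refine ⟨x⁻¹, ?_⟩
  have := Cg_conj_congr x⁻¹ e
  rw [this]
  congr 1
  group

theorem Rel.trans {g h k : G} (r1 : Rel g h) (r2 : Rel h k) : Rel g k := by
  obtain ⟨x, e1⟩ := r1
  obtain ⟨y, e2⟩ := r2
  refine ⟨y * x, ?_⟩
  rw [e2, Cg_conj_congr y e1]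
  congr 1
  group

theorem Rel.not_mem_center {g h : G} (r : Rel g h) (hg : g ∉ center G) : h ∉ center G := by
  obtain ⟨x, e⟩ := r
  intro hZ
  rw [← Cg_eq_top_iff, e, Cg_eq_top_iff, conj_mem_center_iff] at hZ
  exact hg hZ


section Count
variable [Fintype G]

open Classical in
/-- the class of `g`: elements whose centralizer is conjugate to that of `g`. -/
noncomputable def cls (g : G) : Finset G := Finset.univ.filter (fun h => Rel g h)

theorem mem_cls {g h : G} : h ∈ cls g ↔ Rel g h := by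
  classical
  simp [cls]

theorem cls_eq_of_rel {g h : G} (r : Rel g h) : cls h = cls g := by
  ext k
  rw [mem_cls, mem_cls]
  exact ⟨fun r' => r.trans r', fun r' => r.symm.trans r'⟩

open Classical in
theorem card_filter_Cg_eq
    (H1 : ∀ g : G, g ∉ center G → ∀ x ∈ Cg g, ∀ y ∈ Cg g, x * y = y * x)
    {g : G} (hg : g ∉ center G) :
    (Finset.univ.filter (fun h => Cg h = Cg g)).card + Nat.card (center G) = Nat.card (Cg g) := by
  have e1 : (Finset.univ.filter (fun h => Cg h = Cg g)) =
      (Finset.univ.filter (fun h => h ∈ Cg g)) \ (Finset.univ.filter (fun h => h ∈ center G)) := by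
    ext h
    simp only [Finset.mem_filter, Finset.mem_univ, true_and, Finset.mem_sdiff]
    exact Cg_eq_iff H1 hg
  have e2 : (Finset.univ.filter (fun h => h ∈ center G)) ⊆
      (Finset.univ.filter (fun h => h ∈ Cg g)) := by
    intro h
    simp only [Finset.mem_filter, Finset.mem_univ, true_and]
    exact fun hh => center_le_Cg g hh
  rw [e1, Finset.card_sdiff_of_subset e2]
  have c1 : (Finset.univ.filter (fun h => h ∈ Cg g)).card = Nat.card (Cg g) := by
    rw [Nat.card_eq_fintype_card, Fintype.card_subtype]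
  have c2 : (Finset.univ.filter (fun h => h ∈ center G)).card = Nat.card (center G) := by
    rw [Nat.card_eq_fintype_card, Fintype.card_subtype]
  rw [c1, c2]
  have : Nat.card (center G) ≤ Nat.card (Cg g) :=
    Nat.le_of_dvd Nat.card_pos (Subgroup.card_dvd_of_le (center_le_Cg g))
  omega

open Classical in
theorem card_filter_conj_eq {g h : G} (r : Rel g h) :
    (Finset.univ.filter (fun x => Cg h = Cg (x * g * x⁻¹))).card =
      Nat.card (normalizer (Cg g : Set G)) := by
  obtain ⟨x₀, e⟩ := r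
  rw [Nat.card_eq_fintype_card, ← Fintype.card_subtype]
  refine Fintype.card_congr (Equiv.subtypeEquiv (Equiv.mulLeft x₀⁻¹) ?_)
  intro x
  simp only [Equiv.coe_mulLeft]
  rw [← Cg_conj_eq_iff_mem_normalizer, e]
  constructor
  · intro e'
    have := Cg_conj_congr x₀⁻¹ e'
    have e3 : x₀⁻¹ * (x₀ * g * x₀⁻¹) * x₀⁻¹⁻¹ = g := by group
    have e4 : x₀⁻¹ * (x * g * x⁻¹) * x₀⁻¹⁻¹ = x₀⁻¹ * x * g * (x₀⁻¹ * x)⁻¹ := by group
    rw [e3, e4] at this
    exact this.symm
  · intro e'
    have := Cg_conj_congr x₀ e'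
    have e4 : x₀ * (x₀⁻¹ * x * g * (x₀⁻¹ * x)⁻¹) * x₀⁻¹ = x * g * x⁻¹ := by group
    rw [e4] at this
    exact this.symm

open Classical in
theorem card_cls_mul
    (H1 : ∀ g : G, g ∉ center G → ∀ x ∈ Cg g, ∀ y ∈ Cg g, x * y = y * x)
    {g : G} (hg : g ∉ center G) :
    (cls g).card * Nat.card (normalizer (Cg g : Set G)) + Nat.card G * Nat.card (center G) =
      Nat.card G * Nat.card (Cg g) := by
  have key := Finset.sum_card_bipartiteAbove_eq_sum_card_bipartiteBelow
    (s := (Finset.univ : Finset G)) (t := (Finset.univ : Finset G))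
    (fun x h => Cg h = Cg (x * g * x⁻¹))
  simp only [Finset.bipartiteAbove, Finset.bipartiteBelow] at key
  have lhs : ∀ x : G, (Finset.univ.filter (fun h => Cg h = Cg (x * g * x⁻¹))).card +
      Nat.card (center G) = Nat.card (Cg g) := by
    intro x
    rw [card_filter_Cg_eq H1 (g := x * g * x⁻¹) (by rwa [conj_mem_center_iff]), card_Cg_conj]
  have rhs : ∀ h : G, (Finset.univ.filter (fun x => Cg h = Cg (x * g * x⁻¹))).card =
      if Rel g h then Nat.card (normalizer (Cg g : Set G)) else 0 := by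
    intro h
    split_ifs with r
    · exact card_filter_conj_eq r
    · rw [Finset.card_eq_zero, Finset.filter_eq_empty_iff]
      intro x _ e
      exact r ⟨x, e⟩
  have s1 : ∑ x : G, ((Finset.univ.filter (fun h => Cg h = Cg (x * g * x⁻¹))).card +
      Nat.card (center G)) = Nat.card G * Nat.card (Cg g) := by
    rw [Finset.sum_congr rfl (fun x _ => lhs x), Finset.sum_const, Finset.card_univ,
      smul_eq_mul, Nat.card_eq_fintype_card (α := G)]
  rw [Finset.sum_add_distrib, key, Finset.sum_congr rfl (fun h _ => rhs h), Finset.sum_const,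
    Finset.card_univ, smul_eq_mul, ← Nat.card_eq_fintype_card (α := G)] at s1
  rw [← s1]
  congr 1
  rw [← Finset.sum_filter, Finset.sum_const, smul_eq_mul]
  rfl


theorem dat_of_cls
    (H1 : ∀ g : G, g ∉ center G → ∀ x ∈ Cg g, ∀ y ∈ Cg g, x * y = y * x)
    (H2 : ∀ g : G, g ∉ center G →
      Nat.card (normalizer (Cg g : Set G)) ≤ 2 * Nat.card (Cg g))
    (H3 : ∀ A : Subgroup G, (∀ x ∈ A, ∀ y ∈ A, x * y = y * x) → A.index ≠ 1 ∧ A.index ≠ 2)
    {g : G} (hg : g ∉ center G) :
    Dat (center G).index ((cls g).card / Nat.card (center G)) ∧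
      (cls g).card = Nat.card (center G) * ((cls g).card / Nat.card (center G)) := by
  have hcount := card_cls_mul H1 hg
  set cZ := Nat.card (center G) with hcZdef
  set cA := Nat.card (Cg g) with hcAdef
  set cN := Nat.card (normalizer (Cg g : Set G)) with hcNdef
  set cG := Nat.card G with hcGdef
  set N := (center G).index with hNdef
  have hcZ : 0 < cZ := Nat.card_pos
  have hcA : 0 < cA := Nat.card_pos
  have hcN : 0 < cN := Nat.card_pos
  have hGZ : cZ * N = cG := Subgroup.card_mul_index (center G)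
  obtain ⟨a, ha⟩ : cZ ∣ cA := Subgroup.card_dvd_of_le (center_le_Cg g)
  obtain ⟨w, hw⟩ : cA ∣ cN := Subgroup.card_dvd_of_le Subgroup.le_normalizer
  obtain ⟨m, hm⟩ : cN ∣ cG := Subgroup.card_subgroup_dvd_card _
  have hk : cA * (Cg g).index = cG := Subgroup.card_mul_index (Cg g)
  set k := (Cg g).index with hkdef
  have hk3 : 3 ≤ k := by
    have h3 := H3 (Cg g) (H1 g hg)
    have h0 : k ≠ 0 := Subgroup.index_ne_zero_of_finite
    omega
  have ha2 : 2 ≤ a := by
    by_contra hne
    have hle : cA ≤ cZ := by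
      have : a ≤ 1 := by omega
      calc cA = cZ * a := ha
        _ ≤ cZ * 1 := Nat.mul_le_mul_left _ this
        _ = cZ := mul_one _
    have := Subgroup.eq_of_le_of_card_ge (center_le_Cg g) hle
    exact hg (this ▸ self_mem_Cg g)
  have hw12 : w = 1 ∨ w = 2 := by
    have h2 := H2 g hg
    have hw0 : w ≠ 0 := by
      rintro rfl
      rw [mul_zero] at hw
      omega
    have : w ≤ 2 := by
      by_contra hne
      have : 3 ≤ w := by omega
      have : cA * 3 ≤ cA * w := Nat.mul_le_mul_left _ this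
      change cN ≤ 2 * cA at h2
      omega
    omega
  obtain ⟨a₁, rfl⟩ : ∃ a₁, a = a₁ + 1 := ⟨a - 1, by omega⟩
  have hkmw : k = w * m := by
    apply Nat.eq_of_mul_eq_mul_left hcA
    rw [hk, hm, hw, mul_assoc]
  have hNka : N = k * (a₁ + 1) := by
    apply Nat.eq_of_mul_eq_mul_left hcZ
    rw [hGZ, ← hk, ha]; ring
  have hb : (cls g).card = cZ * (m * a₁) := by
    have hw0 : 0 < w := by rcases hw12 with rfl | rfl <;> norm_num
    apply Nat.eq_of_mul_eq_mul_left (Nat.mul_pos hcA hw0)
    have e1 : (cls g).card * cN + cG * cZ = cG * cA := hcount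
    rw [hw] at e1
    have e2 : cG = cA * (w * m) := by rw [← hk, hkmw]
    rw [e2, ha] at e1
    rw [ha]
    nlinarith [e1]
  have hdiv : (cls g).card / cZ = m * a₁ := by
    rw [hb, Nat.mul_div_cancel_left _ hcZ]
  refine ⟨?_, ?_⟩
  · rw [hdiv]
    refine ⟨a₁ + 1, w, k, hNka.symm, ha2, hw12, hk3, ?_⟩
    rw [hNka, hkmw]
    have : w * m * (a₁ + 1) = w * (m * a₁) + w * m := by ring
    rw [this]
    omega
  · rw [hdiv, hb]

theorem index_center_of_partition
    (H1 : ∀ g : G, g ∉ center G → ∀ x ∈ Cg g, ∀ y ∈ Cg g, x * y = y * x)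
    (H2 : ∀ g : G, g ∉ center G →
      Nat.card (normalizer (Cg g : Set G)) ≤ 2 * Nat.card (Cg g))
    (H3 : ∀ A : Subgroup G, (∀ x ∈ A, ∀ y ∈ A, x * y = y * x) → A.index ≠ 1 ∧ A.index ≠ 2) :
    (center G).index = 12 ∨ (center G).index = 24 ∨ (center G).index = 60 := by
  classical
  set cZ := Nat.card (center G) with hcZdef
  set N := (center G).index with hNdef
  have hcZ : 0 < cZ := Nat.card_pos
  have hGZ : cZ * N = Nat.card G := Subgroup.card_mul_index (center G)
  have hN3 : 3 ≤ N := by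
    have h3 := H3 (center G) (fun x hx y _ => ((Subgroup.mem_center_iff.mp hx) y).symm)
    have h0 : N ≠ 0 := Subgroup.index_ne_zero_of_finite
    omega
  let S : Finset G := Finset.univ.filter (fun g => g ∉ center G)
  have hS : S.card + cZ = Nat.card G := by
    have c2 : (Finset.univ.filter (fun h : G => h ∈ center G)).card = cZ := by
      rw [hcZdef, Nat.card_eq_fintype_card, Fintype.card_subtype]
    have := Finset.card_filter_add_card_filter_not (s := (Finset.univ : Finset G))
      (fun h : G => h ∈ center G)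
    rw [c2, Finset.card_univ, ← Nat.card_eq_fintype_card] at this
    rw [← this]
    exact add_comm _ _
  have hpart : S.card = ∑ b ∈ S.image cls, b.card := by
    rw [Finset.card_eq_sum_card_image cls S]
    refine Finset.sum_congr rfl ?_
    intro b hb
    obtain ⟨g, hg, rfl⟩ := Finset.mem_image.mp hb
    have hg' : g ∉ center G := by simpa [S] using hg
    congr 1
    ext h
    simp only [Finset.mem_filter, S, Finset.mem_univ, true_and]
    constructor
    · rintro ⟨_, e⟩
      rw [← e, mem_cls]; exact Rel.refl h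
    · intro hh
      rw [mem_cls] at hh
      exact ⟨hh.not_mem_center hg', cls_eq_of_rel hh⟩
  have hdat : ∀ b ∈ S.image cls, Dat N (b.card / cZ) ∧ b.card = cZ * (b.card / cZ) := by
    intro b hb
    obtain ⟨g, hg, rfl⟩ := Finset.mem_image.mp hb
    have hg' : g ∉ center G := by simpa [S] using hg
    exact dat_of_cls H1 H2 H3 hg'
  have hsum : ∑ b ∈ S.image cls, b.card / cZ = N - 1 := by
    have : cZ * ∑ b ∈ S.image cls, b.card / cZ = cZ * (N - 1) := by
      rw [Finset.mul_sum, ← Finset.sum_congr rfl (fun b hb => (hdat b hb).2), ← hpart]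
      have : cZ * (N - 1) + cZ = cZ * N := by
        rw [← Nat.mul_succ]; congr 1; omega
      omega
    exact Nat.eq_of_mul_eq_mul_left hcZ this
  exact arith (S.image cls) N (fun b => b.card / cZ) (fun b hb => (hdat b hb).1) hsum (by omega)

end Count

end Cfsg.Agent.Helper75.PD2
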