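import Mathlib
import Cfsg.Agent.Lib.Helper75.PrimDeg2Count
import Cfsg.Agent.Lib.Helper75.CharGalois

set_option autoImplicit false

namespace Cfsg.Agent.Helper75.PD2

open Subgroup Matrix

variable {G : Type*} [Group G]

section Diag
variable (M : G → Matrix (Fin 2) (Fin 2) ℂ) (hM1 : M 1 = 1)
  (hMmul : ∀ g h, M (g * h) = M g * M h) (hMinj : Function.Injective M)
  {g : G} {μ0 μ1 : ℂ} (hμ : μ0 ≠ μ1) (hg : M g = !![μ0, 0; 0, μ1])

include hMmul hμ hg in
theorem diag_of_mem_Cg {x : G} (hx : x ∈ Cg g) : M x = !![M x 0 0, 0; 0, M x 1 1] := by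
  have hc : M g * M x = M x * M g := by rw [← hMmul, ← hMmul, mem_Cg.mp hx]
  rw [hg] at hc
  have h01 := congrFun (congrFun hc 0) 1
  have h10 := congrFun (congrFun hc 1) 0
  simp [Matrix.mul_apply, Fin.sum_univ_two] at h01 h10
  have e01 : M x 0 1 = 0 := by
    have : (μ0 - μ1) * M x 0 1 = 0 := by linear_combination h01
    rcases mul_eq_zero.mp this with h | h
    · exact absurd (sub_eq_zero.mp h) hμ
    · exact h
  have e10 : M x 1 0 = 0 := by
    have : (μ0 - μ1) * M x 1 0 = 0 := by linear_combination -h10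
    rcases mul_eq_zero.mp this with h | h
    · exact absurd (sub_eq_zero.mp h) hμ
    · exact h
  conv_lhs => rw [Matrix.eta_fin_two (M x), e01, e10]

include hMmul hMinj hμ hg in
theorem comm_of_mem_Cg {x y : G} (hx : x ∈ Cg g) (hy : y ∈ Cg g) : x * y = y * x := by
  apply hMinj
  rw [hMmul, hMmul, diag_of_mem_Cg M hMmul hμ hg hx, diag_of_mem_Cg M hMmul hμ hg hy]
  simp [mul_comm]

include hM1 hMmul hMinj hμ hg in
theorem normalizer_alt {x : G} (hx : x ∈ normalizer (Cg g : Set G)) :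
    x ∈ Cg g ∨ M (x * g * x⁻¹) = !![μ1, 0; 0, μ0] := by
  have hmem : x * g * x⁻¹ ∈ Cg g := (mem_normalizer_iff.mp hx g).mp (self_mem_Cg g)
  have hd := diag_of_mem_Cg M hMmul hμ hg hmem
  set p := M (x * g * x⁻¹) 0 0
  set q := M (x * g * x⁻¹) 1 1
  have hXX' : M x⁻¹ * M x = 1 := by rw [← hMmul, inv_mul_cancel, hM1]
  have hX'X : M x * M x⁻¹ = 1 := by rw [← hMmul, mul_inv_cancel, hM1]
  have hconj : M (x * g * x⁻¹) = M x * M g * M x⁻¹ := by rw [hMmul, hMmul]
  have htr : p + q = μ0 + μ1 := by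
    have h1 : Matrix.trace (M (x * g * x⁻¹)) = Matrix.trace (M g) := by
      rw [hconj, Matrix.trace_mul_comm, ← Matrix.mul_assoc, hXX', Matrix.one_mul]
    rw [hd, hg] at h1
    simpa [Matrix.trace_fin_two] using h1
  have hdet : p * q = μ0 * μ1 := by
    have h1 : Matrix.det (M (x * g * x⁻¹)) = Matrix.det (M g) := by
      rw [hconj, Matrix.det_mul, Matrix.det_mul, mul_right_comm, ← Matrix.det_mul, hX'X,
        Matrix.det_one, one_mul]
    rw [hd, hg] at h1
    simpa [Matrix.det_fin_two] using h1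
  have hp : (p - μ0) * (p - μ1) = 0 := by
    have : q = μ0 + μ1 - p := by linear_combination htr
    rw [this] at hdet
    linear_combination -hdet
  rcases mul_eq_zero.mp hp with h | h
  · left
    have hp0 : p = μ0 := sub_eq_zero.mp h
    have hq1 : q = μ1 := by rw [hp0] at htr; exact add_left_cancel htr
    have : M (x * g * x⁻¹) = M g := by rw [hd, hg, hp0, hq1]
    have e := hMinj this
    rw [mem_Cg]
    calc g * x = (x * g * x⁻¹) * x := by rw [e]
      _ = x * g := by group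
  · right
    have hp1 : p = μ1 := sub_eq_zero.mp h
    have hq0 : q = μ0 := by rw [hp1, add_comm] at htr; exact add_right_cancel htr
    rw [hd, hp1, hq0]

include hM1 hMmul hMinj hμ hg in
theorem card_normalizer_le [Finite G] :
    Nat.card (normalizer (Cg g : Set G)) ≤ 2 * Nat.card (Cg g) := by
  classical
  by_cases hle : normalizer (Cg g : Set G) ≤ Cg g
  · have := Subgroup.card_le_of_le hle
    omega
  · obtain ⟨y₀, hy₀N, hy₀A⟩ := SetLike.not_le_iff_exists.mp hle
    have hy₀ := (normalizer_alt M hM1 hMmul hMinj hμ hg hy₀N).resolve_left hy₀A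
    have key : ∀ x ∈ normalizer (Cg g : Set G), x ∉ Cg g → y₀⁻¹ * x ∈ Cg g := by
      intro x hxN hxA
      have hx := (normalizer_alt M hM1 hMmul hMinj hμ hg hxN).resolve_left hxA
      have e : x * g * x⁻¹ = y₀ * g * y₀⁻¹ := hMinj (hx.trans hy₀.symm)
      rw [mem_Cg]
      calc g * (y₀⁻¹ * x) = y₀⁻¹ * (y₀ * g * y₀⁻¹) * x := by group
        _ = y₀⁻¹ * (x * g * x⁻¹) * x := by rw [e]
        _ = y₀⁻¹ * x * g := by group
    let f : normalizer (Cg g : Set G) → (Cg g) ⊕ (Cg g) := fun x =>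
      if h : (x : G) ∈ Cg g then Sum.inl ⟨x, h⟩ else Sum.inr ⟨y₀⁻¹ * x, key x x.2 h⟩
    have hf : Function.Injective f := by
      intro x y hxy
      simp only [f] at hxy
      by_cases hx : (x : G) ∈ Cg g <;> by_cases hy : (y : G) ∈ Cg g
      · rw [dif_pos hx, dif_pos hy] at hxy
        have h1 : (⟨(x : G), hx⟩ : Cg g) = ⟨(y : G), hy⟩ := Sum.inl.inj hxy
        have h2 := congrArg Subtype.val h1
        exact Subtype.ext h2
      · rw [dif_pos hx, dif_neg hy] at hxy; exact absurd hxy (by simp)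
      · rw [dif_neg hx, dif_pos hy] at hxy; exact absurd hxy (by simp)
      · rw [dif_neg hx, dif_neg hy] at hxy
        have h1 : (⟨y₀⁻¹ * (x : G), key x x.2 hx⟩ : Cg g) = ⟨y₀⁻¹ * (y : G), key y y.2 hy⟩ :=
          Sum.inr.inj hxy
        have := congrArg Subtype.val h1
        exact Subtype.ext (mul_left_cancel this)
    have := Nat.card_le_card_of_injective f hf
    rw [Nat.card_sum] at this
    omega

end Diag


theorem exists_diag_model [Finite G] (ρ : Representation ℂ G (Fin 2 → ℂ))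
    (hinj : Function.Injective ρ) {g : G} (hg : g ∉ center G) :
    ∃ (M : G → Matrix (Fin 2) (Fin 2) ℂ) (μ0 μ1 : ℂ), M 1 = 1 ∧
      (∀ a b, M (a * b) = M a * M b) ∧ Function.Injective M ∧ μ0 ≠ μ1 ∧
      M g = !![μ0, 0; 0, μ1] := by
  classical
  have hm : 0 < orderOf g := orderOf_pos g
  have hA : (ρ g) ^ orderOf g = 1 := by rw [← map_pow, pow_orderOf_eq_one, map_one]
  obtain ⟨v, μ, hv⟩ := exists_eigenbasis_of_pow_eq_one (ρ g) (orderOf g) hm hA
  have hfr : Module.finrank ℂ (Fin 2 → ℂ) = 2 := Module.finrank_fin_fun ℂ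
  let v' : Module.Basis (Fin 2) ℂ (Fin 2 → ℂ) := v.reindex (finCongr hfr)
  let μ' : Fin 2 → ℂ := fun i => μ ((finCongr hfr).symm i)
  have hv' : ∀ i, ρ g (v' i) = μ' i • v' i := by
    intro i
    simp only [v', μ', Module.Basis.reindex_apply]
    exact hv _
  refine ⟨fun h => LinearMap.toMatrix v' v' (ρ h), μ' 0, μ' 1, ?_, ?_, ?_, ?_, ?_⟩
  · simp only [map_one]
    exact LinearMap.toMatrix_one v'
  · intro a b
    simp only [map_mul]
    exact LinearMap.toMatrix_mul v' _ _
  · exact (LinearMap.toMatrix v' v').injective.comp hinj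
  · intro h
    have hsc : ρ g = μ' 0 • (1 : Module.End ℂ (Fin 2 → ℂ)) := by
      apply v'.ext
      intro i
      rw [hv']
      fin_cases i
      · simp
      · simp [h]
    apply hg
    rw [Subgroup.mem_center_iff]
    intro x
    apply hinj
    rw [map_mul, map_mul, hsc]
    simp
  · show LinearMap.toMatrix v' v' (ρ g) = !![μ' 0, 0; 0, μ' 1]
    ext i j
    rw [LinearMap.toMatrix_apply, hv']
    fin_cases i <;> fin_cases j <;> simp [Finsupp.single_apply]

theorem H1_of_rep [Finite G] (ρ : Representation ℂ G (Fin 2 → ℂ))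
    (hinj : Function.Injective ρ) :
    ∀ g : G, g ∉ center G → ∀ x ∈ Cg g, ∀ y ∈ Cg g, x * y = y * x := by
  intro g hg x hx y hy
  obtain ⟨M, μ0, μ1, hM1, hMmul, hMinj, hμ, hgM⟩ := exists_diag_model ρ hinj hg
  exact comm_of_mem_Cg M hMmul hMinj hμ hgM hx hy

theorem H2_of_rep [Finite G] (ρ : Representation ℂ G (Fin 2 → ℂ))
    (hinj : Function.Injective ρ) :
    ∀ g : G, g ∉ center G →
      Nat.card (normalizer (Cg g : Set G)) ≤ 2 * Nat.card (Cg g) := by
  intro g hg
  obtain ⟨M, μ0, μ1, hM1, hMmul, hMinj, hμ, hgM⟩ := exists_diag_model ρ hinj hg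
  exact card_normalizer_le M hM1 hMmul hMinj hμ hgM

end Cfsg.Agent.Helper75.PD2
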