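import Mathlib
import Cfsg.Agent.S1017
import Cfsg.Agent.Lib.Helper17.Simple

/-!
# O4320 server (helper50, S0977): piece (IDX) `index_ge_nine`
-/

set_option autoImplicit false

namespace Cfsg.Agent.Helper75.O4320

open Cfsg MulAction

universe u

section GT

variable {G : Type u} [Group G] [Finite G] [IsSimpleGroup G]

/-- (IDX) a proper subgroup of a simple group of order 4320 has index at least 9. -/
theorem index_ge_nine (hG : Nat.card G = 4320) (H : Subgroup G) (hH : H ≠ ⊤) : 9 ≤ H.index := by
  have hnc : ¬ IsMulCommutative G :=
    Cfsg.Agent.Helper17.not_comm_of_not_prime (by rw [hG]; norm_num)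
  have h := Cfsg.Agent.Helper17.two_mul_card_dvd_factorial hnc H hH
  rw [hG] at h
  by_contra hlt
  push Not at hlt
  have h8 : (H.index).factorial ∣ (8).factorial := Nat.factorial_dvd_factorial (by omega)
  have h9 := dvd_trans h h8
  revert h9
  norm_num [Nat.factorial]

end GT

end Cfsg.Agent.Helper75.O4320
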