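import Mathlib
import Cfsg.Agent.Lib.Helper53.CD3ADefs
import Cfsg.Agent.Lib.Helper81.CharClifford

/-!
# CD3A (KMAX) `exists_K` (helper53 server, S4460) -- helper75
-/

set_option autoImplicit false

namespace Cfsg.Agent.Helper75.CD3A

open Cfsg Cfsg.Agent.Helper53.CD3A Cfsg.Agent.Helper81
open scoped ComplexConjugate commutatorElement

universe u

/-- (KMAX) choice of `K`: maximal among the normal subgroups containing `G''` and not containing `G'`. -/
theorem exists_K {G : Type u} [Group G] [Finite G]
    (h : ⁅commutator G, commutator G⁆ ≠ commutator G) :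
    ∃ K : Subgroup G, K.Normal ∧ ⁅commutator G, commutator G⁆ ≤ K ∧ ¬ commutator G ≤ K ∧
      ∀ L : Subgroup G, L.Normal → K < L → commutator G ≤ L := by
  classical
  let S : Set (Subgroup G) :=
    {K | K.Normal ∧ ⁅commutator G, commutator G⁆ ≤ K ∧ ¬ commutator G ≤ K}
  have hle : ⁅commutator G, commutator G⁆ ≤ commutator G :=
    Subgroup.commutator_le_left _ _
  have hne : S.Nonempty := by
    refine ⟨⁅commutator G, commutator G⁆, ?_, le_refl _, ?_⟩
    · haveI : (commutator G).Normal := inferInstance
      exact Subgroup.commutator_normal _ _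
    · intro hc
      exact h (le_antisymm hle hc)
  obtain ⟨K, hK⟩ := Set.Finite.exists_maximal (Set.toFinite S) hne
  refine ⟨K, hK.prop.1, hK.prop.2.1, hK.prop.2.2, ?_⟩
  intro L hL hKL
  by_contra hc
  have hLS : L ∈ S := ⟨hL, le_trans hK.prop.2.1 hKL.le, hc⟩
  exact absurd (hK.le_of_ge hLS hKL.le) (not_le_of_gt hKL)

end Cfsg.Agent.Helper75.CD3A
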