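import Mathlib
import Cfsg.Agent.Lib.Helper93.U20

/-!
# U2 project (S2335), piece C7a: a norm fibre `t ^ (q + 1) = d` has at most `q + 1` points.
-/

set_option autoImplicit false

namespace Cfsg.Agent.Helper75.U2

open Matrix Cfsg.Agent.Helper13 Cfsg.Agent.Helper93.U2

section CNT

variable {F : Type*} [Field F] [Fintype F] {q : ℕ} (hF : Fintype.card F = q ^ 2) {m : ℕ}

/-- piece C7a -/
theorem ncard_norm_fibre_le (d : F) : {t : F | t ^ (q + 1) = d}.ncard ≤ q + 1 := by
  classical
  have hsub : {t : F | t ^ (q + 1) = d} ⊆ ((Polynomial.nthRoots (q + 1) d).toFinset : Set F) := by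
    intro t ht
    simp only [Finset.mem_coe, Multiset.mem_toFinset]
    exact (Polynomial.mem_nthRoots (Nat.succ_pos q)).2 ht
  calc {t : F | t ^ (q + 1) = d}.ncard
      ≤ ((Polynomial.nthRoots (q + 1) d).toFinset : Set F).ncard :=
        Set.ncard_le_ncard hsub (Finset.finite_toSet _)
    _ = (Polynomial.nthRoots (q + 1) d).toFinset.card := Set.ncard_coe_finset _
    _ ≤ Multiset.card (Polynomial.nthRoots (q + 1) d) := Multiset.toFinset_card_le _
    _ ≤ q + 1 := Polynomial.card_nthRoots _ _

end CNT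

end Cfsg.Agent.Helper75.U2
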