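import Mathlib
import Cfsg.Agent.Lib.Helper7.CWDefs

/-!
# CW lemma server (S0406), auxiliary lemmas for pieces (CS), (N4e)
-/

set_option autoImplicit false
open Matrix

namespace Cfsg.Agent.Helper75.CW
open Cfsg Cfsg.Agent.Helper7.CW

variable {Λ : AddSubgroup V}

/-- vectors of bounded sum of squares form a finite set -/
theorem h75cw_finite_sq_le (N : ℤ) : {y : V | ∑ i, y i ^ 2 ≤ N}.Finite := by
  apply Set.Finite.subset (Set.Finite.pi (fun _ : Fin 24 => Set.finite_Icc (-N) N))
  intro y hy i _
  have h1 : y i ^ 2 ≤ N :=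
    le_trans (Finset.single_le_sum (fun j _ => sq_nonneg (y j)) (Finset.mem_univ i)) hy
  have h2 : y i ≤ y i ^ 2 := Int.le_self_sq (y i)
  have h3 : -(y i) ≤ (-(y i)) ^ 2 := Int.le_self_sq (-(y i))
  rw [neg_sq] at h3
  constructor <;> linarith

theorem h75cw_dbl_injective : Function.Injective dbl := by
  intro a b hab
  funext i
  have := congrFun hab i
  simp only [dbl] at this
  linarith

theorem h75cw_sum_dbl_sq (a : V) : ∑ i, (dbl a) i ^ 2 = 4 * ∑ i, a i ^ 2 := by
  rw [Finset.mul_sum]
  refine Finset.sum_congr rfl (fun i _ => ?_)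
  simp only [dbl]; ring

/-- the weight of `redV a` is at most the sum of squares of `a` -/
theorem h75cw_hammingNorm_le (a : V) : (hammingNorm (redV a) : ℤ) ≤ ∑ i, a i ^ 2 := by
  classical
  unfold hammingNorm
  calc ((Finset.univ.filter (fun i => redV a i ≠ 0)).card : ℤ)
      = ∑ i ∈ Finset.univ.filter (fun i => redV a i ≠ 0), (1 : ℤ) := by simp
    _ ≤ ∑ i ∈ Finset.univ.filter (fun i => redV a i ≠ 0), a i ^ 2 := by
        apply Finset.sum_le_sum
        intro i hi
        have hne : redV a i ≠ 0 := (Finset.mem_filter.1 hi).2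
        have ha0 : a i ≠ 0 := by
          intro h0
          apply hne
          simp [redV, h0]
        have : 0 < a i ^ 2 := by positivity
        omega
    _ ≤ ∑ i, a i ^ 2 :=
        Finset.sum_le_sum_of_subset_of_nonneg (Finset.filter_subset _ _)
          (fun i _ _ => sq_nonneg (a i))

end Cfsg.Agent.Helper75.CW
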