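import Mathlib
import Cfsg.Agent.Lib.Helper7.CWDefs
import Cfsg.Agent.Lib.Helper75.CWAux

/-!
# CW lemma server (S0406), piece (CS)
-/

set_option autoImplicit false
open Matrix

namespace Cfsg.Agent.Helper75.CW
open Cfsg Cfsg.Agent.Helper7.CW

variable {Λ : AddSubgroup V}

theorem count_split (h : CL Λ) :
    {y : V | y ∈ Λ ∧ ∑ i, y i ^ 2 = 32}.ncard ≤
      {a : V | dbl a ∈ Λ ∧ ∑ i, a i ^ 2 = 8}.ncard +
      {y : V | y ∈ Λ ∧ (∃ i, Odd (y i)) ∧ ∑ i, y i ^ 2 = 32}.ncard := by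
  classical
  have hAfin : {a : V | dbl a ∈ Λ ∧ ∑ i, a i ^ 2 = 8}.Finite :=
    (h75cw_finite_sq_le 8).subset (fun a ha => le_of_eq ha.2)
  have hBfin : {y : V | y ∈ Λ ∧ (∃ i, Odd (y i)) ∧ ∑ i, y i ^ 2 = 32}.Finite :=
    (h75cw_finite_sq_le 32).subset (fun y hy => le_of_eq hy.2.2)
  have hsub : {y : V | y ∈ Λ ∧ ∑ i, y i ^ 2 = 32} ⊆
      dbl '' {a : V | dbl a ∈ Λ ∧ ∑ i, a i ^ 2 = 8} ∪
        {y : V | y ∈ Λ ∧ (∃ i, Odd (y i)) ∧ ∑ i, y i ^ 2 = 32} := by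
    rintro y ⟨hy, h32⟩
    by_cases hodd : ∃ i, Odd (y i)
    · exact Or.inr ⟨hy, hodd, h32⟩
    · left
      simp only [not_exists] at hodd
      have hev : ∀ i, Even (y i) := fun i => Int.not_odd_iff_even.1 (hodd i)
      choose a ha using hev
      have hda : dbl a = y := by
        funext i; rw [dbl, ha i]; ring
      refine ⟨a, ⟨?_, ?_⟩, hda⟩
      · rw [hda]; exact hy
      · have := h75cw_sum_dbl_sq a
        rw [hda, h32] at this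
        omega
  calc {y : V | y ∈ Λ ∧ ∑ i, y i ^ 2 = 32}.ncard
      ≤ (dbl '' {a : V | dbl a ∈ Λ ∧ ∑ i, a i ^ 2 = 8} ∪
        {y : V | y ∈ Λ ∧ (∃ i, Odd (y i)) ∧ ∑ i, y i ^ 2 = 32}).ncard :=
        Set.ncard_le_ncard hsub ((hAfin.image _).union hBfin)
    _ ≤ (dbl '' {a : V | dbl a ∈ Λ ∧ ∑ i, a i ^ 2 = 8}).ncard +
        {y : V | y ∈ Λ ∧ (∃ i, Odd (y i)) ∧ ∑ i, y i ^ 2 = 32}.ncard := Set.ncard_union_le _ _
    _ ≤ {a : V | dbl a ∈ Λ ∧ ∑ i, a i ^ 2 = 8}.ncard +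
        {y : V | y ∈ Λ ∧ (∃ i, Odd (y i)) ∧ ∑ i, y i ^ 2 = 32}.ncard :=
        Nat.add_le_add_right (Set.ncard_image_le hAfin) _

end Cfsg.Agent.Helper75.CW
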