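import Mathlib
import Cfsg.Agent.Lib.Helper7.CWDefs

/-!
# CW lemma server (S0406), piece (D)
-/

set_option autoImplicit false
open Matrix

namespace Cfsg.Agent.Helper75.CW
open Cfsg Cfsg.Agent.Helper7.CW

variable {Λ : AddSubgroup V}

theorem D_le (h : CL Λ) (y : V) (h4 : ∀ i, (4 : ℤ) ∣ y i) (h8 : (8 : ℤ) ∣ ∑ i, y i) : y ∈ Λ := by
  classical
  choose c hc using h4
  obtain ⟨s, hs⟩ := h8
  have h01 : (0 : Fin 24) ≠ 1 := by decide
  have hmem : (∑ i, c i • ((Pi.single i 4 - Pi.single 0 4 : V))) +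
      s • (((Pi.single 0 4 + Pi.single 1 4 : V)) + (Pi.single 0 4 - Pi.single 1 4 : V)) ∈ Λ := by
    apply Λ.add_mem
    · apply Λ.sum_mem
      intro i _
      apply Λ.zsmul_mem
      by_cases hi : i = 0
      · subst hi; rw [sub_self]; exact Λ.zero_mem
      · exact (h.pair i 0 hi).2
    · apply Λ.zsmul_mem
      exact Λ.add_mem (h.pair 0 1 h01).1 (h.pair 0 1 h01).2
  have hsc : ∑ i, c i = 2 * s := by
    have h1 : ∑ i, y i = 4 * ∑ i, c i := by
      rw [Finset.mul_sum]; exact Finset.sum_congr rfl (fun i _ => hc i)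
    rw [h1] at hs
    omega
  convert hmem using 1
  funext j
  simp only [Pi.add_apply, Finset.sum_apply, Pi.smul_apply, Pi.sub_apply, Pi.single_apply,
    smul_eq_mul]
  have key : (∑ i, c i * ((if j = i then (4 : ℤ) else 0) - (if j = 0 then (4 : ℤ) else 0))) =
      4 * c j - (if j = 0 then (4 : ℤ) else 0) * ∑ i, c i := by
    simp only [mul_sub, Finset.sum_sub_distrib, mul_ite, mul_zero, Finset.sum_ite_eq,
      Finset.mem_univ, if_true]
    by_cases hj : j = 0
    · simp only [hj, if_true]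
      rw [← Finset.sum_mul]; ring
    · simp only [hj, if_false, Finset.sum_const_zero]; ring
  rw [key, hsc, hc j]
  split_ifs <;> ring

end Cfsg.Agent.Helper75.CW
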