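import Mathlib
import Cfsg.Agent.Lib.Helper7.CWDefs

/-!
# CW lemma server (S0406), piece (K)
-/

set_option autoImplicit false
open Matrix

namespace Cfsg.Agent.Helper75.CW
open Cfsg Cfsg.Agent.Helper7.CW

variable {Λ : AddSubgroup V}

theorem ker_sum (h : CL Λ)
    (hD : ∀ y : V, (∀ i, (4 : ℤ) ∣ y i) → (8 : ℤ) ∣ ∑ i, y i → y ∈ Λ)
    (a : V) (ha : dbl a ∈ Λ) (hev : ∀ i, (2 : ℤ) ∣ a i) : (4 : ℤ) ∣ ∑ i, a i := by
  classical
  choose c hc using hev
  have hsum : ∑ i, a i = 2 * ∑ i, c i := by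
    rw [Finset.mul_sum]; exact Finset.sum_congr rfl (fun i _ => hc i)
  rcases Int.even_or_odd (∑ i, c i) with he | ho
  · obtain ⟨t, ht⟩ := he
    rw [hsum, ht]; exact ⟨t, by ring⟩
  · exfalso
    obtain ⟨t, ht⟩ := ho
    have hsingle : ∑ i, (Pi.single (0 : Fin 24) (4 : ℤ) : V) i = 4 := by
      simp [Pi.single_apply]
    have hz : dbl a - Pi.single 0 4 ∈ Λ := by
      apply hD
      · intro i
        simp only [Pi.sub_apply, dbl, Pi.single_apply]
        rw [hc i]
        split_ifs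
        · exact ⟨c i - 1, by ring⟩
        · exact ⟨c i, by ring⟩
      · have : ∑ i, (dbl a - Pi.single 0 4 : V) i = 8 * t := by
          simp only [Pi.sub_apply, Finset.sum_sub_distrib, dbl]
          rw [← Finset.mul_sum, hsum, ht, hsingle]; ring
        rw [this]; exact ⟨t, rfl⟩
    have hs : (Pi.single 0 4 : V) ∈ Λ := by
      have := Λ.sub_mem ha hz
      rwa [sub_sub_cancel] at this
    have hne : (Pi.single 0 4 : V) ≠ 0 := by
      intro h0
      have := congrFun h0 0
      simp at this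
    have hmin := h.min _ hs hne
    have h16 : ∑ i, (Pi.single (0 : Fin 24) (4 : ℤ) : V) i ^ 2 = 16 := by
      simp [Pi.single_apply, ite_pow]
    rw [h16] at hmin
    omega

end Cfsg.Agent.Helper75.CW
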