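import Mathlib
import Cfsg.Agent.Lib.Helper7.CWDefs
import Cfsg.Agent.Lib.Helper75.CWAux

/-!
# CW lemma server (S0406), piece (N4e)
-/

set_option autoImplicit false
open Matrix

namespace Cfsg.Agent.Helper75.CW
open Cfsg Cfsg.Agent.Helper7.CW

variable {Λ : AddSubgroup V}

theorem count_even (h : CL Λ)
    (hW2 : ∀ w ∈ code Λ, w ≠ 0 → 8 ≤ hammingNorm w ∧ 4 ∣ hammingNorm w)
    (hA : {y : V | (∀ i, (4 : ℤ) ∣ y i) ∧ ∑ i, y i ^ 2 = 32}.ncard ≤ 1104)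
    (hB : ∀ w : Fin 24 → ZMod 2, hammingNorm w = 8 →
      {a : V | dbl a ∈ Λ ∧ redV a = w ∧ ∑ i, a i ^ 2 = 8}.ncard ≤ 128) :
    {a : V | dbl a ∈ Λ ∧ ∑ i, a i ^ 2 = 8}.ncard ≤
      1104 + 128 * {w : Fin 24 → ZMod 2 | w ∈ code Λ ∧ hammingNorm w = 8}.ncard := by
  classical
  have hSfin : {a : V | dbl a ∈ Λ ∧ ∑ i, a i ^ 2 = 8}.Finite :=
    (h75cw_finite_sq_le 8).subset (fun a ha => le_of_eq ha.2)
  have hS0fin : {a : V | (dbl a ∈ Λ ∧ ∑ i, a i ^ 2 = 8) ∧ redV a = 0}.Finite :=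
    hSfin.subset (fun a ha => ha.1)
  have hS1fin : {a : V | (dbl a ∈ Λ ∧ ∑ i, a i ^ 2 = 8) ∧ redV a ≠ 0}.Finite :=
    hSfin.subset (fun a ha => ha.1)
  have hsplit : {a : V | dbl a ∈ Λ ∧ ∑ i, a i ^ 2 = 8} ⊆
      {a : V | (dbl a ∈ Λ ∧ ∑ i, a i ^ 2 = 8) ∧ redV a = 0} ∪
        {a : V | (dbl a ∈ Λ ∧ ∑ i, a i ^ 2 = 8) ∧ redV a ≠ 0} := by
    intro a ha
    by_cases h0 : redV a = 0
    · exact Or.inl ⟨ha, h0⟩
    · exact Or.inr ⟨ha, h0⟩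
  -- the part with all coordinates even
  have hS0 : {a : V | (dbl a ∈ Λ ∧ ∑ i, a i ^ 2 = 8) ∧ redV a = 0}.ncard ≤ 1104 := by
    refine le_trans ?_ hA
    have hTfin : {y : V | (∀ i, (4 : ℤ) ∣ y i) ∧ ∑ i, y i ^ 2 = 32}.Finite :=
      (h75cw_finite_sq_le 32).subset (fun y hy => le_of_eq hy.2)
    apply Set.ncard_le_ncard_of_injOn dbl _ (h75cw_dbl_injective.injOn) hTfin
    rintro a ⟨⟨_, h8⟩, h0⟩
    refine ⟨fun i => ?_, ?_⟩
    · have hi : ((a i : ℤ) : ZMod 2) = 0 := congrFun h0 i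
      have h2 : ((2 : ℕ) : ℤ) ∣ a i := (ZMod.intCast_zmod_eq_zero_iff_dvd (a i) 2).1 hi
      obtain ⟨c, hc⟩ := h2
      refine ⟨c, ?_⟩
      simp only [dbl]
      rw [hc]; push_cast; ring
    · rw [h75cw_sum_dbl_sq, h8]; norm_num
  -- the part over the octads
  have hS1 : {a : V | (dbl a ∈ Λ ∧ ∑ i, a i ^ 2 = 8) ∧ redV a ≠ 0}.ncard ≤
      128 * {w : Fin 24 → ZMod 2 | w ∈ code Λ ∧ hammingNorm w = 8}.ncard := by
    have hoct : ∀ a : V, (dbl a ∈ Λ ∧ ∑ i, a i ^ 2 = 8) ∧ redV a ≠ 0 →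
        redV a ∈ code Λ ∧ hammingNorm (redV a) = 8 := by
      rintro a ⟨⟨ha, h8⟩, h0⟩
      have hc : redV a ∈ code Λ := ⟨a, ha, rfl⟩
      refine ⟨hc, ?_⟩
      have h1 := (hW2 _ hc h0).1
      have h2 := h75cw_hammingNorm_le a
      rw [h8] at h2
      omega
    rw [Set.ncard_eq_toFinset_card _ hS1fin]
    have hOfin : {w : Fin 24 → ZMod 2 | w ∈ code Λ ∧ hammingNorm w = 8}.Finite := Set.toFinite _
    refine le_trans (Finset.card_le_mul_card_image (f := redV) hS1fin.toFinset 128 ?_) ?_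
    · intro w hw
      obtain ⟨a, ha, rfl⟩ := Finset.mem_image.1 hw
      have ha' := (Set.Finite.mem_toFinset hS1fin).1 ha
      have hw8 := (hoct a ha').2
      refine le_trans ?_ (hB (redV a) hw8)
      have hBfin : {b : V | dbl b ∈ Λ ∧ redV b = redV a ∧ ∑ i, b i ^ 2 = 8}.Finite :=
        (h75cw_finite_sq_le 8).subset (fun b hb => le_of_eq hb.2.2)
      rw [← Set.ncard_coe_finset]
      apply Set.ncard_le_ncard _ hBfin
      intro b hb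
      have hb1 := Finset.mem_filter.1 (Finset.mem_coe.1 hb)
      have hb2 := (Set.Finite.mem_toFinset hS1fin).1 hb1.1
      exact ⟨hb2.1.1, hb1.2, hb2.1.2⟩
    · apply Nat.mul_le_mul_left
      rw [← Set.ncard_coe_finset]
      apply Set.ncard_le_ncard _ hOfin
      intro w hw
      obtain ⟨a, ha, rfl⟩ := Finset.mem_image.1 (Finset.mem_coe.1 hw)
      exact hoct a ((Set.Finite.mem_toFinset hS1fin).1 ha)
  calc {a : V | dbl a ∈ Λ ∧ ∑ i, a i ^ 2 = 8}.ncard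
      ≤ ({a : V | (dbl a ∈ Λ ∧ ∑ i, a i ^ 2 = 8) ∧ redV a = 0} ∪
        {a : V | (dbl a ∈ Λ ∧ ∑ i, a i ^ 2 = 8) ∧ redV a ≠ 0}).ncard :=
        Set.ncard_le_ncard hsplit (hS0fin.union hS1fin)
    _ ≤ {a : V | (dbl a ∈ Λ ∧ ∑ i, a i ^ 2 = 8) ∧ redV a = 0}.ncard +
        {a : V | (dbl a ∈ Λ ∧ ∑ i, a i ^ 2 = 8) ∧ redV a ≠ 0}.ncard := Set.ncard_union_le _ _
    _ ≤ 1104 + 128 * {w : Fin 24 → ZMod 2 | w ∈ code Λ ∧ hammingNorm w = 8}.ncard :=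
        Nat.add_le_add hS0 hS1

end Cfsg.Agent.Helper75.CW
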