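import Mathlib
import Cfsg.Prelude.Def_Characters

set_option autoImplicit false
set_option linter.unusedSectionVars false
set_option linter.unusedSimpArgs false
set_option linter.style.haveILetI false

namespace Cfsg.Agent.Helper75.UA

open scoped ComplexConjugate
open Module

/-! ### Joint eigenspaces of a commuting family of finite-order endomorphisms -/

section Joint

variable {E : Type*} [AddCommGroup E] [Module ℂ E] [FiniteDimensional ℂ E]

theorem isSemisimple_of_pow_eq_one (A : Module.End ℂ E) (m : ℕ) (hm : 0 < m) (hA : A ^ m = 1) :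
    A.IsSemisimple := by
  apply Module.End.isSemisimple_of_squarefree_aeval_eq_zero (p := (Polynomial.X : Polynomial ℂ) ^ m - 1)
  · apply Polynomial.Separable.squarefree
    exact Polynomial.separable_X_pow_sub_C (1 : ℂ) (by exact_mod_cast hm.ne') one_ne_zero
  · simp [hA]

/-- the joint eigenspace of a family of endomorphisms -/
def jointEig {ι : Type*} (f : ι → Module.End ℂ E) (χ : ι → ℂ) : Submodule ℂ E :=
  ⨅ i, (f i).eigenspace (χ i)

theorem mem_jointEig {ι : Type*} (f : ι → Module.End ℂ E) (χ : ι → ℂ) (v : E) :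
    v ∈ jointEig f χ ↔ ∀ i, f i v = χ i • v := by
  simp [jointEig, Module.End.mem_eigenspace_iff]

theorem jointEig_eq {ι : Type*} (f : ι → Module.End ℂ E)
    (hfin : ∀ i, ∃ k, 0 < k ∧ f i ^ k = 1) (χ : ι → ℂ) :
    jointEig f χ = ⨅ i, (f i).maxGenEigenspace (χ i) := by
  unfold jointEig
  congr 1
  funext i
  obtain ⟨k, hk, hfk⟩ := hfin i
  exact ((Module.End.isFinitelySemisimple_iff_isSemisimple.mpr
    (isSemisimple_of_pow_eq_one (f i) k hk hfk)).maxGenEigenspace_eq_eigenspace (χ i)).symm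

theorem iSup_jointEig {ι : Type*} (f : ι → Module.End ℂ E) (hc : ∀ i j, Commute (f i) (f j))
    (hfin : ∀ i, ∃ k, 0 < k ∧ f i ^ k = 1) :
    (⨆ χ : ι → ℂ, jointEig f χ) = ⊤ := by
  simp_rw [jointEig_eq f hfin]
  exact Module.End.iSup_iInf_maxGenEigenspace_eq_top_of_iSup_maxGenEigenspace_eq_top_of_commute f
    (fun i j _ => hc i j) (fun i => Module.End.iSup_maxGenEigenspace_eq_top (f i))

theorem iSupIndep_jointEig {ι : Type*} (f : ι → Module.End ℂ E) (hc : ∀ i j, Commute (f i) (f j))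
    (hfin : ∀ i, ∃ k, 0 < k ∧ f i ^ k = 1) :
    iSupIndep fun χ : ι → ℂ => jointEig f χ := by
  simp_rw [jointEig_eq f hfin]
  exact Module.End.independent_iInf_maxGenEigenspace_of_forall_mapsTo f
    (fun i j φ => Module.End.mapsTo_maxGenEigenspace_of_comm (hc j i) φ)

end Joint

/-! ### Isometric representations -/

section Iso

variable {G : Type*} [Group G] {E : Type*} [NormedAddCommGroup E] [InnerProductSpace ℂ E]
  (ρ : Representation ℂ G E)

/-- `ρ g` as a continuous linear map -/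
noncomputable def R [FiniteDimensional ℂ E] (g : G) : E →L[ℂ] E :=
  LinearMap.toContinuousLinearMap (ρ g)

theorem R_apply [FiniteDimensional ℂ E] (g : G) (v : E) : R ρ g v = ρ g v := rfl

theorem R_mul [FiniteDimensional ℂ E] (g h : G) : R ρ (g * h) = R ρ g * R ρ h := by
  ext v
  simp [R_apply]

theorem R_one [FiniteDimensional ℂ E] : R ρ (1 : G) = 1 := by
  ext v
  simp [R_apply]

variable (hiso : ∀ g u v, inner ℂ (ρ g u) (ρ g v) = inner ℂ u v)
include hiso

theorem norm_map (g : G) (v : E) : ‖ρ g v‖ = ‖v‖ := by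
  rw [norm_eq_sqrt_re_inner (𝕜 := ℂ), hiso, ← norm_eq_sqrt_re_inner]

theorem norm_R_le [FiniteDimensional ℂ E] (g : G) : ‖R ρ g‖ ≤ 1 := by
  apply ContinuousLinearMap.opNorm_le_bound _ zero_le_one
  intro v
  rw [R_apply, norm_map ρ hiso, one_mul]

theorem norm_eigenvalue (g : G) (v : E) (a : ℂ) (hv : v ≠ 0) (h : ρ g v = a • v) : ‖a‖ = 1 := by
  have h1 := norm_map ρ hiso g v
  rw [h, norm_smul] at h1
  have h2 : ‖v‖ ≠ 0 := norm_ne_zero_iff.mpr hv
  field_simp at h1
  exact h1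

theorem inner_eq_zero_of_eig (g : G) (u v : E) (a b : ℂ) (hu : ρ g u = a • u)
    (hv : ρ g v = b • v) (hab : a ≠ b) : inner ℂ u v = 0 := by
  by_cases hu0 : u = 0
  · rw [hu0, inner_zero_left]
  have ha : ‖a‖ = 1 := norm_eigenvalue ρ hiso g u a hu0 hu
  have h1 := hiso g u v
  rw [hu, hv, inner_smul_left, inner_smul_right] at h1
  by_contra hne
  have h2 : conj a * b = 1 := by
    have h3 : (conj a * b - 1) * inner ℂ u v = 0 := by
      linear_combination h1
    rcases mul_eq_zero.mp h3 with h | h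
    · exact sub_eq_zero.mp h
    · exact absurd h hne
  apply hab
  have h4 : a * conj a = 1 := by
    rw [Complex.mul_conj, Complex.normSq_eq_norm_sq, ha]; simp
  calc a = a * (conj a * b) := by rw [h2, mul_one]
    _ = (a * conj a) * b := by ring
    _ = b := by rw [h4, one_mul]

end Iso

/-- Pythagoras for a finite family of pairwise orthogonal vectors -/
theorem norm_sq_sum_orth {E : Type*} [NormedAddCommGroup E] [InnerProductSpace ℂ E]
    {ι : Type*} (s : Finset ι) (a : ι → E)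
    (h : ∀ i ∈ s, ∀ j ∈ s, i ≠ j → inner ℂ (a i) (a j) = 0) :
    ‖∑ i ∈ s, a i‖ ^ 2 = ∑ i ∈ s, ‖a i‖ ^ 2 := by
  classical
  induction s using Finset.induction_on with
  | empty => simp
  | insert i s hi ih =>
    rw [Finset.sum_insert hi, Finset.sum_insert hi]
    have h0 : inner ℂ (a i) (∑ j ∈ s, a j) = 0 := by
      rw [inner_sum]
      apply Finset.sum_eq_zero
      intro j hj
      exact h i (Finset.mem_insert_self _ _) j (Finset.mem_insert_of_mem hj)
        (by rintro rfl; exact hi hj)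
    rw [← ih (fun i hi j hj hij => h i (Finset.mem_insert_of_mem hi) j
      (Finset.mem_insert_of_mem hj) hij), @norm_add_sq ℂ, h0]
    simp

section Iso2

variable {G : Type*} [Group G] [Finite G] {E : Type*} [NormedAddCommGroup E]
  [InnerProductSpace ℂ E] [FiniteDimensional ℂ E]
  (ρ : Representation ℂ G E) (hiso : ∀ g u v, inner ℂ (ρ g u) (ρ g v) = inner ℂ u v)

omit [FiniteDimensional ℂ E] in
theorem rep_finOrder (g : G) : ∃ k, 0 < k ∧ (ρ g) ^ k = 1 :=
  ⟨orderOf g, orderOf_pos g, by rw [← map_pow, pow_orderOf_eq_one, map_one]⟩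

include hiso

/-- If `x` commutes with `z x z⁻¹` and `⟪z v, v⟫ ≠ 0` for all `v ≠ 0` then `x` commutes with `z`. -/
theorem commute_of_commute_conj (hinj : Function.Injective ρ) (x z : G)
    (hc : Commute x (z * x * z⁻¹)) (hz : ∀ v : E, v ≠ 0 → inner ℂ (ρ z v) v ≠ 0) :
    Commute x z := by
  set x' := z * x * z⁻¹ with hx'
  let f : Bool → Module.End ℂ E := fun b => if b then ρ x else ρ x'
  have hcomm : ∀ i j, Commute (f i) (f j) := by
    have h1 : Commute (ρ x) (ρ x') := by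
      unfold Commute SemiconjBy
      rw [← map_mul, ← map_mul, hc.eq]
    intro i j
    cases i <;> cases j <;> simp only [f, if_true, Bool.false_eq_true, if_false]
    · exact Commute.refl _
    · exact h1.symm
    · exact h1
    · exact Commute.refl _
  have hfin : ∀ i, ∃ k, 0 < k ∧ f i ^ k = 1 := by
    intro i
    cases i <;> simp only [f, if_true, Bool.false_eq_true, if_false]
    · exact rep_finOrder ρ x'
    · exact rep_finOrder ρ x
  have heq : ρ x = ρ x' := by
    ext v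
    have hv : v ∈ ⨆ χ : Bool → ℂ, jointEig f χ := by
      rw [iSup_jointEig f hcomm hfin]; trivial
    refine Submodule.iSup_induction _ (motive := fun v => ρ x v = ρ x' v) hv ?_ (by simp) ?_
    · intro χ w hw
      rw [mem_jointEig] at hw
      have h1 : ρ x w = χ true • w := by simpa [f] using hw true
      have h2 : ρ x' w = χ false • w := by simpa [f] using hw false
      by_cases hw0 : w = 0
      · rw [hw0]; simp
      by_cases hχ : χ true = χ false
      · rw [h1, h2, hχ]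
      exfalso
      set u := ρ z⁻¹ w with hu
      have hzu : ρ z u = w := by
        rw [hu, ← Module.End.mul_apply, ← map_mul, mul_inv_cancel, map_one, Module.End.one_apply]
      have hu0 : u ≠ 0 := by
        intro h
        rw [h, map_zero] at hzu
        exact hw0 hzu.symm
      have h3 : ρ x u = χ false • u := by
        rw [hu, ← Module.End.mul_apply, ← map_mul]
        have : x * z⁻¹ = z⁻¹ * x' := by rw [hx']; group
        rw [this, map_mul, Module.End.mul_apply, h2, map_smul]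
      have h4 := inner_eq_zero_of_eig ρ hiso x u w (χ false) (χ true) h3 h1 (Ne.symm hχ)
      have h5 := hz u hu0
      rw [hzu] at h5
      exact h5 (inner_eq_zero_symm.mp h4)
    · intro a b ha hb
      rw [map_add, map_add, ha, hb]
  have h6 : x = x' := hinj heq
  unfold Commute SemiconjBy
  calc x * z = x' * z := by rw [← h6]
    _ = z * x := by rw [hx']; group

/-- the contraction inequality -/
theorem norm_one_sub_comm_le (x z : G) (κ : ℂ) :
    ‖1 - R ρ (x * z * x⁻¹ * z⁻¹)‖ ≤ 2 * ‖R ρ x - κ • 1‖ * ‖1 - R ρ z‖ := by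
  have h1 : (1 : E →L[ℂ] E) - R ρ (x * z * x⁻¹ * z⁻¹) =
      ((R ρ x - κ • 1) * (1 - R ρ z) - (1 - R ρ z) * (R ρ x - κ • 1)) * R ρ (x⁻¹ * z⁻¹) := by
    have h2 : (R ρ x - κ • 1) * (1 - R ρ z) - (1 - R ρ z) * (R ρ x - κ • 1) =
        R ρ z * R ρ x - R ρ x * R ρ z := by
      simp only [sub_mul, mul_sub, mul_one, one_mul, smul_mul_assoc, mul_smul_comm, smul_sub]
      abel
    rw [h2, sub_mul, ← R_mul, ← R_mul, ← R_mul, ← R_mul]
    have e1 : z * x * (x⁻¹ * z⁻¹) = 1 := by group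
    have e2 : x * z * (x⁻¹ * z⁻¹) = x * z * x⁻¹ * z⁻¹ := by group
    rw [e1, e2, R_one]
  rw [h1]
  calc ‖((R ρ x - κ • 1) * (1 - R ρ z) - (1 - R ρ z) * (R ρ x - κ • 1)) * R ρ (x⁻¹ * z⁻¹)‖
      ≤ ‖(R ρ x - κ • 1) * (1 - R ρ z) - (1 - R ρ z) * (R ρ x - κ • 1)‖ * ‖R ρ (x⁻¹ * z⁻¹)‖ :=
        norm_mul_le _ _
    _ ≤ ‖(R ρ x - κ • 1) * (1 - R ρ z) - (1 - R ρ z) * (R ρ x - κ • 1)‖ * 1 := by
        gcongr
        exact norm_R_le ρ hiso _
    _ ≤ (‖R ρ x - κ • 1‖ * ‖1 - R ρ z‖ + ‖1 - R ρ z‖ * ‖R ρ x - κ • 1‖) * 1 := by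
        gcongr
        exact (norm_sub_le _ _).trans (add_le_add (norm_mul_le _ _) (norm_mul_le _ _))
    _ = 2 * ‖R ρ x - κ • 1‖ * ‖1 - R ρ z‖ := by ring

/-- `‖1 - z‖ < √2` forces `⟪z v, v⟫ ≠ 0`. -/
theorem inner_ne_zero_of_norm_lt (z : G) (hz : ‖1 - R ρ z‖ < √2) (v : E) (hv : v ≠ 0) :
    inner ℂ (ρ z v) v ≠ 0 := by
  intro h
  have h1 : ‖(1 - R ρ z) v‖ ≤ ‖1 - R ρ z‖ * ‖v‖ := ContinuousLinearMap.le_opNorm _ _
  have h2 : ‖(1 - R ρ z) v‖ ^ 2 = 2 * ‖v‖ ^ 2 := by
    have : (1 - R ρ z) v = v - ρ z v := by simp [R_apply]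
    rw [this, @norm_sub_sq ℂ, inner_eq_zero_symm.mp h, norm_map ρ hiso]
    simp; ring
  have hvpos : 0 < ‖v‖ := norm_pos_iff.mpr hv
  have h3 : ‖(1 - R ρ z) v‖ ^ 2 < 2 * ‖v‖ ^ 2 := by
    calc ‖(1 - R ρ z) v‖ ^ 2 ≤ (‖1 - R ρ z‖ * ‖v‖) ^ 2 := by gcongr
      _ = ‖1 - R ρ z‖ ^ 2 * ‖v‖ ^ 2 := by ring
      _ < (√2) ^ 2 * ‖v‖ ^ 2 := by gcongr
      _ = 2 * ‖v‖ ^ 2 := by rw [Real.sq_sqrt (by norm_num)]
  linarith

end Iso2

section Iso3

variable {G : Type*} [Group G] [Finite G] {E : Type*} [NormedAddCommGroup E]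
  [InnerProductSpace ℂ E] [FiniteDimensional ℂ E]
  (ρ : Representation ℂ G E) (hiso : ∀ g u v, inner ℂ (ρ g u) (ρ g v) = inner ℂ u v)
include hiso

/-- an element close to the scalar `κ` commutes with every element close to `1` -/
theorem commute_of_small (hinj : Function.Injective ρ) (κ : ℂ) (x : G)
    (hx : ‖R ρ x - κ • 1‖ < 1 / 2) :
    ∀ z : G, ‖1 - R ρ z‖ < √2 → Commute x z := by
  by_contra hne
  push Not at hne
  let Bad : Set G := {z | ‖1 - R ρ z‖ < √2 ∧ ¬ Commute x z}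
  have hBad : Bad.Nonempty := hne
  obtain ⟨z, hzB, hzmin⟩ := Set.exists_min_image Bad (fun z => ‖1 - R ρ z‖) (Set.toFinite _) hBad
  have hz1 : z ≠ 1 := by
    rintro rfl
    exact hzB.2 (Commute.one_right x)
  have hpos : 0 < ‖1 - R ρ z‖ := by
    rw [norm_pos_iff, sub_ne_zero]
    intro h
    apply hz1
    apply hinj
    rw [map_one]
    ext v
    have := congrArg (fun T : E →L[ℂ] E => T v) h
    simpa [R_apply] using this.symm
  set c := x * z * x⁻¹ * z⁻¹ with hcdef
  have hc : ‖1 - R ρ c‖ < ‖1 - R ρ z‖ := by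
    calc ‖1 - R ρ c‖ ≤ 2 * ‖R ρ x - κ • 1‖ * ‖1 - R ρ z‖ := norm_one_sub_comm_le ρ hiso x z κ
      _ < 1 * ‖1 - R ρ z‖ := by
        apply mul_lt_mul_of_pos_right _ hpos
        linarith
      _ = ‖1 - R ρ z‖ := one_mul _
  have hcc : Commute x c := by
    by_contra h
    have := hzmin c ⟨hc.trans hzB.1, h⟩
    linarith
  have h2 : x * (z * x⁻¹ * z⁻¹) = x⁻¹ * (x * c) := by rw [hcdef]; group
  have h3 : x⁻¹ * (c * x) = z * x⁻¹ * z⁻¹ * x := by rw [hcdef]; group
  have h4 : Commute x (z * x⁻¹ * z⁻¹) := by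
    unfold Commute SemiconjBy
    rw [h2, hcc.eq, h3]
  have h5 : z * x * z⁻¹ = (z * x⁻¹ * z⁻¹)⁻¹ := by group
  have h6 : Commute x (z * x * z⁻¹) := by
    rw [h5]; exact h4.inv_right
  exact hzB.2 (commute_of_commute_conj ρ hiso hinj x z h6
    (inner_ne_zero_of_norm_lt ρ hiso z hzB.1))

/-- joint eigenvectors of a subgroup for distinct eigencharacters are orthogonal -/
theorem orth_joint (H : Subgroup G) (χ χ' : H → ℂ) (hne : χ ≠ χ') (u v : E)
    (hu : u ∈ jointEig (fun h : H => ρ (h : G)) χ)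
    (hv : v ∈ jointEig (fun h : H => ρ (h : G)) χ') : inner ℂ u v = 0 := by
  obtain ⟨h, hh⟩ := Function.ne_iff.mp hne
  exact inner_eq_zero_of_eig ρ hiso h u v (χ h) (χ' h) ((mem_jointEig _ _ _).mp hu h)
    ((mem_jointEig _ _ _).mp hv h) hh

theorem norm_sub_le_of_joint (H : Subgroup G) (hH : ∀ x ∈ H, ∀ y ∈ H, x * y = y * x)
    (g : H) (κ : ℂ) (r : ℝ) (hr : 0 ≤ r)
    (hb : ∀ χ : H → ℂ, jointEig (fun h : H => ρ (h : G)) χ ≠ ⊥ → ‖χ g - κ‖ ≤ r) :
    ‖R ρ (g : G) - κ • 1‖ ≤ r := by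
  classical
  have hcomm : ∀ i j : H, Commute (ρ (i : G)) (ρ (j : G)) := by
    intro i j
    unfold Commute SemiconjBy
    rw [← map_mul, ← map_mul, hH i i.2 j j.2]
  have hfin : ∀ i : H, ∃ k, 0 < k ∧ (ρ (i : G)) ^ k = 1 := fun i => rep_finOrder ρ (i : G)
  apply ContinuousLinearMap.opNorm_le_bound _ hr
  intro v
  have hv : v ∈ ⨆ χ : H → ℂ, jointEig (fun h : H => ρ (h : G)) χ := by
    rw [iSup_jointEig _ hcomm hfin]; trivial
  obtain ⟨w, hw, rfl⟩ := (Submodule.mem_iSup_iff_exists_finsupp _ _).mp hv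
  rw [Finsupp.sum]
  have h1 : (R ρ (g : G) - κ • 1) (∑ χ ∈ w.support, w χ) =
      ∑ χ ∈ w.support, (χ g - κ) • w χ := by
    rw [map_sum]
    apply Finset.sum_congr rfl
    intro χ _
    have := (mem_jointEig _ _ _).mp (hw χ) g
    simp only [sub_apply, R_apply, smul_apply, one_apply_eq_self, sub_smul]
    rw [this]
  rw [h1]
  have horth : ∀ i ∈ w.support, ∀ j ∈ w.support, i ≠ j → inner ℂ (w i) (w j) = 0 :=
    fun i _ j _ hij => orth_joint ρ hiso H i j hij (w i) (w j) (hw i) (hw j)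
  rw [← pow_le_pow_iff_left₀ (norm_nonneg _) (mul_nonneg hr (norm_nonneg _)) two_ne_zero]
  rw [norm_sq_sum_orth, mul_pow, norm_sq_sum_orth _ _ horth, Finset.mul_sum]
  · apply Finset.sum_le_sum
    intro χ hχ
    rw [norm_smul, mul_pow]
    have h2 : w χ ≠ 0 := Finsupp.mem_support_iff.mp hχ
    have h3 : jointEig (fun h : H => ρ (h : G)) χ ≠ ⊥ := by
      intro h
      have := hw χ
      rw [h, Submodule.mem_bot] at this
      exact h2 this
    have h4 := hb χ h3
    gcongr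
  · intro i hi j hj hij
    rw [inner_smul_left, inner_smul_right, horth i hi j hj hij, mul_zero, mul_zero]

end Iso3

/-- the centre of the disc -/
noncomputable def kap : ℂ := ((√3 / 2 : ℝ) : ℂ)

/-- twelve half-open sectors of the unit circle -/
theorem exists_label : ∃ lab : ℂ → Fin 12, ∀ u u' : ℂ, ‖u‖ = 1 → ‖u'‖ = 1 → lab u = lab u' →
    ‖conj u * u' - kap‖ < 1 / 2 := by
  have hpi := Real.pi_pos
  let t : ℂ → ℝ := fun u => (Complex.arg u + Real.pi) * (6 / Real.pi)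
  have ht0 : ∀ u, 0 < t u := fun u =>
    mul_pos (by linarith [Complex.neg_pi_lt_arg u]) (by positivity)
  have ht12 : ∀ u, t u ≤ 12 := by
    intro u
    have h1 := Complex.arg_le_pi u
    have h2 : (0 : ℝ) ≤ 6 / Real.pi := by positivity
    calc t u ≤ (Real.pi + Real.pi) * (6 / Real.pi) :=
          mul_le_mul_of_nonneg_right (by linarith) h2
      _ = 12 := by field_simp; ring
  have hcpos : ∀ u, 0 < ⌈t u⌉₊ := fun u => Nat.ceil_pos.mpr (ht0 u)
  have hlt : ∀ u, ⌈t u⌉₊ - 1 < 12 := by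
    intro u
    have h1 : ⌈t u⌉₊ ≤ 12 := Nat.ceil_le.mpr (by exact_mod_cast ht12 u)
    have h2 := hcpos u
    omega
  refine ⟨fun u => ⟨⌈t u⌉₊ - 1, hlt u⟩, ?_⟩
  intro u u' hu hu' hlab
  have h1 : ⌈t u⌉₊ - 1 = ⌈t u'⌉₊ - 1 := by simpa using congrArg Fin.val hlab
  have h2 : ⌈t u⌉₊ = ⌈t u'⌉₊ := by
    have := hcpos u
    have := hcpos u'
    omega
  have h3 : t u - t u' < 1 := by
    have a1 : t u ≤ ⌈t u⌉₊ := Nat.le_ceil _
    have a2 : (⌈t u'⌉₊ : ℝ) < t u' + 1 := Nat.ceil_lt_add_one (ht0 u').le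
    rw [h2] at a1
    linarith
  have h4 : t u' - t u < 1 := by
    have a1 : t u' ≤ ⌈t u'⌉₊ := Nat.le_ceil _
    have a2 : (⌈t u⌉₊ : ℝ) < t u + 1 := Nat.ceil_lt_add_one (ht0 u).le
    rw [h2] at a2
    linarith
  set φ := Complex.arg u - Complex.arg u' with hφ
  have e2 : φ = (t u - t u') * (Real.pi / 6) := by
    simp only [t, hφ]
    field_simp
    ring
  have hp6 : 0 < Real.pi / 6 := by positivity
  have h5 : |φ| < Real.pi / 6 := by
    rw [abs_lt, e2]
    constructor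
    · have : -(1 : ℝ) * (Real.pi / 6) < (t u - t u') * (Real.pi / 6) :=
        mul_lt_mul_of_pos_right (by linarith) hp6
      linarith
    · have : (t u - t u') * (Real.pi / 6) < 1 * (Real.pi / 6) :=
        mul_lt_mul_of_pos_right h3 hp6
      linarith
  have hcos : √3 / 2 < Real.cos φ := by
    rw [← Real.cos_pi_div_six, ← Real.cos_abs φ]
    exact Real.cos_lt_cos_of_nonneg_of_le_pi (abs_nonneg _) (by linarith) h5
  set w := conj u * u' with hw
  have hu0 : u ≠ 0 := by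
    intro h; rw [h] at hu; simp at hu
  have hu0' : u' ≠ 0 := by
    intro h; rw [h] at hu'; simp at hu'
  have hre : w.re = Real.cos φ := by
    rw [hφ, Real.cos_sub, Complex.cos_arg hu0, Complex.cos_arg hu0', Complex.sin_arg,
      Complex.sin_arg, hu, hu', hw]
    simp
  have hn : w.re * w.re + w.im * w.im = 1 := by
    rw [← Complex.normSq_apply, hw, map_mul, Complex.normSq_conj, Complex.normSq_eq_norm_sq,
      Complex.normSq_eq_norm_sq, hu, hu']
    norm_num
  have h6 : ‖w - kap‖ ^ 2 < (1 / 2) ^ 2 := by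
    rw [← Complex.normSq_eq_norm_sq, Complex.normSq_apply]
    have hre2 : (w - kap).re = w.re - √3 / 2 := by simp [kap]
    have him2 : (w - kap).im = w.im := by simp [kap]
    rw [hre2, him2]
    have hs : √3 * √3 = 3 := Real.mul_self_sqrt (by norm_num)
    have hs0 : (0 : ℝ) < √3 := Real.sqrt_pos.mpr (by norm_num)
    rw [hre] at hn ⊢
    have h7 : √3 * (√3 / 2) < √3 * Real.cos φ := mul_lt_mul_of_pos_left hcos hs0
    nlinarith
  exact lt_of_pow_lt_pow_left₀ 2 (by norm_num) h6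

theorem core {G : Type*} [Group G] [Finite G] {E : Type*} [NormedAddCommGroup E]
    [InnerProductSpace ℂ E] [FiniteDimensional ℂ E]
    (ρ : Representation ℂ G E) (hinj : Function.Injective ρ)
    (hiso : ∀ g u v, inner ℂ (ρ g u) (ρ g v) = inner ℂ u v) :
    ∃ A : Subgroup G, A.Normal ∧ (∀ x ∈ A, ∀ y ∈ A, x * y = y * x) ∧
      ∀ H : Subgroup G, (∀ x ∈ H, ∀ y ∈ H, x * y = y * x) →
        (A.subgroupOf H).index ≤ 12 ^ (finrank ℂ E) := by
  classical
  obtain ⟨lab, hlab⟩ := exists_label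
  let S : Set G := {g | ‖R ρ g - kap • 1‖ < 1 / 2}
  have hSconj : ∀ g ∈ S, ∀ h : G, h * g * h⁻¹ ∈ S := by
    intro g hg h
    have e : R ρ (h * g * h⁻¹) - kap • 1 = R ρ h * (R ρ g - kap • 1) * R ρ h⁻¹ := by
      rw [mul_sub, sub_mul, R_mul, R_mul, mul_smul_comm, smul_mul_assoc, mul_one,
        ← R_mul ρ h h⁻¹, mul_inv_cancel, R_one]
    change ‖R ρ (h * g * h⁻¹) - kap • 1‖ < 1 / 2
    rw [e]
    calc ‖R ρ h * (R ρ g - kap • 1) * R ρ h⁻¹‖
        ≤ ‖R ρ h‖ * ‖R ρ g - kap • 1‖ * ‖R ρ h⁻¹‖ :=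
          (norm_mul_le _ _).trans (mul_le_mul_of_nonneg_right (norm_mul_le _ _) (norm_nonneg _))
      _ ≤ 1 * ‖R ρ g - kap • 1‖ * 1 := by
          gcongr <;> exact norm_R_le ρ hiso _
      _ < 1 / 2 := by
          rw [one_mul, mul_one]
          exact hg
  have hs1 : (1 : ℝ) ≤ √3 := by
    rw [show (1 : ℝ) = √1 by simp]
    exact Real.sqrt_le_sqrt (by norm_num)
  have hs2 : √3 ≤ 2 := by
    rw [show (2 : ℝ) = √4 by
      rw [show (4 : ℝ) = 2 ^ 2 by norm_num, Real.sqrt_sq (by norm_num)]]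
    exact Real.sqrt_le_sqrt (by norm_num)
  have hSsmall : ∀ g ∈ S, ‖1 - R ρ g‖ < √2 := by
    intro g hg
    have e : (1 : E →L[ℂ] E) - R ρ g = (1 - kap) • (1 : E →L[ℂ] E) - (R ρ g - kap • 1) := by
      rw [sub_smul, one_smul]; abel
    have h1 : ‖(1 - kap) • (1 : E →L[ℂ] E)‖ ≤ ‖1 - kap‖ := by
      rw [norm_smul]
      exact mul_le_of_le_one_right (norm_nonneg _) ContinuousLinearMap.norm_id_le
    have h2 : ‖1 - kap‖ ≤ 1 / 2 := by
      have : (1 : ℂ) - kap = ((1 - √3 / 2 : ℝ) : ℂ) := by simp [kap]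
      rw [this, Complex.norm_real, Real.norm_eq_abs, abs_le]
      constructor <;> linarith
    have h3 : (1 : ℝ) < √2 := by
      rw [show (1 : ℝ) = √1 by simp]
      exact Real.sqrt_lt_sqrt (by norm_num) (by norm_num)
    have hg' : ‖R ρ g - kap • 1‖ < 1 / 2 := hg
    rw [e]
    calc ‖(1 - kap) • (1 : E →L[ℂ] E) - (R ρ g - kap • 1)‖
        ≤ ‖(1 - kap) • (1 : E →L[ℂ] E)‖ + ‖R ρ g - kap • 1‖ := norm_sub_le _ _
      _ < 1 / 2 + 1 / 2 := by linarith
      _ < √2 := by linarith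
  have hScomm : ∀ x ∈ S, ∀ y ∈ S, x * y = y * x := fun x hx y hy =>
    (commute_of_small ρ hiso hinj kap x hx y (hSsmall y hy)).eq
  have hT : Group.conjugatesOfSet S ⊆ S := by
    intro a ha
    obtain ⟨b, hb, hba⟩ := Group.mem_conjugatesOfSet_iff.mp ha
    obtain ⟨c, rfl⟩ := isConj_iff.mp hba
    exact hSconj b hb c
  refine ⟨Subgroup.normalClosure S, Subgroup.normalClosure_normal, ?_, ?_⟩
  · have step1 : ∀ x ∈ S, Subgroup.normalClosure S ≤ Subgroup.centralizer {x} := by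
      intro x hx
      unfold Subgroup.normalClosure
      rw [Subgroup.closure_le]
      intro t ht
      rw [SetLike.mem_coe, Subgroup.mem_centralizer_iff]
      intro y hy
      rw [Set.mem_singleton_iff.mp hy]
      exact hScomm x hx t (hT ht)
    have step2 : ∀ a ∈ Subgroup.normalClosure S,
        Subgroup.normalClosure S ≤ Subgroup.centralizer {a} := by
      intro a ha
      unfold Subgroup.normalClosure
      rw [Subgroup.closure_le]
      intro t ht
      rw [SetLike.mem_coe, Subgroup.mem_centralizer_iff]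
      intro y hy
      rw [Set.mem_singleton_iff.mp hy]
      have := step1 t (hT ht) ha
      rw [Subgroup.mem_centralizer_iff] at this
      exact (this t rfl).symm
    intro x hx y hy
    have := step2 x hx hy
    rw [Subgroup.mem_centralizer_iff] at this
    exact this x rfl
  · intro H hH
    let f : H → Module.End ℂ E := fun h => ρ (h : G)
    have hcomm : ∀ i j : H, Commute (f i) (f j) := by
      intro i j
      unfold Commute SemiconjBy
      simp only [f]
      rw [← map_mul, ← map_mul, hH i i.2 j j.2]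
    have hfin : ∀ i : H, ∃ k, 0 < k ∧ (f i) ^ k = 1 := fun i => rep_finOrder ρ (i : G)
    have hind := iSupIndep_jointEig f hcomm hfin
    letI : Fintype {χ : H → ℂ // jointEig f χ ≠ ⊥} := hind.fintypeNeBotOfFiniteDimensional
    have hcard : Fintype.card {χ : H → ℂ // jointEig f χ ≠ ⊥} ≤ finrank ℂ E :=
      hind.subtype_ne_bot_le_finrank
    let Φ : H → ({χ : H → ℂ // jointEig f χ ≠ ⊥} → Fin 12) := fun h χ => lab (χ.1 h)
    have key : ∀ h k : H, Φ h = Φ k → h⁻¹ * k ∈ (Subgroup.normalClosure S).subgroupOf H := by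
      intro h k hhk
      rw [Subgroup.mem_subgroupOf]
      apply Subgroup.subset_normalClosure
      change ‖R ρ ((h⁻¹ * k : H) : G) - kap • 1‖ < 1 / 2
      have hval : ∀ χ : {χ : H → ℂ // jointEig f χ ≠ ⊥}, ‖χ.1 (h⁻¹ * k) - kap‖ < 1 / 2 := by
        intro χ
        obtain ⟨w, hw, hw0⟩ := Submodule.exists_mem_ne_zero_of_ne_bot χ.2
        rw [mem_jointEig] at hw
        have e1 : ρ (h : G) w = χ.1 h • w := hw h
        have e2 : ρ (k : G) w = χ.1 k • w := hw k
        have e3 : ρ ((h : G)⁻¹ * (k : G)) w = χ.1 (h⁻¹ * k) • w := by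
          simpa [f] using hw (h⁻¹ * k)
        have n1 : ‖χ.1 h‖ = 1 := norm_eigenvalue ρ hiso h w _ hw0 e1
        have n2 : ‖χ.1 k‖ = 1 := norm_eigenvalue ρ hiso k w _ hw0 e2
        have hne : χ.1 h ≠ 0 := by
          intro h0; rw [h0] at n1; simp at n1
        have e5 : ρ ((h : G)⁻¹) w = (χ.1 h)⁻¹ • w := by
          have h7 : ρ ((h : G)⁻¹) (ρ (h : G) w) = w := by
            rw [← Module.End.mul_apply, ← map_mul, inv_mul_cancel, map_one, Module.End.one_apply]
          rw [e1, map_smul] at h7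
          calc ρ ((h : G)⁻¹) w = (χ.1 h)⁻¹ • (χ.1 h • ρ ((h : G)⁻¹) w) := by
                rw [smul_smul, inv_mul_cancel₀ hne, one_smul]
            _ = (χ.1 h)⁻¹ • w := by rw [h7]
        have e6 : χ.1 (h⁻¹ * k) • w = ((χ.1 h)⁻¹ * χ.1 k) • w := by
          rw [← e3, map_mul, Module.End.mul_apply, e2, map_smul, e5, smul_smul, mul_comm]
        have e4 : χ.1 (h⁻¹ * k) = conj (χ.1 h) * χ.1 k := by
          rw [smul_left_injective ℂ hw0 e6, Complex.inv_eq_conj n1]
        rw [e4]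
        exact hlab _ _ n1 n2 (congrFun hhk χ)
      obtain ⟨r, hr0, hr, hrb⟩ : ∃ r : ℝ, 0 ≤ r ∧ r < 1 / 2 ∧
          ∀ χ : {χ : H → ℂ // jointEig f χ ≠ ⊥}, ‖χ.1 (h⁻¹ * k) - kap‖ ≤ r := by
        by_cases hne : Nonempty {χ : H → ℂ // jointEig f χ ≠ ⊥}
        · obtain ⟨χ0, hχ0⟩ := Finite.exists_max
            (fun χ : {χ : H → ℂ // jointEig f χ ≠ ⊥} => ‖χ.1 (h⁻¹ * k) - kap‖)
          exact ⟨_, norm_nonneg _, hval χ0, hχ0⟩
        · exact ⟨0, le_rfl, by norm_num, fun χ => (hne ⟨χ⟩).elim⟩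
      exact lt_of_le_of_lt (norm_sub_le_of_joint ρ hiso H hH (h⁻¹ * k) kap r hr0
        (fun χ hχ => hrb ⟨χ, hχ⟩)) hr
    let ψ : (H ⧸ (Subgroup.normalClosure S).subgroupOf H) →
        ({χ : H → ℂ // jointEig f χ ≠ ⊥} → Fin 12) := fun q => Φ q.out
    have hψ : Function.Injective ψ := by
      intro q q' hqq
      have h1 := key q.out q'.out hqq
      have h2 := (QuotientGroup.eq).mpr h1
      rwa [QuotientGroup.out_eq', QuotientGroup.out_eq'] at h2
    calc ((Subgroup.normalClosure S).subgroupOf H).index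
        = Nat.card (H ⧸ (Subgroup.normalClosure S).subgroupOf H) := rfl
      _ ≤ Nat.card ({χ : H → ℂ // jointEig f χ ≠ ⊥} → Fin 12) :=
          Nat.card_le_card_of_injective ψ hψ
      _ = 12 ^ Fintype.card {χ : H → ℂ // jointEig f χ ≠ ⊥} := by
          rw [Nat.card_eq_fintype_card, Fintype.card_fun, Fintype.card_fin]
      _ ≤ 12 ^ finrank ℂ E := Nat.pow_le_pow_right (by norm_num) hcard

end Cfsg.Agent.Helper75.UA
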