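import Mathlib
import Cfsg.Agent.Lib.Helper77.MinMax
import Cfsg.Agent.Lib.Helper77.Extended
import Cfsg.Agent.Lib.Helper77.ExtFMT
import Cfsg.Agent.Lib.Helper78.FrobRotation
import Cfsg.Agent.Lib.Helper74.BlockCount

/-!
# Brauer's separation of blocks by classes free of `p`-quotients (helper75)

* `tau p h z` : the sum of `z (u * h)` over the `p`-elements `u`.
* `memLocalIdeal_tau_sub_sum` : `tau p h z ≡ ∑_B ω_B(z) * tau p h e_B` modulo the local ideal
  (Külshammer: the functional kills the radical of the centre).
* `memLocalIdeal_tau_blockCoeff` : `tau p h e_B` lies in the local ideal as soon as a `p`-subgroup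
  centralizing `h` is not conjugate into a defect group of `B`.
* `memLocalIdeal_centralChar_of_not_le` : the central character of `B` vanishes at `x` modulo the
  local ideal as soon as the defect group of `B` is not conjugate into a Sylow subgroup of `C(x)`.
* `exists_injective_minor` : a left-invertible `β × r` matrix has a nonsingular `r × r` minor.
-/

set_option autoImplicit false
set_option linter.unusedSectionVars false
set_option linter.style.haveILetI false

namespace Cfsg.Agent.Helper75.BS

open Cfsg Cfsg.Agent.Helper77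

universe u

section tau

variable {G : Type u} [Group G] [Fintype G]

open scoped Classical in
/-- The sum of `z (u * h)` over the `p`-elements `u`. -/
noncomputable def tau (p : ℕ) (h : G) (z : G → ℂ) : ℂ :=
  ∑ u : G, if (∃ j : ℕ, orderOf u = p ^ j) then z (u * h) else 0

theorem tau_add (p : ℕ) (h : G) (a b : G → ℂ) : tau p h (a + b) = tau p h a + tau p h b := by
  classical
  unfold tau
  rw [← Finset.sum_add_distrib]
  refine Finset.sum_congr rfl fun u _ => ?_
  split_ifs <;> simp

theorem tau_smul (p : ℕ) (h : G) (c : ℂ) (a : G → ℂ) : tau p h (c • a) = c * tau p h a := by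
  classical
  unfold tau
  rw [Finset.mul_sum]
  refine Finset.sum_congr rfl fun u _ => ?_
  split_ifs <;> simp

theorem tau_sum (p : ℕ) (h : G) {ι : Type*} (s : Finset ι) (f : ι → G → ℂ) :
    tau p h (∑ i ∈ s, f i) = ∑ i ∈ s, tau p h (f i) := by
  classical
  unfold tau
  rw [Finset.sum_comm]
  refine Finset.sum_congr rfl fun u _ => ?_
  split_ifs
  · rw [Finset.sum_apply]
  · rw [Finset.sum_const_zero]

variable {p : ℕ} {M : Ideal AlgInt}

theorem memLocalRing_tau [hp : M.IsPrime] (h : G) {z : G → ℂ} (hz : IsRValued M z) :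
    MemLocalRing M (tau p h z) := by
  classical
  unfold tau
  refine memLocalRing_sum _ _ fun u _ => ?_
  split_ifs
  · exact hz _
  · exact memLocalRing_zero hp.ne_top

end tau

section decomp

variable {G : Type u} [Group G] [Fintype G] {p : ℕ} {M : Ideal AlgInt}

open scoped Classical in
/-- The central character of the block `B`, through a chosen member. -/
noncomputable def blockOmega (B : Set (IrrCharacter G)) (z : G → ℂ) : ℂ :=
  if h : ∃ χ : IrrCharacter G, χ ∈ B then omega ((Classical.choose h : IrrCharacter G) : G → ℂ) z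
  else 0

theorem blockOmega_spec {B : Set (IrrCharacter G)} (hB : B.Nonempty) :
    ∃ χ : IrrCharacter G, χ ∈ B ∧ ∀ z : G → ℂ, blockOmega B z = omega (χ : G → ℂ) z := by
  classical
  have h : ∃ χ : IrrCharacter G, χ ∈ B := hB
  refine ⟨Classical.choose h, Classical.choose_spec h, fun z => ?_⟩
  unfold blockOmega
  rw [dif_pos h]

/-- **Külshammer decomposition**: modulo the local ideal, the functional `tau p h` on the centre
is the combination of the central characters of the blocks with coefficients `tau p h e_B`. -/
theorem memLocalIdeal_tau_sub_sum [Fact p.Prime] (hM : IsPModular p M) (h : G) {z : G → ℂ}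
    (hz : IsClassFunction G z) (hzR : IsRValued M z) :
    MemLocalIdeal M (tau p h z -
      ∑ B ∈ allBlocks M G, blockOmega B z * tau p h (blockCoeff B)) := by
  classical
  haveI hpr := isPrime_of_isPModular hM
  let n : Set (IrrCharacter G) → G → ℂ := fun B =>
    conv (z - blockOmega B z • (delta : G → ℂ)) (blockCoeff B)
  have hn_eq : ∀ B, n B + blockOmega B z • blockCoeff B = conv z (blockCoeff B) := by
    intro B
    simp only [n]
    rw [conv_sub_left, conv_smul_left, conv_delta_left]
    abel
  have hz_eq : z = ∑ B ∈ allBlocks M G, (n B + blockOmega B z • blockCoeff B) := by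
    rw [Finset.sum_congr rfl fun B _ => hn_eq B, ← conv_sum_right, sum_blockCoeff_allBlocks,
      conv_delta_right]
  have htau : tau p h z = ∑ B ∈ allBlocks M G,
      (tau p h (n B) + blockOmega B z * tau p h (blockCoeff B)) := by
    conv_lhs => rw [hz_eq]
    rw [tau_sum]
    refine Finset.sum_congr rfl fun B _ => ?_
    rw [tau_add, tau_smul]
  rw [htau, Finset.sum_add_distrib, add_sub_cancel_right]
  refine memLocalIdeal_sum _ _ fun B hB => ?_
  have hBb : IsPBlock M B := mem_allBlocks.mp hB
  obtain ⟨χ₀, hχ₀, hspec⟩ := blockOmega_spec (nonempty_of_isPBlock hBb)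
  have hcR : MemLocalRing M (blockOmega B z) := by
    rw [hspec]; exact memLocalRing_omega χ₀.2 hz hzR
  have hy_cl : IsClassFunction G (z - blockOmega B z • (delta : G → ℂ)) :=
    isClassFunction_sub hz (isClassFunction_smul _ isClassFunction_delta)
  have hy_R : IsRValued M (z - blockOmega B z • (delta : G → ℂ)) :=
    isRValued_sub hzR (isRValued_smul hcR isRValued_delta)
  have hn_cl : IsClassFunction G (n B) := isClassFunction_conv hy_cl (isClassFunction_blockCoeff B)
  have hn_R : IsRValued M (n B) := isRValued_conv hy_R (isRValued_blockCoeff hBb)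
  have hrad : ∀ ψ : IrrCharacter G, MemLocalIdeal M (omega (ψ : G → ℂ) (n B)) := by
    intro ψ
    simp only [n]
    rw [omega_conv ψ.2 hy_cl (isClassFunction_blockCoeff B), omega_blockCoeff, omega_sub,
      omega_smul, omega_delta_of_irr ψ.2, mul_one]
    by_cases hψ : ψ ∈ B
    · rw [if_pos hψ, mul_one, hspec]
      exact memLocalIdeal_omega_sub ψ.2 χ₀.2 (sameBlock_of_mem hBb hψ hχ₀) hz hzR
    · rw [if_neg hψ, mul_zero]
      exact memLocalIdeal_zero hpr.ne_top
  have := Cfsg.Agent.Helper78.memLocalIdeal_sum_pElements hM hn_cl hn_R hrad h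
  unfold tau
  convert this using 2

end decomp

section minmax

variable {G : Type u} [Group G] [Fintype G] {p : ℕ} {M : Ideal AlgInt}

/-- The idempotent of a block has defect at most any defect group of the block. -/
theorem defectLE_of_isDefectGroup [Fact p.Prime] (hM : IsPModular p M)
    {B : Set (IrrCharacter G)} (hB : IsPBlock M B) {DB : Subgroup G}
    (hDB : IsDefectGroup p M B DB) : DefectLE p M DB (blockCoeff B) := by
  haveI hpr := isPrime_of_isPModular hM
  obtain ⟨g, hg, P, rfl⟩ := hDB
  obtain ⟨χ₀, hχ₀⟩ := nonempty_of_isPBlock hB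
  exact defectLE_blockCoeff hM hB g P hχ₀ (hg.2.2 χ₀ hχ₀)

theorem orderOf_conj' (d u : G) : orderOf (d * u * d⁻¹) = orderOf u := by
  have : d * u * d⁻¹ = MulAut.conj d u := by simp [MulAut.conj_apply]
  rw [this, MulEquiv.orderOf_eq]

/-- `tau p h e_B` lies in the local ideal as soon as some `p`-subgroup centralizing `h` is not
conjugate into a defect group of `B`. -/
theorem memLocalIdeal_tau_blockCoeff [Fact p.Prime] (hM : IsPModular p M)
    {B : Set (IrrCharacter G)} (hB : IsPBlock M B) {DB : Subgroup G}
    (hDB : IsDefectGroup p M B DB) (D : Subgroup G) (hD : IsPGroup p D) (h : G)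
    (hDh : D ≤ Subgroup.centralizer ({h} : Set G))
    (hnot : ¬ ∃ y : G, D.map (MulAut.conj y).toMonoidHom ≤ DB) :
    MemLocalIdeal M (tau p h (blockCoeff B)) := by
  classical
  haveI hpr := isPrime_of_isPModular hM
  have hdef := defectLE_of_isDefectGroup hM hB hDB
  let φ : G → ℂ := fun u => if (∃ j : ℕ, orderOf u = p ^ j) then blockCoeff B (u * h) else 0
  have hcomm : ∀ d ∈ D, d * h = h * d := by
    intro d hd
    have := (Subgroup.mem_centralizer_iff.1 (hDh hd)) h (Set.mem_singleton h)
    exact this.symm
  have hφ : ∀ d ∈ D, ∀ u, φ (d * u * d⁻¹) = φ u := by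
    intro d hd u
    simp only [φ]
    rw [orderOf_conj']
    have e : d * u * d⁻¹ * h = d * (u * h) * d⁻¹ := by
      have h1 : d⁻¹ * h = h * d⁻¹ := by
        have := hcomm d hd
        calc d⁻¹ * h = d⁻¹ * (h * d) * d⁻¹ := by group
          _ = d⁻¹ * (d * h) * d⁻¹ := by rw [this]
          _ = h * d⁻¹ := by group
      calc d * u * d⁻¹ * h = d * u * (d⁻¹ * h) := by group
        _ = d * u * (h * d⁻¹) := by rw [h1]
        _ = d * (u * h) * d⁻¹ := by group
    rw [e, isClassFunction_blockCoeff B]
  have hφR : ∀ u, MemLocalRing M (φ u) := by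
    intro u
    simp only [φ]
    split_ifs
    · exact isRValued_blockCoeff hB _
    · exact memLocalRing_zero hpr.ne_top
  have h1 := memLocalRing_sum_compl_centralizer hM D hD φ hφ hφR
  have hp0 : (p : ℂ) ≠ 0 := by exact_mod_cast hM.1.ne_zero
  have h2 : MemLocalIdeal M (∑ x ∈ Finset.univ.filter
      (fun x => x ∉ Subgroup.centralizer (D : Set G)), φ x) := by
    have e : (∑ x ∈ Finset.univ.filter (fun x => x ∉ Subgroup.centralizer (D : Set G)), φ x) =
        (p : ℂ) * ((∑ x ∈ Finset.univ.filter
          (fun x => x ∉ Subgroup.centralizer (D : Set G)), φ x) / (p : ℂ)) := by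
      field_simp
    rw [e]
    exact memLocalIdeal_mul_right ((memLocalIdeal_natCast_iff hM p).mpr dvd_rfl) h1
  have h3 : MemLocalIdeal M (∑ x ∈ Finset.univ.filter
      (fun x => ¬ x ∉ Subgroup.centralizer (D : Set G)), φ x) := by
    refine memLocalIdeal_sum _ _ fun u hu => ?_
    have huC : u ∈ Subgroup.centralizer (D : Set G) := by
      have := (Finset.mem_filter.mp hu).2
      exact not_not.mp this
    simp only [φ]
    split_ifs with hpe
    · by_contra hcon
      apply hnot
      apply hdef (u * h) hcon D hD
      intro d hd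
      rw [Subgroup.mem_centralizer_iff]
      intro y hy
      rw [Set.mem_singleton_iff] at hy
      subst hy
      have hu' : d * u = u * d := (Subgroup.mem_centralizer_iff.1 huC) d hd
      have hh' := hcomm d hd
      calc u * h * d = u * (h * d) := by group
        _ = u * (d * h) := by rw [hh']
        _ = (u * d) * h := by group
        _ = (d * u) * h := by rw [hu']
        _ = d * (u * h) := by group
    · exact memLocalIdeal_zero hpr.ne_top
  have hsplit := Finset.sum_filter_add_sum_filter_not (Finset.univ : Finset G)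
    (fun x => x ∉ Subgroup.centralizer (D : Set G)) φ
  have : tau p h (blockCoeff B) = ∑ x, φ x := rfl
  rw [this, ← hsplit]
  exact memLocalIdeal_add h2 h3

/-- The central character of `B` vanishes at `x` modulo the local ideal as soon as the defect
group of `B` is not conjugate into a Sylow `p`-subgroup of the centralizer of `x`. -/
theorem memLocalIdeal_centralChar_of_not_le [Fact p.Prime] (hM : IsPModular p M)
    {B : Set (IrrCharacter G)} (hB : IsPBlock M B) {DB : Subgroup G}
    (hDB : IsDefectGroup p M B DB) (x : G) (S : Sylow p (Subgroup.centralizer ({x} : Set G)))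
    (hnot : ¬ ∃ y : G, DB.map (MulAut.conj y).toMonoidHom ≤
      (S : Subgroup (Subgroup.centralizer ({x} : Set G))).map
        (Subgroup.centralizer ({x} : Set G)).subtype)
    {χ : IrrCharacter G} (hχ : χ ∈ B) : MemLocalIdeal M (centralChar (χ : G → ℂ) x) := by
  by_contra hcon
  apply hnot
  have hdef := defectLE_blockCoeff hM hB x S hχ hcon
  obtain ⟨g, hg, P, rfl⟩ := hDB
  exact hdef g hg.2.1 _ (sylow_map_isPGroup g P) (sylow_map_le_centralizer g P)

/-- Two-sided conjugate containment with a defect group makes a defect group. -/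
theorem isDefectGroup_of_le_le [Fact p.Prime] {B : Set (IrrCharacter G)} {DB D : Subgroup G}
    (hDB : IsDefectGroup p M B DB) (h1 : ∃ y : G, D.map (MulAut.conj y).toMonoidHom ≤ DB)
    (h2 : ∃ y : G, DB.map (MulAut.conj y).toMonoidHom ≤ D) : IsDefectGroup p M B D := by
  obtain ⟨y, hy⟩ := h1
  obtain ⟨y', hy'⟩ := h2
  have c1 : Nat.card (D.map (MulAut.conj y).toMonoidHom) = Nat.card D :=
    Subgroup.card_map_of_injective (MulAut.conj y).injective
  have c2 : Nat.card (DB.map (MulAut.conj y').toMonoidHom) = Nat.card DB :=
    Subgroup.card_map_of_injective (MulAut.conj y').injective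
  have l1 : Nat.card D ≤ Nat.card DB := by
    rw [← c1]; exact Subgroup.card_le_of_le hy
  have e : DB.map (MulAut.conj y').toMonoidHom = D := by
    apply Subgroup.eq_of_le_of_card_ge hy'
    rw [c2]; exact l1
  rw [← e]
  exact isDefectGroup_conj hDB y'

end minmax

section linalg

/-- A left-invertible `β × r` matrix has a nonsingular `r × r` minor (with distinct rows). -/
theorem exists_injective_minor {k : Type*} [CommRing k] [Nontrivial k] {β : Type*} [Fintype β]
    [DecidableEq β] {r : ℕ} (A : Fin r → β → k) (W : β → Fin r → k)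
    (h : ∀ i j, ∑ b, A i b * W b j = if i = j then 1 else 0) :
    ∃ f : Fin r → β, Function.Injective f ∧
      Matrix.det (Matrix.of fun i j => W (f i) j) ≠ 0 := by
  classical
  have h1 : (1 : Matrix (Fin r) (Fin r) k) = Matrix.of fun i => ∑ b, A i b • W b := by
    ext i j
    rw [Matrix.one_apply, Matrix.of_apply, Finset.sum_apply]
    simp only [Pi.smul_apply, smul_eq_mul]
    rw [h i j]
  have h2 : Matrix.det (Matrix.of fun i => ∑ b, A i b • W b) =
      ∑ f : Fin r → β, (∏ i, A i (f i)) * Matrix.det (Matrix.of fun i j => W (f i) j) := by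
    have := (Matrix.detRowAlternating (R := k) (n := Fin r)).toMultilinearMap.map_sum
      (fun i b => A i b • W b)
    simp only [AlternatingMap.coe_multilinearMap] at this
    have e1 : Matrix.det (Matrix.of fun i => ∑ b, A i b • W b) =
        Matrix.detRowAlternating (fun i => ∑ b, A i b • W b) := rfl
    rw [e1, this]
    refine Finset.sum_congr rfl fun f _ => ?_
    have := (Matrix.detRowAlternating (R := k) (n := Fin r)).toMultilinearMap.map_smul_univ
      (fun i => A i (f i)) (fun i => W (f i))
    simp only [AlternatingMap.coe_multilinearMap, smul_eq_mul] at this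
    rw [this]
    rfl
  have h3 : (∑ f : Fin r → β, (∏ i, A i (f i)) *
      Matrix.det (Matrix.of fun i j => W (f i) j)) ≠ 0 := by
    rw [← h2, ← h1, Matrix.det_one]
    exact one_ne_zero
  obtain ⟨f, -, hf⟩ := Finset.exists_ne_zero_of_sum_ne_zero h3
  have hdet : Matrix.det (Matrix.of fun i j => W (f i) j) ≠ 0 := by
    intro h0
    apply hf
    rw [h0, mul_zero]
  refine ⟨f, ?_, hdet⟩
  intro i j hij
  by_contra hne
  apply hdet
  apply Matrix.det_zero_of_row_eq hne
  funext c
  simp only [Matrix.of_apply]
  rw [hij]

end linalg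

section linalgmod

open Cfsg.Agent.Helper74.BC

variable {M : Ideal AlgInt} [hp : M.IsPrime]

/-- A `β × r` matrix over the local ring that is left-invertible modulo the local ideal has an
`r × r` minor with distinct rows whose determinant (and that of every matrix congruent to it)
lies outside the local ideal. -/
theorem exists_minor_mod {β : Type*} [Fintype β] [DecidableEq β] {r : ℕ}
    (A : Fin r → β → ℂ) (W : β → Fin r → ℂ)
    (hA : ∀ i b, MemLocalRing M (A i b)) (hW : ∀ b j, MemLocalRing M (W b j))
    (h : ∀ i j, MemLocalIdeal M (∑ b, A i b * W b j - if i = j then 1 else 0)) :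
    ∃ f : Fin r → β, Function.Injective f ∧
      ∀ W' : Fin r → Fin r → ℂ, (∀ i j, MemLocalRing M (W' i j)) →
        (∀ i j, MemLocalIdeal M (W' i j - W (f i) j)) →
        ¬ MemLocalIdeal M (Matrix.det (Matrix.of W')) := by
  classical
  let π : localSubring M →+* ResRing M := Ideal.Quotient.mk (localMax M)
  let A' : Fin r → β → ResRing M := fun i b => π ⟨A i b, hA i b⟩
  let W'' : β → Fin r → ResRing M := fun b j => π ⟨W b j, hW b j⟩
  have hmul : ∀ i j, ∑ b, A' i b * W'' b j = if i = j then 1 else 0 := by
    intro i j
    simp only [A', W'']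
    rw [← Finset.sum_congr rfl fun b _ => (map_mul π _ _), ← map_sum]
    have e : (if i = j then (1 : ResRing M) else 0) =
        π (if i = j then (1 : localSubring M) else 0) := by
      split_ifs <;> simp
    rw [e]
    apply (Ideal.Quotient.eq).2
    show MemLocalIdeal M _
    have := h i j
    convert this using 1
    push_cast
    congr 1
    split_ifs <;> simp
  obtain ⟨f, hf, hdet⟩ := exists_injective_minor A' W'' hmul
  refine ⟨f, hf, fun W' hW'R hW'c hcon => hdet ?_⟩
  let X : Matrix (Fin r) (Fin r) (localSubring M) := Matrix.of fun i j => ⟨W' i j, hW'R i j⟩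
  have e1 : (Matrix.of fun i j => W'' (f i) j) = π.mapMatrix X := by
    ext i j
    simp only [Matrix.of_apply, RingHom.mapMatrix_apply, Matrix.map_apply, X, W'']
    symm
    apply (Ideal.Quotient.eq).2
    show MemLocalIdeal M _
    exact hW'c i j
  have e2 : ((X.det : localSubring M) : ℂ) = Matrix.det (Matrix.of W') := by
    have := RingHom.map_det (localSubring M).subtype X
    rw [Subring.subtype_apply] at this
    rw [this]
    congr 1
  rw [e1, ← RingHom.map_det]
  apply (Ideal.Quotient.eq_zero_iff_mem).2
  show MemLocalIdeal M _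
  rw [e2]
  exact hcon

end linalgmod

section core

variable {G : Type u} [Group G] [Fintype G] {p : ℕ} {M : Ideal AlgInt}

/-- The functional `tau p (x i)` separates the classes of a family free of `p`-quotients. -/
theorem tau_classInd {r : ℕ} (x : Fin r → G) (hx : ∀ i j : Fin r, IsConj (x i) (x j) → i = j)
    (hsep : ∀ i j : Fin r, ∀ g h : G, IsConj (x i) g → IsConj (x j) h → ∀ k : ℕ, 0 < k →
      orderOf (g * h⁻¹) ≠ p ^ k) (i j : Fin r) :
    tau p (x i) (classInd (x j)) = if i = j then 1 else 0 := by
  classical
  unfold tau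
  have hterm : ∀ u : G, (if (∃ k : ℕ, orderOf u = p ^ k) then classInd (x j) (u * x i) else 0) =
      if u = 1 then (if i = j then (1 : ℂ) else 0) else 0 := by
    intro u
    by_cases hu : u = 1
    · subst hu
      rw [if_pos rfl, if_pos ⟨0, by simp⟩, one_mul]
      unfold classInd
      by_cases hij : i = j
      · subst hij
        rw [if_pos (IsConj.refl _), if_pos rfl]
      · rw [if_neg hij, if_neg (fun hc => hij (hx j i hc).symm)]
    · rw [if_neg hu]
      by_cases hpe : ∃ k : ℕ, orderOf u = p ^ k
      · rw [if_pos hpe]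
        unfold classInd
        rw [if_neg]
        intro hc
        obtain ⟨k, hk⟩ := hpe
        have e : u * x i * (x i)⁻¹ = u := by group
        rcases Nat.eq_zero_or_pos k with h0 | h0
        · subst h0
          rw [pow_zero, orderOf_eq_one_iff] at hk
          exact hu hk
        · exact hsep j i (u * x i) (x i) hc (IsConj.refl _) k h0 (by rw [e]; exact hk)
      · rw [if_neg hpe]
  rw [Finset.sum_congr rfl fun u _ => hterm u, Finset.sum_ite_eq' Finset.univ (1 : G)]
  simp

/-- **Brauer**: `r` pairwise non-conjugate elements with common defect group `D` whose classes have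
no nontrivial `p`-element among their quotients give `r` distinct blocks with defect group `D`
whose central characters are independent on these classes modulo the local ideal. -/
theorem exists_blocks [hp : Fact p.Prime] (hM : IsPModular p M) (D : Subgroup G) {r : ℕ}
    (x : Fin r → G) (hx : ∀ i j : Fin r, IsConj (x i) (x j) → i = j)
    (hD : ∀ i : Fin r, ∃ S : Sylow p ↥(Subgroup.centralizer ({x i} : Set G)),
      (S : Subgroup ↥(Subgroup.centralizer ({x i} : Set G))).map
        (Subgroup.centralizer ({x i} : Set G)).subtype = D)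
    (hsep : ∀ i j : Fin r, ∀ g h : G, IsConj (x i) g → IsConj (x j) h → ∀ k : ℕ, 0 < k →
      orderOf (g * h⁻¹) ≠ p ^ k) :
    ∃ B : Fin r → Set (IrrCharacter G), Function.Injective B ∧
      (∀ i, IsPBlock M (B i) ∧ IsDefectGroup p M (B i) D) ∧
      ∀ χ : Fin r → IrrCharacter G, (∀ i, χ i ∈ B i) →
        ¬ MemLocalIdeal M
          (Matrix.det (Matrix.of fun i j => centralChar (χ i : G → ℂ) (x j))) := by
  classical
  haveI hpr := isPrime_of_isPModular hM
  set Good := (allBlocks M G).filter (fun B => IsDefectGroup p M B D) with hGood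
  have memGood : ∀ B, B ∈ Good ↔ IsPBlock M B ∧ IsDefectGroup p M B D := fun B => by
    rw [hGood, Finset.mem_filter, mem_allBlocks]
  let A : Fin r → ↥Good → ℂ := fun i b => tau p (x i) (blockCoeff b.1)
  let W : ↥Good → Fin r → ℂ := fun b j => blockOmega b.1 (classInd (x j))
  have hA : ∀ i b, MemLocalRing M (A i b) := fun i b =>
    memLocalRing_tau (x i) (isRValued_blockCoeff ((memGood _).mp b.2).1)
  have hWeq : ∀ B, IsPBlock M B → ∀ j, ∃ χ₀ : IrrCharacter G, χ₀ ∈ B ∧
      blockOmega B (classInd (x j)) = centralChar (χ₀ : G → ℂ) (x j) := by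
    intro B hB j
    obtain ⟨χ₀, hχ₀, hspec⟩ := blockOmega_spec (nonempty_of_isPBlock hB)
    exact ⟨χ₀, hχ₀, by rw [hspec, omega_classInd_of_irr χ₀.2]⟩
  have hW : ∀ b j, MemLocalRing M (W b j) := by
    intro b j
    obtain ⟨χ₀, -, he⟩ := hWeq b.1 ((memGood _).mp b.2).1 j
    simp only [W]
    rw [he]
    exact memLocalRing_centralChar χ₀.2 _
  have hmain : ∀ i j, MemLocalIdeal M (∑ b, A i b * W b j - if i = j then 1 else 0) := by
    intro i j
    have hC := memLocalIdeal_tau_sub_sum hM (x i) (isClassFunction_classInd (x j))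
      (isRValued_classInd (M := M) (x j))
    rw [tau_classInd x hx hsep i j] at hC
    set F : Set (IrrCharacter G) → ℂ := fun B =>
      blockOmega B (classInd (x j)) * tau p (x i) (blockCoeff B) with hF
    have hsplit := Finset.sum_filter_add_sum_filter_not (allBlocks M G)
      (fun B => IsDefectGroup p M B D) F
    have hbad : MemLocalIdeal M (∑ B ∈ (allBlocks M G).filter
        (fun B => ¬ IsDefectGroup p M B D), F B) := by
      refine memLocalIdeal_sum _ _ fun B hB => ?_
      obtain ⟨hBa, hBn⟩ := Finset.mem_filter.mp hB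
      have hBb : IsPBlock M B := mem_allBlocks.mp hBa
      obtain ⟨DB, hDB⟩ := exists_isDefectGroup p hBb
      obtain ⟨Si, hSi⟩ := hD i
      obtain ⟨Sj, hSj⟩ := hD j
      obtain ⟨χ₀, hχ₀, he⟩ := hWeq B hBb j
      have hτR : MemLocalRing M (tau p (x i) (blockCoeff B)) :=
        memLocalRing_tau (x i) (isRValued_blockCoeff hBb)
      have hωR : MemLocalRing M (blockOmega B (classInd (x j))) := by
        rw [he]; exact memLocalRing_centralChar χ₀.2 _
      simp only [hF]
      by_cases c1 : ∃ y : G, D.map (MulAut.conj y).toMonoidHom ≤ DB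
      · by_cases c2 : ∃ y : G, DB.map (MulAut.conj y).toMonoidHom ≤ D
        · exact absurd (isDefectGroup_of_le_le hDB c1 c2) hBn
        · apply memLocalIdeal_mul_right _ hτR
          rw [he]
          apply memLocalIdeal_centralChar_of_not_le hM hBb hDB (x j) Sj _ hχ₀
          rw [hSj]
          exact c2
      · apply memLocalIdeal_mul_left hωR
        apply memLocalIdeal_tau_blockCoeff hM hBb hDB D _ (x i) _ c1
        · rw [← hSi]; exact sylow_map_isPGroup (x i) Si
        · rw [← hSi]; exact sylow_map_le_centralizer (x i) Si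
    have hgood : MemLocalIdeal M ((if i = j then (1 : ℂ) else 0) - ∑ B ∈ Good, F B) := by
      have := memLocalIdeal_add hC hbad
      rw [← hsplit] at this
      convert this using 1
      rw [hGood]
      ring
    have hsum : ∑ b, A i b * W b j = ∑ B ∈ Good, F B := by
      rw [← Finset.sum_coe_sort Good F]
      refine Finset.sum_congr rfl fun b _ => ?_
      simp only [A, W, hF]
      ring
    rw [hsum]
    have := memLocalIdeal_neg hgood
    rwa [neg_sub] at this
  obtain ⟨f, hf, hminor⟩ := exists_minor_mod A W hA hW hmain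
  refine ⟨fun i => (f i).1, fun i j hij => hf (Subtype.ext hij),
    fun i => (memGood _).mp (f i).2, fun χ hχ => ?_⟩
  apply hminor (fun i j => centralChar (χ i : G → ℂ) (x j))
  · intro i j
    exact memLocalRing_centralChar (χ i).2 _
  · intro i j
    have hBb : IsPBlock M (f i).1 := ((memGood _).mp (f i).2).1
    obtain ⟨χ₀, hχ₀, he⟩ := hWeq (f i).1 hBb j
    simp only [W]
    rw [he]
    exact sameBlock_of_mem hBb (hχ i) hχ₀ (x j)

end core

section height

open Cfsg.Agent.Helper74.BC Cfsg.Agent.Helper74.DO

variable {G : Type u} [Group G] [Fintype G] {p : ℕ} {M : Ideal AlgInt}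

theorem memLocalRing_det [hp : M.IsPrime] {r : ℕ} (W' : Fin r → Fin r → ℂ)
    (h : ∀ i j, MemLocalRing M (W' i j)) : MemLocalRing M (Matrix.det (Matrix.of W')) := by
  let X : Matrix (Fin r) (Fin r) (localSubring M) := Matrix.of fun i j => ⟨W' i j, h i j⟩
  have e2 : ((X.det : localSubring M) : ℂ) = Matrix.det (Matrix.of W') := by
    have := RingHom.map_det (localSubring M).subtype X
    rw [Subring.subtype_apply] at this
    rw [this]
    congr 1
  rw [← e2]
  exact X.det.2

/-- For a height-zero character of a block with defect group `D` and an element `x` with `D` a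
Sylow subgroup of its centralizer, the `p`-parts of the class size and of the degree agree. -/
theorem centralChar_mul_ordCompl [hp : Fact p.Prime] (hM : IsPModular p M)
    {B : Set (IrrCharacter G)} (hB : IsPBlock M B) {D : Subgroup G}
    (hDB : IsDefectGroup p M B D) (x : G) (S : Sylow p ↥(Subgroup.centralizer ({x} : Set G)))
    (hS : (S : Subgroup ↥(Subgroup.centralizer ({x} : Set G))).map
      (Subgroup.centralizer ({x} : Set G)).subtype = D)
    {χ : IrrCharacter G} (hχ : χ ∈ B) (hht : blockHeight p B (χ : G → ℂ) = 0) :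
    centralChar (χ : G → ℂ) x * ((charDegree (χ : G → ℂ) / p ^ (charDegree (χ : G → ℂ)).factorization p : ℕ) : ℂ) =
      (((Subgroup.centralizer ({x} : Set G)).index /
        p ^ ((Subgroup.centralizer ({x} : Set G)).index).factorization p : ℕ) : ℂ) *
        (χ : G → ℂ) x := by
  classical
  have hp' : p.Prime := hp.out
  obtain ⟨h1, hpos⟩ := Cfsg.Agent.Helper79.irr_one_eq χ
  set d := charDegree (χ : G → ℂ) with hd
  set N := (Subgroup.centralizer ({x} : Set G)).index with hN
  -- valuations
  have hv1 : d.factorization p = minVal p B := by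
    have h2 : blockHeight p B (χ : G → ℂ) = d.factorization p - minVal p B := rfl
    have h3 : minVal p B ≤ d.factorization p := minVal_le (p := p) hχ
    rw [h2] at hht
    omega
  have hcardD : Nat.card D = p ^ blockDefect p B := card_defectGroup hM hB D hDB
  have hcardS : Nat.card D =
      p ^ (Nat.card (Subgroup.centralizer ({x} : Set G))).factorization p := by
    rw [← hS, Subgroup.card_map_of_injective (Subgroup.subtype_injective _),
      S.card_eq_multiplicity]
  have hv2 : (Nat.card (Subgroup.centralizer ({x} : Set G))).factorization p =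
      blockDefect p B := by
    have := hcardD.symm.trans hcardS
    exact (Nat.pow_right_injective hp'.two_le this).symm
  have hN0 : N ≠ 0 := by
    rw [hN]; exact Subgroup.index_ne_zero_of_finite
  have hC0 : Nat.card (Subgroup.centralizer ({x} : Set G)) ≠ 0 := Nat.card_pos.ne'
  have hmul : Nat.card (Subgroup.centralizer ({x} : Set G)) * N = Nat.card G := by
    rw [hN]; exact Subgroup.card_mul_index _
  have hv3 : (Nat.card (Subgroup.centralizer ({x} : Set G))).factorization p + N.factorization p =
      (Nat.card G).factorization p := by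
    rw [← hmul, Nat.factorization_mul hC0 hN0]
    rfl
  have hv4 : minVal p B ≤ (Nat.card G).factorization p :=
    minVal_le_card (nonempty_of_isPBlock (hp := isPrime_of_isPModular hM) hB)
  have hv5 : N.factorization p = d.factorization p := by
    rw [hv1]
    rw [hv2, blockDefect_eq] at hv3
    omega
  -- decompositions
  have hdd := Nat.ordProj_mul_ordCompl_eq_self d p
  have hNN := Nat.ordProj_mul_ordCompl_eq_self N p
  rw [hv5] at hNN ⊢
  set v := d.factorization p with hv
  set n := d / p ^ v with hn
  set m := N / p ^ v with hm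
  have hn0 : (n : ℂ) ≠ 0 := by
    have : n ≠ 0 := by
      intro h0
      rw [h0, mul_zero] at hdd
      omega
    exact_mod_cast this
  have hpv : ((p : ℂ) ^ v) ≠ 0 := by
    apply pow_ne_zero
    exact_mod_cast hp'.ne_zero
  unfold centralChar
  rw [h1, ← hN]
  have e1 : (d : ℂ) = (p : ℂ) ^ v * n := by exact_mod_cast hdd.symm
  have e2 : (N : ℂ) = (p : ℂ) ^ v * m := by exact_mod_cast hNN.symm
  rw [e1, e2]
  field_simp

/-- Passing from central character values to character values for height-zero characters. -/
theorem not_memLocalIdeal_det [hp : Fact p.Prime] (hM : IsPModular p M) (D : Subgroup G) {r : ℕ}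
    (x : Fin r → G)
    (hD : ∀ i : Fin r, ∃ S : Sylow p ↥(Subgroup.centralizer ({x i} : Set G)),
      (S : Subgroup ↥(Subgroup.centralizer ({x i} : Set G))).map
        (Subgroup.centralizer ({x i} : Set G)).subtype = D)
    (B : Fin r → Set (IrrCharacter G))
    (hB : ∀ i, IsPBlock M (B i) ∧ IsDefectGroup p M (B i) D)
    (χ : Fin r → IrrCharacter G)
    (hχ : ∀ i, χ i ∈ B i ∧ blockHeight p (B i) (χ i : G → ℂ) = 0)
    (h : ¬ MemLocalIdeal M
      (Matrix.det (Matrix.of fun i j => centralChar (χ i : G → ℂ) (x j)))) :
    ¬ MemLocalIdeal M (Matrix.det (Matrix.of fun i j : Fin r => (χ i : G → ℂ) (x j))) := by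
  classical
  haveI hpr := isPrime_of_isPModular hM
  have hp' : p.Prime := hp.out
  let n : Fin r → ℕ := fun i => charDegree (χ i : G → ℂ) /
    p ^ (charDegree (χ i : G → ℂ)).factorization p
  let m : Fin r → ℕ := fun j => (Subgroup.centralizer ({x j} : Set G)).index /
    p ^ ((Subgroup.centralizer ({x j} : Set G)).index).factorization p
  have hpair : ∀ i j, centralChar (χ i : G → ℂ) (x j) * (n i : ℂ) =
      (m j : ℂ) * (χ i : G → ℂ) (x j) := by
    intro i j
    obtain ⟨S, hS⟩ := hD j
    exact centralChar_mul_ordCompl hM (hB i).1 (hB i).2 (x j) S hS (hχ i).1 (hχ i).2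
  have hmat : (Matrix.of fun i j => (n i : ℂ) * centralChar (χ i : G → ℂ) (x j)) =
      Matrix.of fun i j => (m j : ℂ) * (χ i : G → ℂ) (x j) := by
    ext i j
    simp only [Matrix.of_apply]
    rw [mul_comm, hpair]
  have h1 := Matrix.det_mul_column (fun i => (n i : ℂ))
    (Matrix.of fun i j => centralChar (χ i : G → ℂ) (x j))
  have h2 := Matrix.det_mul_row (fun j => (m j : ℂ))
    (Matrix.of fun i j : Fin r => (χ i : G → ℂ) (x j))
  simp only [Matrix.of_apply] at h1 h2
  rw [hmat, h2] at h1
  intro hcon
  have h3 : MemLocalIdeal M ((∏ i, (n i : ℂ)) *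
      Matrix.det (Matrix.of fun i j => centralChar (χ i : G → ℂ) (x j))) := by
    rw [← h1, ← Nat.cast_prod]
    exact memLocalIdeal_mul_left (memLocalRing_natCast _) hcon
  rw [← Nat.cast_prod] at h3
  rcases memLocalIdeal_or_of_mul (memLocalRing_natCast _)
    (memLocalRing_det _ fun i j => memLocalRing_centralChar (χ i).2 _) h3 with h4 | h4
  · rw [memLocalIdeal_natCast_iff hM] at h4
    obtain ⟨i, -, hi⟩ := (Prime.dvd_finsetProd_iff (Nat.prime_iff.mp hp') _).mp h4
    exact Nat.not_dvd_ordCompl hp' (Cfsg.Agent.Helper79.irr_one_eq (χ i)).2.ne' hi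
  · exact h h4

end height

end Cfsg.Agent.Helper75.BS
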