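import Mathlib
import Cfsg.Agent.Lib.Helper53.CD3ADefs
import Cfsg.Agent.Lib.Helper81.CharClifford

/-!
# CD3A (L124c) `exists_free_point` (helper53 server, S4460) -- helper75
-/

set_option autoImplicit false

namespace Cfsg.Agent.Helper75.CD3A

open Cfsg Cfsg.Agent.Helper53.CD3A Cfsg.Agent.Helper81
open scoped ComplexConjugate commutatorElement

universe u

/-- `conjFun` of a class function only depends on the left coset `F g`. -/
theorem h75_conjFun_mul_left {G : Type u} [Group G] (F : Subgroup G) (hF : F.Normal)
    {θ : F → ℂ} (hθ : IsClassFunction F θ) (f : F) (g : G) :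
    conjFun F hF θ ((f : G) * g) = conjFun F hF θ g := by
  ext n
  simp only [conjFun_apply]
  have h := hθ ⟨g * n * g⁻¹, hF.conj_mem n n.2 g⟩ f
  rw [← h]
  congr 1
  apply Subtype.ext
  simp only [Subgroup.coe_mul, InvMemClass.coe_inv, mul_inv_rev]
  group

/-- (L124c) counting: `conjFun F hF η g` only depends on the coset `g F` (`η` is a class function of `F`), each of the
`|G:F| - 1` nontrivial cosets fixes at most one member of the set `X`, and `|X| > |G:F| - 1`. -/
theorem exists_free_point {G : Type u} [Group G] [Finite G] (F : Subgroup G) (hF : F.Normal)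
    (X : Set (IrrCharacter F)) (N : ℕ) (hX : Nat.card X = N) (hlt : F.index < N)
    (huniq : ∀ g : G, g ∉ F → ∀ η ∈ X, ∀ η' ∈ X, conjFun F hF (η : F → ℂ) g = (η : F → ℂ) →
      conjFun F hF (η' : F → ℂ) g = (η' : F → ℂ) → η = η') :
    ∃ η ∈ X, ∀ g : G, conjFun F hF (η : F → ℂ) g = (η : F → ℂ) → g ∈ F := by
  classical
  haveI := hF
  by_contra hcon
  push_neg at hcon
  choose! g hg1 hg2 using hcon
  have hXfin : Finite X := by
    apply Nat.finite_of_card_ne_zero
    rw [hX]; omega
  -- the map `Option X → G ⧸ F`
  let ψ : Option X → G ⧸ F := fun o => match o with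
    | none => 1
    | some η => ((g η.1 : G) : G ⧸ F)
  have hψ : Function.Injective ψ := by
    intro o o' h
    match o, o' with
    | none, none => rfl
    | none, some η =>
        exfalso
        have h1 : ((g η.1 : G) : G ⧸ F) = 1 := h.symm
        rw [QuotientGroup.eq_one_iff] at h1
        exact hg2 η.1 η.2 h1
    | some η, none =>
        exfalso
        have h1 : ((g η.1 : G) : G ⧸ F) = 1 := h
        rw [QuotientGroup.eq_one_iff] at h1
        exact hg2 η.1 η.2 h1
    | some η, some η' =>
        have h1 : ((g η.1 : G) : G ⧸ F) = ((g η'.1 : G) : G ⧸ F) := h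
        rw [QuotientGroup.eq] at h1
        -- `b = f * a` with `f ∈ F`
        set a := g η.1 with ha
        set b := g η'.1 with hb
        have hfm : b * a⁻¹ ∈ F := by
          have := hF.conj_mem _ h1 a
          have e : a * (a⁻¹ * b) * a⁻¹ = b * a⁻¹ := by group
          rwa [e] at this
        have hba : b = ((⟨b * a⁻¹, hfm⟩ : F) : G) * a := by simp
        have hcl : IsClassFunction F (η'.1 : F → ℂ) :=
          isClassFunction_of_isCharacter (IsIrrCharacter.isCharacter η'.1.2)
        have h2 : conjFun F hF (η'.1 : F → ℂ) a = (η'.1 : F → ℂ) := by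
          have := hg1 η'.1 η'.2
          rw [← hb, hba, h75_conjFun_mul_left F hF hcl] at this
          exact this
        have h3 := huniq a (hg2 η.1 η.2) η.1 η.2 η'.1 η'.2 (hg1 η.1 η.2) h2
        exact congrArg some (Subtype.ext h3)
  have hle := Nat.card_le_card_of_injective ψ hψ
  rw [Finite.card_option, hX] at hle
  have : Nat.card (G ⧸ F) = F.index := rfl
  omega

end Cfsg.Agent.Helper75.CD3A
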