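import Cfsg.Agent.Lib.Helper74.DefectOrder
import Cfsg.Agent.Lib.Helper81.CharInd
import Cfsg.Agent.Lib.Helper81.CharAbel
import Cfsg.Agent.Lib.Helper79.Integrality
import Cfsg.Agent.Lib.Helper80.CharBasic
import Cfsg.Agent.S4566
import Cfsg.Agent.Lib.Helper81.CharDet

set_option autoImplicit false
set_option linter.style.haveILetI false
set_option linter.unusedSectionVars false

namespace Cfsg.Agent.Helper75.CHZ

open Cfsg
open scoped ComplexConjugate

universe u

section localring

variable {p : ℕ} {M : Ideal AlgInt}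

/-- A quotient of natural numbers whose denominator has no larger `p`-adic valuation is a local
integer. -/
theorem memLocalRing_natCast_div (hM : IsPModular p M) (n m : ℕ) (hn : n ≠ 0) (hm : m ≠ 0)
    (h : m.factorization p ≤ n.factorization p) : MemLocalRing M ((n : ℂ) / (m : ℂ)) := by
  have hp : p.Prime := hM.1
  have hn' := Nat.ordProj_mul_ordCompl_eq_self n p
  have hm' := Nat.ordProj_mul_ordCompl_eq_self m p
  have hmc : ¬ p ∣ m / p ^ m.factorization p := Nat.not_dvd_ordCompl hp hm
  have hnot : ((m / p ^ m.factorization p : ℕ) : AlgInt) ∉ M := by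
    rw [Cfsg.Agent.Helper77.natCast_mem_iff hM]
    exact hmc
  refine ⟨((p ^ (n.factorization p - m.factorization p) * (n / p ^ n.factorization p) : ℕ) :
    AlgInt), _, hnot, ?_⟩
  have hmc0 : ((m / p ^ m.factorization p : ℕ) : ℂ) ≠ 0 := by
    intro h0
    have : m / p ^ m.factorization p = 0 := by exact_mod_cast h0
    rw [this] at hmc
    exact hmc (dvd_zero p)
  have hm0 : (m : ℂ) ≠ 0 := by exact_mod_cast hm
  have key : n * (m / p ^ m.factorization p)
      = p ^ (n.factorization p - m.factorization p) * (n / p ^ n.factorization p) * m := by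
    generalize hνn : n.factorization p = νn at *
    generalize hνm : m.factorization p = νm at *
    generalize hn'd : n / p ^ νn = n' at *
    generalize hm'd : m / p ^ νm = m' at *
    have e3 : p ^ νn = p ^ (νn - νm) * p ^ νm := by rw [← pow_add, Nat.sub_add_cancel h]
    calc n * m' = p ^ νn * n' * m' := by rw [hn']
      _ = p ^ (νn - νm) * p ^ νm * n' * m' := by rw [e3]
      _ = p ^ (νn - νm) * n' * (p ^ νm * m') := by ring
      _ = p ^ (νn - νm) * n' * m := by rw [hm']
  have key' : (n : ℂ) * ((m / p ^ m.factorization p : ℕ) : ℂ)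
      = ((p ^ (n.factorization p - m.factorization p) * (n / p ^ n.factorization p) : ℕ) : ℂ)
        * (m : ℂ) := by exact_mod_cast key
  have c1 : (((p ^ (n.factorization p - m.factorization p) * (n / p ^ n.factorization p) : ℕ) :
      AlgInt) : ℂ) = ((p ^ (n.factorization p - m.factorization p) *
        (n / p ^ n.factorization p) : ℕ) : ℂ) := by simp
  have c2 : (((m / p ^ m.factorization p : ℕ) : AlgInt) : ℂ) =
      ((m / p ^ m.factorization p : ℕ) : ℂ) := by simp
  rw [c1, c2, div_eq_div_iff hmc0 hm0]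
  exact key'.symm

end localring

section scalar

variable {K : Type u} [Group K] [Fintype K]

/-- If `φ` transforms by the scalar `c` under translation by a central element `z` lying in the
subgroup `L`, so does every irreducible constituent of the restriction of `φ` to `L`. -/
theorem scalar_of_constituent (L : Subgroup K) [Fintype L] {φ : K → ℂ} {c : ℂ} (z : L)
    (hz : (z : K) ∈ Subgroup.center K) (hφ : ∀ g : K, φ (g * z) = c * φ g)
    (ξ : IrrCharacter L) (hne : classInner (fun h : L => φ h) (ξ : L → ℂ) ≠ 0) :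
    ∀ h : L, (ξ : L → ℂ) (h * z) = c * (ξ : L → ℂ) h := by
  obtain ⟨n, ρ, hρ, hξ⟩ := ξ.2
  haveI := hρ
  obtain ⟨a, -, -, -, hnorm, htrans, -⟩ := Cfsg.Agent.S4566.exists_central_scalar ρ
  have hzL : z ∈ Subgroup.center L := by
    rw [Subgroup.mem_center_iff]
    intro h
    apply Subtype.ext
    have := (Subgroup.mem_center_iff.mp hz) (h : K)
    simpa using this
  have h1 : ∀ h : L, (ξ : L → ℂ) (h * z) = a z * (ξ : L → ℂ) h := by
    intro h
    rw [← hξ]
    exact htrans z hzL h
  have hN : ‖a z‖ = 1 := hnorm z hzL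
  -- reindex the inner product
  have h2 : classInner (fun h : L => φ h) (ξ : L → ℂ)
      = c * conj (a z) * classInner (fun h : L => φ h) (ξ : L → ℂ) := by
    have hre : ∑ h : L, φ (h : K) * conj ((ξ : L → ℂ) h)
        = ∑ h : L, φ ((h * z : L) : K) * conj ((ξ : L → ℂ) (h * z)) :=
      (Equiv.sum_comp (Equiv.mulRight z)
        (fun h : L => φ (h : K) * conj ((ξ : L → ℂ) h))).symm
    have hterm : ∀ h : L, φ ((h * z : L) : K) * conj ((ξ : L → ℂ) (h * z))
        = c * conj (a z) * (φ (h : K) * conj ((ξ : L → ℂ) h)) := by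
      intro h
      rw [Subgroup.coe_mul, hφ, h1, map_mul]
      ring
    have hS : ∑ h : L, φ (h : K) * conj ((ξ : L → ℂ) h)
        = c * conj (a z) * ∑ h : L, φ (h : K) * conj ((ξ : L → ℂ) h) := by
      conv_lhs => rw [hre, Finset.sum_congr rfl (fun h _ => hterm h), ← Finset.mul_sum]
    unfold classInner
    conv_lhs => rw [hS]
    ring
  have h3 : c * conj (a z) = 1 := by
    have h4 : (c * conj (a z) - 1) * classInner (fun h : L => φ h) (ξ : L → ℂ) = 0 := by
      rw [sub_mul, one_mul, ← h2, sub_self]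
    rcases mul_eq_zero.mp h4 with h5 | h5
    · exact sub_eq_zero.mp h5
    · exact absurd h5 hne
  have h6 : a z * conj (a z) = 1 := by
    rw [Complex.mul_conj, Complex.normSq_eq_norm_sq, hN]
    simp
  have h7 : conj (a z) ≠ 0 := by
    intro h0
    rw [h0, mul_zero] at h3
    exact zero_ne_one h3
  have h8 : c = a z := mul_right_cancel₀ h7 (h3.trans h6.symm)
  intro h
  rw [h8]
  exact h1 h

end scalar

section pdeg

variable {K : Type u} [Group K] [Fintype K] {p : ℕ} {M : Ideal AlgInt}

/-- The value of an irreducible character at a central element is the degree times an algebraic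
integer (the central character value). -/
theorem irr_apply_central (ξ : IrrCharacter K) {x : K} (hx : x ∈ Subgroup.center K) :
    (ξ : K → ℂ) x = (charDegree (ξ : K → ℂ) : ℂ) * centralChar (ξ : K → ℂ) x := by
  have h1 : Subgroup.centralizer ({x} : Set K) = ⊤ := by
    rw [Subgroup.centralizer_eq_top_iff_subset]
    intro y hy
    rw [Set.mem_singleton_iff] at hy
    subst hy
    exact hx
  have h0 := Cfsg.Agent.Helper79.irr_one_ne_zero ξ
  unfold centralChar
  rw [h1, Subgroup.index_top, Nat.cast_one, one_mul, ← Cfsg.Agent.Helper80.irr_one ξ,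
    mul_div_cancel₀ _ h0]

/-- A character whose value at a central element is a local unit has an irreducible constituent
of degree prime to `p`. -/
theorem exists_constituent_pprime (hM : IsPModular p M) {ψ : K → ℂ} (hψ : IsCharacter K ψ)
    {x : K} (hx : x ∈ Subgroup.center K) (hnot : ¬ MemLocalIdeal M (ψ x)) :
    ∃ ξ : IrrCharacter K, classInner ψ (ξ : K → ℂ) ≠ 0 ∧ ¬ p ∣ charDegree (ξ : K → ℂ) := by
  classical
  haveI := Cfsg.Agent.Helper77.isPrime_of_isPModular hM
  have hne := Cfsg.Agent.Helper77.ne_top_of_isPModular hM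
  haveI : Fintype (IrrCharacter K) := @Fintype.ofFinite _ Cfsg.Agent.Helper81.irr_finite
  obtain ⟨m, hm⟩ := Cfsg.Agent.Helper81.exists_nat_decomp hψ
  by_contra hcon
  push Not at hcon
  apply hnot
  have hval : ψ x = ∑ ξ : IrrCharacter K, (m ξ : ℂ) * (ξ : K → ℂ) x := by
    conv_lhs => rw [hm]
    simp only [Finset.sum_apply, Pi.smul_apply, smul_eq_mul]
  rw [hval]
  apply Cfsg.Agent.Helper77.memLocalIdeal_sum
  intro ξ _
  by_cases h0 : m ξ = 0
  · rw [h0, Nat.cast_zero, zero_mul]
    exact Cfsg.Agent.Helper77.memLocalIdeal_zero hne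
  · have hne' : classInner ψ (ξ : K → ℂ) ≠ 0 := by
      have h1 : classInner ψ (ξ : K → ℂ) = (m ξ : ℂ) := by
        conv_lhs => rw [hm]
        exact Cfsg.Agent.Helper81.classInner_nat_decomp (fun χ' => (m χ' : ℂ)) ξ
      rw [h1]
      exact_mod_cast h0
    have hdvd := hcon ξ hne'
    rw [irr_apply_central ξ hx, ← mul_assoc]
    apply Cfsg.Agent.Helper77.memLocalIdeal_mul_right
    · have h2 : ((m ξ : ℂ) * (charDegree (ξ : K → ℂ) : ℂ))
          = ((m ξ * charDegree (ξ : K → ℂ) : ℕ) : ℂ) := by push_cast; rfl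
      rw [h2, Cfsg.Agent.Helper77.memLocalIdeal_natCast_iff hM]
      exact dvd_mul_of_dvd_right hdvd _
    · exact Cfsg.Agent.Helper74.DO.memLocalRing_of_isIntegral
        (Cfsg.Agent.Helper77.centralChar_isIntegral ξ.2 x)

end pdeg

section main

variable {G : Type u} [Group G] [Finite G] {p : ℕ} [hpf : Fact p.Prime] {M : Ideal AlgInt}

/-- Core step: given a subgroup `H` in which `g` is central, with `χ g` a local unit and `D` the
image of a Sylow `p`-subgroup of `H`, the linear character `lam` extends to `D`. -/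
theorem exists_extension_aux [Fintype G] (hM : IsPModular p M) (D : Subgroup G) (Z : Subgroup G)
    (hZc : Z ≤ Subgroup.center G) (hZD : Z ≤ D) (lam : ↥Z →* ℂˣ) (χ : IrrCharacter G)
    (hover : ∀ z : ↥Z, (χ : G → ℂ) z = (χ : G → ℂ) 1 * (lam z : ℂ))
    (H : Subgroup G) (g : G) (hgH : g ∈ H) (hgcomm : ∀ h ∈ H, h * g = g * h)
    (hχg : ¬ MemLocalIdeal M ((χ : G → ℂ) g)) (P : Sylow p H)
    (hDP : D = (P : Subgroup H).map H.subtype) :
    ∃ μ : ↥D →* ℂˣ, ∀ z : ↥Z, μ ⟨(z : G), hZD z.2⟩ = lam z := by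
  classical
  haveI := Cfsg.Agent.Helper77.isPrime_of_isPModular hM
  have hp : p.Prime := Fact.out
  haveI : Fintype H := Fintype.ofFinite H
  haveI : Fintype (P : Subgroup H) := Fintype.ofFinite _
  have hgc : (⟨g, hgH⟩ : H) ∈ Subgroup.center H := by
    rw [Subgroup.mem_center_iff]
    intro h
    apply Subtype.ext
    show (h : G) * g = g * (h : G)
    exact hgcomm h h.2
  have hχH : IsCharacter H (fun h : H => (χ : G → ℂ) h) :=
    Cfsg.Agent.Helper81.isCharacter_restrict H
      (Cfsg.Agent.Helper81.IsIrrCharacter.isCharacter χ.2)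
  obtain ⟨ξ, hξne, hξdeg⟩ := exists_constituent_pprime hM hχH hgc hχg
  -- a linear constituent on `P`
  have hξP : IsCharacter (P : Subgroup H) (fun y : (P : Subgroup H) => (ξ : H → ℂ) y) :=
    Cfsg.Agent.Helper81.isCharacter_restrict _
      (Cfsg.Agent.Helper81.IsIrrCharacter.isCharacter ξ.2)
  have hξ1 : ¬ MemLocalIdeal M ((fun y : (P : Subgroup H) => (ξ : H → ℂ) y) 1) := by
    show ¬ MemLocalIdeal M ((ξ : H → ℂ) ((1 : (P : Subgroup H)) : H))
    rw [Subgroup.coe_one, Cfsg.Agent.Helper80.irr_one ξ,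
      Cfsg.Agent.Helper77.memLocalIdeal_natCast_iff hM]
    exact hξdeg
  obtain ⟨μ, hμne, hμdeg⟩ := exists_constituent_pprime hM hξP
    (Subgroup.one_mem (Subgroup.center (P : Subgroup H))) hξ1
  have hμ1 : (μ : ↥(P : Subgroup H) → ℂ) 1 = 1 := by
    rw [Cfsg.Agent.Helper80.irr_one μ]
    have h1 := Cfsg.Agent.Helper79.irr_degree_dvd_card μ
    rw [P.card_eq_multiplicity] at h1
    obtain ⟨j, -, hj⟩ := (Nat.dvd_prime_pow hp).mp h1
    rcases Nat.eq_zero_or_pos j with hj0 | hjpos
    · rw [hj, hj0, pow_zero, Nat.cast_one]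
    · exfalso
      apply hμdeg
      rw [hj]
      exact dvd_pow_self p hjpos.ne'
  have hμch := Cfsg.Agent.Helper81.IsIrrCharacter.isCharacter μ.2
  have hμmul := Cfsg.Agent.Helper81.linear_mul hμch hμ1
  -- membership transfers
  have hDH : ∀ d : G, d ∈ D → d ∈ H := by
    intro d hd
    rw [hDP] at hd
    obtain ⟨y, -, rfl⟩ := hd
    exact y.2
  have hDPmem : ∀ (d : G) (hd : d ∈ D), (⟨d, hDH d hd⟩ : H) ∈ (P : Subgroup H) := by
    intro d hd
    have hd' := hd
    rw [hDP] at hd'
    obtain ⟨y, hy, hyd⟩ := hd'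
    have : (⟨d, hDH d hd⟩ : H) = y := Subtype.ext hyd.symm
    rw [this]
    exact hy
  -- scalars
  have hscχ : ∀ (z : ↥Z) (x : G), (χ : G → ℂ) (x * (z : G)) = (lam z : ℂ) * (χ : G → ℂ) x := by
    intro z x
    obtain ⟨n, ρ, hρ, hχρ⟩ := χ.2
    haveI := hρ
    obtain ⟨a, -, -, -, -, htrans, hval⟩ := Cfsg.Agent.S4566.exists_central_scalar ρ
    have hzc : (z : G) ∈ Subgroup.center G := hZc z.2
    have h1 : (χ : G → ℂ) (z : G) = a z * (χ : G → ℂ) 1 := by
      rw [← hχρ]; exact hval _ hzc
    have h2 : a (z : G) = (lam z : ℂ) := by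
      have h3 := hover z
      rw [h1, mul_comm] at h3
      exact mul_left_cancel₀ (Cfsg.Agent.Helper79.irr_one_ne_zero χ) h3
    rw [← h2, ← hχρ]
    exact htrans _ hzc x
  have hZH : ∀ z : ↥Z, (z : G) ∈ H := fun z => hDH _ (hZD z.2)
  have hscξ : ∀ (z : ↥Z) (h : H), (ξ : H → ℂ) (h * ⟨(z : G), hZH z⟩)
      = (lam z : ℂ) * (ξ : H → ℂ) h := by
    intro z
    exact scalar_of_constituent H (⟨(z : G), hZH z⟩ : H) (hZc z.2) (hscχ z) ξ hξne
  have hscμ : ∀ (z : ↥Z) (y : (P : Subgroup H)),
      (μ : ↥(P : Subgroup H) → ℂ) (y * ⟨⟨(z : G), hZH z⟩, hDPmem _ (hZD z.2)⟩)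
        = (lam z : ℂ) * (μ : ↥(P : Subgroup H) → ℂ) y := by
    intro z
    have hzcH : ((⟨⟨(z : G), hZH z⟩, hDPmem _ (hZD z.2)⟩ : (P : Subgroup H)) : H)
        ∈ Subgroup.center H := by
      rw [Subgroup.mem_center_iff]
      intro h
      apply Subtype.ext
      exact (Subgroup.mem_center_iff.mp (hZc z.2)) (h : G)
    exact scalar_of_constituent (P : Subgroup H)
      (⟨⟨(z : G), hZH z⟩, hDPmem _ (hZD z.2)⟩ : (P : Subgroup H)) hzcH (hscξ z) μ hμne
  -- build the homomorphism
  have hμunit : ∀ y : (P : Subgroup H), (μ : ↥(P : Subgroup H) → ℂ) y ≠ 0 := by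
    intro y h
    have h1 := hμmul y y⁻¹
    rw [mul_inv_cancel, hμ1, h, zero_mul] at h1
    exact one_ne_zero h1
  let μ' : ↥D →* ℂˣ :=
    { toFun := fun d => Units.mk0
        ((μ : ↥(P : Subgroup H) → ℂ) ⟨⟨(d : G), hDH _ d.2⟩, hDPmem _ d.2⟩) (hμunit _)
      map_one' := by
        apply Units.ext
        simp only [Units.val_mk0, Units.val_one]
        exact hμ1
      map_mul' := by
        intro d d'
        apply Units.ext
        simp only [Units.val_mk0, Units.val_mul]
        rw [← hμmul]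
        rfl }
  refine ⟨μ', fun z => ?_⟩
  apply Units.ext
  show (μ : ↥(P : Subgroup H) → ℂ) ⟨⟨(z : G), _⟩, _⟩ = (lam z : ℂ)
  have h1 := hscμ z 1
  rw [one_mul, hμ1, mul_one] at h1
  exact h1

/-- **Murai-type lemma**: if a height-zero character of a block `B` lies over the linear character
`lam` of a central `p`-subgroup `Z` contained in a defect group `D`, then `lam` extends to `D`. -/
theorem exists_extension_of_height_zero (hM : IsPModular p M) {B : Set (IrrCharacter G)}
    (hB : IsPBlock M B) (D : Subgroup G) (hD : IsDefectGroup p M B D) (Z : Subgroup G)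
    (hZc : Z ≤ Subgroup.center G) (hZD : Z ≤ D) (lam : ↥Z →* ℂˣ) (χ : IrrCharacter G)
    (hχ : χ ∈ B) (hover : ∀ z : ↥Z, (χ : G → ℂ) z = (χ : G → ℂ) 1 * (lam z : ℂ))
    (h0 : blockHeight p B (χ : G → ℂ) = 0) :
    ∃ μ : ↥D →* ℂˣ, ∀ z : ↥Z, μ ⟨(z : G), hZD z.2⟩ = lam z := by
  classical
  haveI : Fintype G := Fintype.ofFinite G
  haveI := Cfsg.Agent.Helper77.isPrime_of_isPModular hM
  obtain ⟨g, hg, P, hDP⟩ := hD
  -- valuations
  have hmv : (charDegree (χ : G → ℂ)).factorization p = Cfsg.Agent.Helper74.DO.minVal p B := by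
    have h1 := Cfsg.Agent.Helper74.DO.minVal_le (p := p) hχ
    unfold blockHeight at h0
    have h2 : (charDegree (χ : G → ℂ)).factorization p ≤ Cfsg.Agent.Helper74.DO.minVal p B :=
      Nat.sub_eq_zero_iff_le.mp h0
    exact le_antisymm h2 h1
  have hdef := Cfsg.Agent.Helper74.DO.defect_of_isDefectClass hM hB hg
  have hmvle := Cfsg.Agent.Helper74.DO.minVal_le_card (p := p)
    (Cfsg.Agent.Helper77.nonempty_of_isPBlock hB)
  have hidx : (Subgroup.centralizer ({g} : Set G)).index *
      Nat.card (Subgroup.centralizer ({g} : Set G)) = Nat.card G := by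
    rw [mul_comm]; exact Subgroup.card_mul_index _
  have hidx0 : (Subgroup.centralizer ({g} : Set G)).index ≠ 0 :=
    Subgroup.index_ne_zero_of_finite
  have hH0 : Nat.card (Subgroup.centralizer ({g} : Set G)) ≠ 0 := Nat.card_pos.ne'
  have hidxval : (Subgroup.centralizer ({g} : Set G)).index.factorization p
      = Cfsg.Agent.Helper74.DO.minVal p B := by
    have h1 : ((Subgroup.centralizer ({g} : Set G)).index *
        Nat.card (Subgroup.centralizer ({g} : Set G))).factorization p
          = (Nat.card G).factorization p := by rw [hidx]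
    rw [Nat.factorization_mul hidx0 hH0, Finsupp.add_apply, hdef,
      Cfsg.Agent.Helper74.DO.blockDefect_eq] at h1
    omega
  have hdeg0 : charDegree (χ : G → ℂ) ≠ 0 := (Cfsg.Agent.Helper79.irr_one_eq χ).2.ne'
  -- `χ g` is a local unit
  have hχg : ¬ MemLocalIdeal M ((χ : G → ℂ) g) := by
    intro hmem
    apply hg.2.2 χ hχ
    unfold centralChar
    have h5 : ((Subgroup.centralizer ({g} : Set G)).index : ℂ) * (χ : G → ℂ) g / (χ : G → ℂ) 1
        = (χ : G → ℂ) g * (((Subgroup.centralizer ({g} : Set G)).index : ℂ)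
          / (charDegree (χ : G → ℂ) : ℂ)) := by
      rw [Cfsg.Agent.Helper80.irr_one χ]
      ring
    rw [h5]
    apply Cfsg.Agent.Helper77.memLocalIdeal_mul_right hmem
    exact memLocalRing_natCast_div hM _ _ hidx0 hdeg0 (by rw [hidxval, hmv])
  have hgH : g ∈ Subgroup.centralizer ({g} : Set G) := by
    rw [Subgroup.mem_centralizer_iff]
    intro y hy
    rw [Set.mem_singleton_iff] at hy
    rw [hy]
  have hgcomm : ∀ h ∈ Subgroup.centralizer ({g} : Set G), h * g = g * h := by
    intro h hh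
    rw [Subgroup.mem_centralizer_iff] at hh
    exact (hh g rfl).symm
  exact exists_extension_aux hM D Z hZc hZD lam χ hover _ g hgH hgcomm hχg P hDP

end main

end Cfsg.Agent.Helper75.CHZ
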