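import Cfsg.Agent.Lib.Helper75.GalPrincipalD

set_option autoImplicit false
set_option linter.style.haveILetI false
set_option linter.unusedSectionVars false

namespace Cfsg.Agent.Helper75.CP

open Cfsg
open Cfsg.Agent.Helper77 (omega conv classInd isClassFunction_classInd omega_conv
  omega_classInd_of_irr trivIrr trivIrr_apply isPrime_of_isPModular ne_top_of_isPModular)
open scoped ComplexConjugate

universe u

section grp

variable {G : Type u} [Group G] (U₁ U₂ : Subgroup G)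

/-- The product set of two elementwise commuting subgroups, as a subgroup. -/
def prodSub (hcomm : ∀ u ∈ U₁, ∀ v ∈ U₂, u * v = v * u) : Subgroup G where
  carrier := {g | ∃ u ∈ U₁, ∃ v ∈ U₂, g = u * v}
  one_mem' := ⟨1, U₁.one_mem, 1, U₂.one_mem, by simp⟩
  mul_mem' := by
    rintro _ _ ⟨u, hu, v, hv, rfl⟩ ⟨u', hu', v', hv', rfl⟩
    refine ⟨u * u', mul_mem hu hu', v * v', mul_mem hv hv', ?_⟩
    calc u * v * (u' * v') = u * (v * u') * v' := by group
      _ = u * (u' * v) * v' := by rw [hcomm u' hu' v hv]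
      _ = u * u' * (v * v') := by group
  inv_mem' := by
    rintro _ ⟨u, hu, v, hv, rfl⟩
    refine ⟨u⁻¹, inv_mem hu, v⁻¹, inv_mem hv, ?_⟩
    rw [mul_inv_rev, hcomm u⁻¹ (inv_mem hu) v⁻¹ (inv_mem hv)]

variable {U₁ U₂}
variable (hcomm : ∀ u ∈ U₁, ∀ v ∈ U₂, u * v = v * u) (hgen : U₁ ⊔ U₂ = ⊤)

include hcomm hgen in
theorem exists_mul (g : G) : ∃ u ∈ U₁, ∃ v ∈ U₂, g = u * v := by
  have h1 : U₁ ≤ prodSub U₁ U₂ hcomm := fun u hu => ⟨u, hu, 1, U₂.one_mem, by simp⟩
  have h2 : U₂ ≤ prodSub U₁ U₂ hcomm := fun v hv => ⟨1, U₁.one_mem, v, hv, by simp⟩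
  have h3 : (⊤ : Subgroup G) ≤ prodSub U₁ U₂ hcomm := by
    rw [← hgen]
    exact sup_le h1 h2
  exact h3 (Subgroup.mem_top g)

include hcomm hgen in
/-- Conjugates in `G` of an element of `U₁` are `U₁`-conjugates. -/
theorem conj_left {u x : G} (hu : u ∈ U₁) (h : IsConj u x) :
    ∃ s ∈ U₁, s * u * s⁻¹ = x := by
  obtain ⟨s, hs⟩ := isConj_iff.mp h
  obtain ⟨a, ha, b, hb, rfl⟩ := exists_mul hcomm hgen s
  refine ⟨a, ha, ?_⟩
  rw [← hs]
  have h1 : b * u = u * b := (hcomm u hu b hb).symm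
  calc a * u * a⁻¹ = a * (u * b) * b⁻¹ * a⁻¹ := by group
    _ = a * (b * u) * b⁻¹ * a⁻¹ := by rw [h1]
    _ = a * b * u * (a * b)⁻¹ := by group

include hcomm hgen in
theorem conj_right {v y : G} (hv : v ∈ U₂) (h : IsConj v y) :
    ∃ s ∈ U₂, s * v * s⁻¹ = y := by
  obtain ⟨s, hs⟩ := isConj_iff.mp h
  obtain ⟨a, ha, b, hb, rfl⟩ := exists_mul hcomm hgen s
  refine ⟨b, hb, ?_⟩
  rw [← hs]
  have h1 : a * (b * v * b⁻¹) = (b * v * b⁻¹) * a :=
    hcomm a ha _ (mul_mem (mul_mem hb hv) (inv_mem hb))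
  calc b * v * b⁻¹ = (b * v * b⁻¹) * a * a⁻¹ := by group
    _ = a * (b * v * b⁻¹) * a⁻¹ := by rw [h1]
    _ = a * b * v * (a * b)⁻¹ := by group

include hcomm hgen in
theorem normal_left : U₁.Normal := by
  refine ⟨fun n hn g => ?_⟩
  obtain ⟨s, hs, h⟩ := conj_left hcomm hgen hn (isConj_iff.mpr ⟨g, rfl⟩)
  rw [← h]
  exact mul_mem (mul_mem hs hn) (inv_mem hs)

include hcomm hgen in
theorem normal_right : U₂.Normal := by
  refine ⟨fun n hn g => ?_⟩
  obtain ⟨s, hs, h⟩ := conj_right hcomm hgen hn (isConj_iff.mpr ⟨g, rfl⟩)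
  rw [← h]
  exact mul_mem (mul_mem hs hn) (inv_mem hs)

include hcomm hgen in
theorem central_of_mem_inf {z : G} (hz : z ∈ U₁ ⊓ U₂) (g : G) : g * z = z * g := by
  obtain ⟨a, ha, b, hb, rfl⟩ := exists_mul hcomm hgen g
  have h1 : z * b = b * z := hcomm z hz.1 b hb
  have h2 : a * z = z * a := hcomm a ha z hz.2
  calc a * b * z = a * (b * z) := by group
    _ = a * (z * b) := by rw [h1]
    _ = (a * z) * b := by group
    _ = (z * a) * b := by rw [h2]
    _ = z * (a * b) := by group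

include hcomm hgen in
/-- Products of conjugates are conjugates of the product. -/
theorem conj_mul {u v x y : G} (hu : u ∈ U₁) (hv : v ∈ U₂) (hx : IsConj u x) (hy : IsConj v y) :
    IsConj (u * v) (x * y) := by
  obtain ⟨a, ha, rfl⟩ := conj_left hcomm hgen hu hx
  obtain ⟨b, hb, rfl⟩ := conj_right hcomm hgen hv hy
  refine isConj_iff.mpr ⟨a * b, ?_⟩
  have h1 : b * u = u * b := (hcomm u hu b hb).symm
  have h2 : a⁻¹ * (b * v * b⁻¹) = (b * v * b⁻¹) * a⁻¹ :=
    hcomm a⁻¹ (inv_mem ha) _ (mul_mem (mul_mem hb hv) (inv_mem hb))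
  calc a * b * (u * v) * (a * b)⁻¹ = a * (b * u) * v * b⁻¹ * a⁻¹ := by group
    _ = a * (u * b) * v * b⁻¹ * a⁻¹ := by rw [h1]
    _ = a * u * ((b * v * b⁻¹) * a⁻¹) := by group
    _ = a * u * (a⁻¹ * (b * v * b⁻¹)) := by rw [h2]
    _ = a * u * a⁻¹ * (b * v * b⁻¹) := by group

end grp

section uniq

variable {G : Type u} [Group G] [Finite G] {U₁ U₂ : Subgroup G} {p : ℕ} [Fact p.Prime]
variable (hcomm : ∀ u ∈ U₁, ∀ v ∈ U₂, u * v = v * u) (hgen : U₁ ⊔ U₂ = ⊤)
  (hZ : IsPGroup p ↥(U₁ ⊓ U₂))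

include hcomm hgen hZ in
/-- Uniqueness of the factorisation of a conjugate of `u * v` for `p`-regular `u`. -/
theorem conj_unique {u v x x' g : G} (hu : u ∈ U₁) (hv : v ∈ U₂) (hreg : ¬ p ∣ orderOf u)
    (hx : IsConj u x) (hx' : IsConj u x') (hy : IsConj v (x⁻¹ * g))
    (hy' : IsConj v (x'⁻¹ * g)) : x = x' := by
  obtain ⟨a, ha, hax⟩ := conj_left hcomm hgen hu hx
  obtain ⟨a', ha', hax'⟩ := conj_left hcomm hgen hu hx'
  obtain ⟨b, hb, hby⟩ := conj_right hcomm hgen hv hy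
  obtain ⟨b', hb', hby'⟩ := conj_right hcomm hgen hv hy'
  have hxU : x ∈ U₁ := by rw [← hax]; exact mul_mem (mul_mem ha hu) (inv_mem ha)
  have hx'U : x' ∈ U₁ := by rw [← hax']; exact mul_mem (mul_mem ha' hu) (inv_mem ha')
  have hyU : x⁻¹ * g ∈ U₂ := by rw [← hby]; exact mul_mem (mul_mem hb hv) (inv_mem hb)
  have hy'U : x'⁻¹ * g ∈ U₂ := by rw [← hby']; exact mul_mem (mul_mem hb' hv) (inv_mem hb')
  set z := x'⁻¹ * x with hz
  have hz1 : z ∈ U₁ := mul_mem (inv_mem hx'U) hxU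
  have hz2 : z ∈ U₂ := by
    have : z = (x'⁻¹ * g) * (x⁻¹ * g)⁻¹ := by rw [hz]; group
    rw [this]
    exact mul_mem hy'U (inv_mem hyU)
  have hzc := central_of_mem_inf hcomm hgen (z := z) ⟨hz1, hz2⟩
  set m := orderOf u with hm
  have hxm : x ^ m = 1 := by rw [← hax, conj_pow, hm, pow_orderOf_eq_one]; group
  have hx'm : x' ^ m = 1 := by rw [← hax', conj_pow, hm, pow_orderOf_eq_one]; group
  have hxz : x = x' * z := by rw [hz]; group
  have hcomm' : Commute x' z := (hzc x')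
  have hzm : z ^ m = 1 := by
    have h1 : (x' * z) ^ m = x' ^ m * z ^ m := hcomm'.mul_pow m
    rw [← hxz, hxm, hx'm, one_mul] at h1
    exact h1.symm
  obtain ⟨j, hj⟩ := hZ ⟨z, hz1, hz2⟩
  have hzj : z ^ p ^ j = 1 := by
    have := congrArg Subtype.val hj
    simpa using this
  have hcop : Nat.Coprime m (p ^ j) :=
    Nat.Coprime.pow_right j ((Nat.coprime_comm).mp
      ((Nat.Prime.coprime_iff_not_dvd Fact.out).mpr hreg))
  have hz1' : z = 1 := by
    have h3 : orderOf z ∣ Nat.gcd m (p ^ j) :=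
      Nat.dvd_gcd (orderOf_dvd_of_pow_eq_one hzm) (orderOf_dvd_of_pow_eq_one hzj)
    rw [hcop, Nat.dvd_one, orderOf_eq_one_iff] at h3
    exact h3
  rw [hxz, hz1', mul_one]

end uniq

section convid

variable {G : Type u} [Group G] [Fintype G] {U₁ U₂ : Subgroup G} {p : ℕ} [Fact p.Prime]
variable (hcomm : ∀ u ∈ U₁, ∀ v ∈ U₂, u * v = v * u) (hgen : U₁ ⊔ U₂ = ⊤)
  (hZ : IsPGroup p ↥(U₁ ⊓ U₂))

include hcomm hgen hZ in
/-- The class sums of `p`-regular `u ∈ U₁` and of `v ∈ U₂` multiply to the class sum of `u * v`. -/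
theorem conv_classInd {u v : G} (hu : u ∈ U₁) (hv : v ∈ U₂) (hreg : ¬ p ∣ orderOf u) :
    conv (classInd u) (classInd v) = classInd (u * v) := by
  classical
  funext g
  unfold conv classInd
  by_cases hg : IsConj (u * v) g
  · rw [if_pos hg]
    obtain ⟨s, hs⟩ := isConj_iff.mp hg
    set x₀ := s * u * s⁻¹ with hx₀
    have hx₀c : IsConj u x₀ := isConj_iff.mpr ⟨s, rfl⟩
    have hy₀c : IsConj v (x₀⁻¹ * g) := by
      refine isConj_iff.mpr ⟨s, ?_⟩
      rw [hx₀, ← hs]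
      group
    rw [Finset.sum_eq_single x₀]
    · rw [if_pos hx₀c, if_pos hy₀c, mul_one]
    · intro x _ hne
      by_cases h1 : IsConj u x
      · by_cases h2 : IsConj v (x⁻¹ * g)
        · exact absurd (conj_unique hcomm hgen hZ hu hv hreg h1 hx₀c h2 hy₀c) hne
        · rw [if_neg h2, mul_zero]
      · rw [if_neg h1, zero_mul]
    · intro h
      exact absurd (Finset.mem_univ _) h
  · rw [if_neg hg]
    apply Finset.sum_eq_zero
    intro x _
    by_cases h1 : IsConj u x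
    · by_cases h2 : IsConj v (x⁻¹ * g)
      · exfalso
        apply hg
        have := conj_mul hcomm hgen hu hv h1 h2
        rwa [mul_inv_cancel_left] at this
      · rw [if_neg h2, mul_zero]
    · rw [if_neg h1, zero_mul]

include hcomm hgen hZ in
/-- Central characters are multiplicative on `u * v` with `u ∈ U₁` `p`-regular and `v ∈ U₂`. -/
theorem centralChar_mul {χ : G → ℂ} (hχ : IsIrrCharacter G χ) {u v : G} (hu : u ∈ U₁)
    (hv : v ∈ U₂) (hreg : ¬ p ∣ orderOf u) :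
    centralChar χ (u * v) = centralChar χ u * centralChar χ v := by
  rw [← omega_classInd_of_irr hχ, ← omega_classInd_of_irr hχ u, ← omega_classInd_of_irr hχ v,
    ← omega_conv hχ (isClassFunction_classInd u) (isClassFunction_classInd v),
    conv_classInd hcomm hgen hZ hu hv hreg]

end convid

section restr

variable {G : Type u} [Group G] [Fintype G] {U₁ U₂ : Subgroup G}
variable (hcomm : ∀ u ∈ U₁, ∀ v ∈ U₂, u * v = v * u) (hgen : U₁ ⊔ U₂ = ⊤)

include hcomm hgen in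
/-- The central character of `χ` at `u ∈ U₁` equals that of a constituent of `χ` on `U₁`. -/
theorem centralChar_left [Fintype U₁] (χ : IrrCharacter G) (ψ : IrrCharacter U₁)
    (hcon : classInner (fun n : U₁ => (χ : G → ℂ) n) (ψ : U₁ → ℂ) ≠ 0) (u : U₁) :
    centralChar (χ : G → ℂ) (u : G) = centralChar (ψ : U₁ → ℂ) u := by
  classical
  have hsupp : ∀ g, g ∉ U₁ → classInd (u : G) g = 0 := by
    intro g hg
    unfold classInd
    rw [if_neg]
    intro h
    obtain ⟨s, hs, hsx⟩ := conj_left hcomm hgen u.2 h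
    exact hg (hsx ▸ mul_mem (mul_mem hs u.2) (inv_mem hs))
  have h1 := Cfsg.Agent.Helper16.omega_eq_omega_of_constituent U₁ χ ψ hcon
    (isClassFunction_classInd (u : G)) hsupp
  have h2 : (fun n : U₁ => classInd (u : G) (n : G)) = classInd u := by
    funext n
    unfold classInd
    have : IsConj (u : G) (n : G) ↔ IsConj u n := by
      constructor
      · intro h
        obtain ⟨s, hs, hsx⟩ := conj_left hcomm hgen u.2 h
        exact isConj_iff.mpr ⟨⟨s, hs⟩, Subtype.ext (by simpa using hsx)⟩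
      · intro h
        obtain ⟨s, hs⟩ := isConj_iff.mp h
        refine isConj_iff.mpr ⟨(s : G), ?_⟩
        have := congrArg Subtype.val hs
        simpa using this
    by_cases hc : IsConj u n
    · rw [if_pos (this.mpr hc), if_pos hc]
    · rw [if_neg (fun h => hc (this.mp h)), if_neg hc]
  rw [h2, omega_classInd_of_irr χ.2, omega_classInd_of_irr ψ.2] at h1
  exact h1

end restr

section regular

variable {G : Type u} [Group G] [Finite G] {U₁ U₂ : Subgroup G} {p : ℕ} [Fact p.Prime]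
variable (hcomm : ∀ u ∈ U₁, ∀ v ∈ U₂, u * v = v * u) (hgen : U₁ ⊔ U₂ = ⊤)

include hcomm hgen in
/-- A `p`-regular element is a product of `p`-regular elements of `U₁` and `U₂`. -/
theorem exists_regular_mul {g : G} (hg : ¬ p ∣ orderOf g) :
    ∃ u ∈ U₁, ∃ v ∈ U₂, g = u * v ∧ ¬ p ∣ orderOf u ∧ ¬ p ∣ orderOf v := by
  obtain ⟨a, ha, b, hb, rfl⟩ := exists_mul hcomm hgen g
  have hp : p.Prime := Fact.out
  set n := orderOf (a * b) with hn
  set P := p ^ (Nat.card G).factorization p with hP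
  have hn0 : 0 < n := orderOf_pos _
  set k := P ^ Nat.totient n with hk
  have hcopn : Nat.Coprime P n :=
    Nat.Coprime.pow_left _ ((Nat.Prime.coprime_iff_not_dvd hp).mpr hg)
  have hk1 : k ≡ 1 [MOD n] := Nat.ModEq.pow_totient hcopn
  have hgk : (a * b) ^ k = a * b := by
    conv_rhs => rw [← pow_one (a * b)]
    rw [pow_eq_pow_iff_modEq]
    exact hk1
  have hab : Commute a b := hcomm a ha b hb
  rw [hab.mul_pow] at hgk
  have hPk : P ∣ k := dvd_pow_self P (Nat.totient_pos.mpr hn0).ne'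
  have key : ∀ x : G, ¬ p ∣ orderOf (x ^ k) := by
    intro x
    set m := orderOf x with hm
    have hm0 : m ≠ 0 := (orderOf_pos x).ne'
    have h1 : p ^ m.factorization p ∣ P :=
      pow_dvd_pow p ((Nat.factorization_le_iff_dvd hm0 Nat.card_pos.ne').mpr
        (orderOf_dvd_natCard x) p)
    have h2 : m ∣ k * (m / p ^ m.factorization p) := by
      have h0 := Nat.ordProj_mul_ordCompl_eq_self m p
      conv_lhs => rw [← h0]
      exact Nat.mul_dvd_mul (h1.trans hPk) (dvd_refl _)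
    have h3 : (x ^ k) ^ (m / p ^ m.factorization p) = 1 := by
      rw [← pow_mul]
      exact orderOf_dvd_iff_pow_eq_one.mp h2
    intro hdvd
    have h4 := hdvd.trans (orderOf_dvd_of_pow_eq_one h3)
    exact Nat.not_dvd_ordCompl hp hm0 h4
  exact ⟨a ^ k, pow_mem ha k, b ^ k, pow_mem hb k, hgk.symm, key a, key b⟩

end regular

section main

variable {G : Type u} [Group G] [Fintype G] {p : ℕ} [Fact p.Prime] {M : Ideal AlgInt}
  {U₁ U₂ : Subgroup G} [Fintype U₁] [Fintype U₂]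

/-- **Principal block of a central product over a `p`-group.** -/
theorem mem_principal_iff (hM : IsPModular p M)
    (hcomm : ∀ u ∈ U₁, ∀ v ∈ U₂, u * v = v * u) (hgen : U₁ ⊔ U₂ = ⊤)
    (hZ : IsPGroup p ↥(U₁ ⊓ U₂)) (χ : IrrCharacter G) (ψ₁ : IrrCharacter U₁)
    (ψ₂ : IrrCharacter U₂)
    (h₁ : classInner (fun u : U₁ => (χ : G → ℂ) u) (ψ₁ : U₁ → ℂ) ≠ 0)
    (h₂ : classInner (fun u : U₂ => (χ : G → ℂ) u) (ψ₂ : U₂ → ℂ) ≠ 0) :
    χ ∈ principalBlock M G ↔ (ψ₁ ∈ principalBlock M U₁ ∧ ψ₂ ∈ principalBlock M U₂) := by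
  haveI := isPrime_of_isPModular hM
  have hcomm' : ∀ u ∈ U₂, ∀ v ∈ U₁, u * v = v * u := fun u hu v hv => (hcomm v hv u hu).symm
  have hgen' : U₂ ⊔ U₁ = ⊤ := by rw [sup_comm]; exact hgen
  constructor
  · intro h
    haveI := normal_left hcomm hgen
    haveI := normal_right hcomm hgen
    exact ⟨Cfsg.Agent.Helper75.GP.mem_principal_of_under U₁ hM χ ψ₁ h₁ h,
      Cfsg.Agent.Helper75.GP.mem_principal_of_under U₂ hM χ ψ₂ h₂ h⟩
  · rintro ⟨hψ₁, hψ₂⟩
    have hsb : SameBlock M (trivIrr G : G → ℂ) (χ : G → ℂ) := by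
      apply Cfsg.Agent.Helper16.sameBlock_of_regular hM
      intro g hg
      obtain ⟨u, hu, v, hv, rfl, hur, hvr⟩ := exists_regular_mul hcomm hgen hg
      have t₁ : classInner (fun n : U₁ => (trivIrr G : G → ℂ) n) (trivIrr U₁ : U₁ → ℂ) ≠ 0 :=
        Cfsg.Agent.Helper16.classInner_trivIrr_ne_zero U₁ (trivIrr G) (fun n => rfl)
      have t₂ : classInner (fun n : U₂ => (trivIrr G : G → ℂ) n) (trivIrr U₂ : U₂ → ℂ) ≠ 0 :=
        Cfsg.Agent.Helper16.classInner_trivIrr_ne_zero U₂ (trivIrr G) (fun n => rfl)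
      rw [centralChar_mul hcomm hgen hZ (trivIrr G).2 hu hv hur,
        centralChar_mul hcomm hgen hZ χ.2 hu hv hur]
      have e1 := centralChar_left hcomm hgen (trivIrr G) (trivIrr U₁) t₁ ⟨u, hu⟩
      have e2 := centralChar_left hcomm' hgen' (trivIrr G) (trivIrr U₂) t₂ ⟨v, hv⟩
      have e3 := centralChar_left hcomm hgen χ ψ₁ h₁ ⟨u, hu⟩
      have e4 := centralChar_left hcomm' hgen' χ ψ₂ h₂ ⟨v, hv⟩
      simp only at e1 e2 e3 e4
      rw [e1, e2, e3, e4]
      have d1 := hψ₁ ⟨u, hu⟩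
      have d2 := hψ₂ ⟨v, hv⟩
      have r1 : MemLocalRing M (centralChar (trivIrr U₁ : U₁ → ℂ) ⟨u, hu⟩) :=
        Cfsg.Agent.Helper77.memLocalRing_centralChar (trivIrr U₁).2 _
      have r2 : MemLocalRing M (centralChar (ψ₂ : U₂ → ℂ) ⟨v, hv⟩) :=
        Cfsg.Agent.Helper77.memLocalRing_centralChar ψ₂.2 _
      have key : centralChar (trivIrr U₁ : U₁ → ℂ) ⟨u, hu⟩ * centralChar (trivIrr U₂ : U₂ → ℂ) ⟨v, hv⟩
          - centralChar (ψ₁ : U₁ → ℂ) ⟨u, hu⟩ * centralChar (ψ₂ : U₂ → ℂ) ⟨v, hv⟩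
          = centralChar (trivIrr U₁ : U₁ → ℂ) ⟨u, hu⟩ *
              (centralChar (trivIrr U₂ : U₂ → ℂ) ⟨v, hv⟩ - centralChar (ψ₂ : U₂ → ℂ) ⟨v, hv⟩)
            + (centralChar (trivIrr U₁ : U₁ → ℂ) ⟨u, hu⟩ - centralChar (ψ₁ : U₁ → ℂ) ⟨u, hu⟩)
              * centralChar (ψ₂ : U₂ → ℂ) ⟨v, hv⟩ := by ring
      rw [key]
      exact Cfsg.Agent.Helper77.memLocalIdeal_add
        (Cfsg.Agent.Helper77.memLocalIdeal_mul_left r1 d2)
        (Cfsg.Agent.Helper77.memLocalIdeal_mul_right d1 r2)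
    exact hsb

end main

end Cfsg.Agent.Helper75.CP
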