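import Mathlib
import Cfsg.Agent.Lib.Helper77.BrauerMap
import Cfsg.Agent.Lib.Helper77.Radical
import Cfsg.Agent.Lib.Helper16.ConvAlg

/-!
# Convolution powers and the Frobenius congruence (helper75)

* `tprod t` : ordered product of a tuple `t : Fin n → G`.
* `cpow f n` : the `n`-fold convolution power of `f : G → ℂ`.
* `cpow_apply` : expansion of `cpow f n x` as a sum over tuples with product `x`.
* `memLocalIdeal_sum_of_perm` : a fixed-point-free permutation of `p`-power order and an invariant
  function with values in the local ring: the total sum lies in the local ideal.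
* `frobenius_congr` : for a conjugation-invariant predicate `C` and `n = p ^ m`,
  `∑_{x, C x} f^{*n}(x) ≡ ∑_{g, C (g^n)} f(g)^n` modulo the local ideal.
-/

set_option autoImplicit false
set_option linter.unusedSectionVars false
set_option linter.style.haveILetI false

namespace Cfsg.Agent.Helper75.CPow

open Cfsg Cfsg.Agent.Helper77

universe u

section tuples

variable {G : Type u} [Group G]

/-- ordered product of a tuple -/
def tprod {n : ℕ} (t : Fin n → G) : G := (List.ofFn t).prod

theorem tprod_cons {n : ℕ} (y : G) (s : Fin n → G) :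
    tprod (Fin.cons y s : Fin (n + 1) → G) = y * tprod s := by
  unfold tprod
  rw [List.ofFn_succ]
  simp

theorem tprod_zero (t : Fin 0 → G) : tprod t = 1 := by
  unfold tprod
  simp

theorem tprod_const (n : ℕ) (g : G) : tprod (fun _ : Fin n => g) = g ^ n := by
  unfold tprod
  rw [List.ofFn_const, List.prod_replicate]

/-- rotation of a tuple by one step -/
def rot (k : ℕ) : Equiv.Perm (Fin (k + 1) → G) :=
  (Equiv.addRight (1 : Fin (k + 1))).symm.arrowCongr (Equiv.refl G)

theorem rot_apply (k : ℕ) (t : Fin (k + 1) → G) (i : Fin (k + 1)) : rot k t i = t (i + 1) := by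
  unfold rot
  simp [Equiv.arrowCongr]

open Fin.NatCast Fin.CommRing in
theorem rot_pow_apply (k j : ℕ) (t : Fin (k + 1) → G) (i : Fin (k + 1)) :
    (rot k ^ j) t i = t (i + (j : Fin (k + 1))) := by
  induction j generalizing t with
  | zero => simp
  | succ j ih =>
    rw [pow_succ, Equiv.Perm.mul_apply, ih, rot_apply]
    congr 1
    push_cast
    ring

open Fin.NatCast in
theorem rot_pow_card (k : ℕ) : (rot (G := G) k) ^ (k + 1) = 1 := by
  ext t i
  rw [rot_pow_apply]
  simp

theorem tprod_rot (k : ℕ) (t : Fin (k + 1) → G) :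
    tprod (rot k t) = (t 0)⁻¹ * tprod t * t 0 := by
  have h1 : tprod t = t 0 * tprod (fun i : Fin k => t i.succ) := by
    unfold tprod
    rw [List.ofFn_succ]
    simp
  have h2 : tprod (rot k t) = tprod (fun i : Fin k => t i.succ) * t 0 := by
    unfold tprod
    rw [List.ofFn_succ', List.concat_eq_append, List.prod_append]
    simp only [List.prod_cons, List.prod_nil, mul_one]
    congr 2
    · congr 1
      funext i
      rw [rot_apply, Fin.coeSucc_eq_succ]
    · rw [rot_apply, Fin.last_add_one]
  rw [h1, h2]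
  group

theorem eq_const_of_rot_eq (k : ℕ) (t : Fin (k + 1) → G) (h : rot k t = t) :
    t = fun _ => t 0 := by
  funext i
  induction i using Fin.induction with
  | zero => rfl
  | succ i ih =>
    have := congrFun h i.castSucc
    rw [rot_apply, Fin.coeSucc_eq_succ] at this
    rw [this, ih]

theorem rot_const (k : ℕ) (g : G) : rot k (fun _ : Fin (k + 1) => g) = fun _ => g := by
  funext i
  rw [rot_apply]

end tuples

section expansion

variable {G : Type u} [Group G] [Fintype G]

/-- `n`-fold convolution power -/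
noncomputable def cpow (f : G → ℂ) (n : ℕ) : G → ℂ := convList (List.replicate n f)

theorem cpow_zero (f : G → ℂ) : cpow f 0 = delta := rfl

theorem cpow_succ (f : G → ℂ) (n : ℕ) : cpow f (n + 1) = conv f (cpow f n) := rfl

theorem cpow_apply [DecidableEq G] (f : G → ℂ) (n : ℕ) (x : G) :
    cpow f n x = ∑ t : Fin n → G, if tprod t = x then ∏ i, f (t i) else 0 := by
  induction n generalizing x with
  | zero =>
    rw [cpow_zero]
    unfold delta
    rw [Fintype.sum_eq_single (fun _ => 1 : Fin 0 → G)]
    · rw [tprod_zero]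
      simp only [Finset.univ_eq_empty, Finset.prod_empty]
      by_cases hx : x = 1
      · rw [if_pos hx, if_pos hx.symm]
      · rw [if_neg hx, if_neg (Ne.symm hx)]
    · intro t ht
      exact absurd (Subsingleton.elim _ _) ht
  | succ n ih =>
    rw [cpow_succ]
    unfold conv
    rw [← (Fin.consEquiv (fun _ : Fin (n + 1) => G)).sum_comp, Fintype.sum_prod_type]
    refine Finset.sum_congr rfl fun y _ => ?_
    rw [ih, Finset.mul_sum]
    refine Finset.sum_congr rfl fun s _ => ?_
    have hc : (Fin.consEquiv (fun _ : Fin (n + 1) => G)) (y, s) = (Fin.cons y s : Fin (n + 1) → G) :=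
      rfl
    rw [hc, tprod_cons, Fin.prod_univ_succ]
    simp only [Fin.cons_zero, Fin.cons_succ]
    by_cases h : tprod s = y⁻¹ * x
    · rw [if_pos h, if_pos (by rw [h]; group)]
    · rw [if_neg h, if_neg (fun h' => h (by rw [← h']; group)), mul_zero]

end expansion

section perm

variable {p : ℕ} {M : Ideal AlgInt}

/-- A fixed-point-free permutation of `p`-power order and an invariant function with values in
the local ring: the total sum lies in the local ideal. -/
theorem memLocalIdeal_sum_of_perm (hM : IsPModular p M) {Y : Type*} [Fintype Y]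
    (τ : Equiv.Perm Y) (m : ℕ) (hτ : τ ^ (p ^ m) = 1) (hfix : ∀ y, τ y ≠ y) (φ : Y → ℂ)
    (hφ : ∀ y, φ (τ y) = φ y) (hR : ∀ y, MemLocalRing M (φ y)) :
    MemLocalIdeal M (∑ y, φ y) := by
  classical
  haveI := isPrime_of_isPModular hM
  haveI : Fact p.Prime := ⟨hM.1⟩
  have hp0 : (p : ℂ) ≠ 0 := by exact_mod_cast hM.1.ne_zero
  have hP : IsPGroup p (Subgroup.zpowers τ) := by
    rintro ⟨g, hg⟩
    obtain ⟨j, rfl⟩ := Subgroup.mem_zpowers_iff.mp hg
    refine ⟨m, Subtype.ext ?_⟩
    show (τ ^ j) ^ (p ^ m) = 1
    rw [← zpow_natCast, ← zpow_mul, mul_comm, zpow_mul, zpow_natCast, hτ, one_zpow]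
  have hinv : ∀ (u : Subgroup.zpowers τ) (y : Y), φ (u • y) = φ y := by
    rintro ⟨g, hg⟩ y
    obtain ⟨j, rfl⟩ := Subgroup.mem_zpowers_iff.mp hg
    show φ ((τ ^ j) y) = φ y
    induction j using Int.induction_on generalizing y with
    | zero => simp
    | succ i ih =>
      rw [zpow_add_one, Equiv.Perm.mul_apply, ih (τ y) (Subgroup.zpow_mem_zpowers τ i), hφ]
    | pred i ih =>
      have h1 : (τ ^ (-(i : ℤ) - 1)) y = (τ ^ (-(i : ℤ))) (τ⁻¹ y) := by
        rw [zpow_sub_one, Equiv.Perm.mul_apply]
      rw [h1, ih (τ⁻¹ y) (Subgroup.zpow_mem_zpowers τ _)]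
      have := hφ (τ⁻¹ y)
      rw [show τ (τ⁻¹ y) = y from by simp] at this
      exact this.symm
  have h := memLocalRing_sum_div_of_no_fixedPoints hM hP
    (fun y => ⟨⟨τ, Subgroup.mem_zpowers τ⟩, hfix y⟩) φ hinv hR
  have e : (∑ y, φ y) = (p : ℂ) * ((∑ y, φ y) / (p : ℂ)) := by field_simp
  rw [e]
  exact memLocalIdeal_mul_right ((memLocalIdeal_natCast_iff hM p).mpr dvd_rfl) h

/-- A permutation of `p`-power order and an invariant function with values in the local ring:
the total sum is congruent to the sum over the fixed points. -/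
theorem memLocalIdeal_sum_sub_fixed (hM : IsPModular p M) {X : Type*} [Fintype X] [DecidableEq X]
    (τ : Equiv.Perm X) (m : ℕ) (hτ : τ ^ (p ^ m) = 1) (φ : X → ℂ)
    (hφ : ∀ y, φ (τ y) = φ y) (hR : ∀ y, MemLocalRing M (φ y)) :
    MemLocalIdeal M ((∑ x, φ x) - ∑ x, if τ x = x then φ x else 0) := by
  classical
  have hsplit : (∑ x, φ x) - ∑ x, (if τ x = x then φ x else 0) =
      ∑ x : {x : X // τ x ≠ x}, φ x.1 := by
    rw [← Finset.sum_sub_distrib]
    rw [← Finset.sum_subtype (Finset.univ.filter fun x => τ x ≠ x) (by simp) φ,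
      Finset.sum_filter]
    refine Finset.sum_congr rfl fun x _ => ?_
    by_cases h : τ x = x
    · rw [if_pos h, if_neg (by simpa using h), sub_self]
    · rw [if_neg h, if_pos h, sub_zero]
  rw [hsplit]
  have hsub : ∀ x, τ x ≠ x ↔ τ (τ x) ≠ τ x := fun x => by
    rw [Ne, Ne, τ.injective.eq_iff]
  let σ : Equiv.Perm {x : X // τ x ≠ x} := τ.subtypePerm (fun x => (hsub x).symm)
  have hσ : ∀ j : ℕ, ∀ y : {x : X // τ x ≠ x}, ((σ ^ j) y : X) = (τ ^ j) y.1 := by
    intro j
    induction j with
    | zero => intro y; simp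
    | succ j ih =>
      intro y
      rw [pow_succ, Equiv.Perm.mul_apply, ih, pow_succ, Equiv.Perm.mul_apply]
      rfl
  refine memLocalIdeal_sum_of_perm hM σ m ?_ ?_ (fun y => φ y.1) ?_ (fun y => hR y.1)
  · ext y
    rw [hσ, hτ]
    simp
  · intro y h
    exact y.2 (congrArg Subtype.val h)
  · intro y
    exact hφ y.1

end perm

section frobenius

variable {G : Type u} [Group G] [Fintype G] {p : ℕ} {M : Ideal AlgInt}

theorem frobenius_congr_aux [DecidableEq G] (hM : IsPModular p M) (m k : ℕ) (hk : p ^ m = k + 1)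
    {f : G → ℂ} (hf : IsRValued M f) (C : G → Prop) [DecidablePred C]
    (hC : ∀ u x, C (u * x * u⁻¹) ↔ C x) :
    MemLocalIdeal M ((∑ x, if C x then cpow f (k + 1) x else 0) -
      ∑ g, if C (g ^ (k + 1)) then f g ^ (k + 1) else 0) := by
  haveI := isPrime_of_isPModular hM
  let φ : (Fin (k + 1) → G) → ℂ := fun t => if C (tprod t) then ∏ i, f (t i) else 0
  have h1 : (∑ x, if C x then cpow f (k + 1) x else 0) = ∑ t, φ t := by
    have : ∀ x, (if C x then cpow f (k + 1) x else 0) =
        ∑ t : Fin (k + 1) → G, if tprod t = x then φ t else 0 := by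
      intro x
      rw [cpow_apply]
      by_cases hx : C x
      · rw [if_pos hx]
        refine Finset.sum_congr rfl fun t _ => ?_
        by_cases ht : tprod t = x
        · rw [if_pos ht, if_pos ht]
          simp only [φ]
          rw [if_pos (by rw [ht]; exact hx)]
        · rw [if_neg ht, if_neg ht]
      · rw [if_neg hx]
        symm
        refine Finset.sum_eq_zero fun t _ => ?_
        by_cases ht : tprod t = x
        · rw [if_pos ht]
          simp only [φ]
          rw [if_neg (by rw [ht]; exact hx)]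
        · rw [if_neg ht]
    rw [Finset.sum_congr rfl fun x _ => this x, Finset.sum_comm]
    refine Finset.sum_congr rfl fun t _ => ?_
    rw [Finset.sum_ite_eq]
    simp
  have h2 : (∑ g, if C (g ^ (k + 1)) then f g ^ (k + 1) else 0) =
      ∑ t, if rot k t = t then φ t else 0 := by
    rw [← Finset.sum_filter (fun t => rot k t = t) φ]
    symm
    refine Finset.sum_nbij' (fun t => t 0) (fun g => fun _ => g) ?_ ?_ ?_ ?_ ?_
    · intro t _; exact Finset.mem_univ _
    · intro g _
      rw [Finset.mem_filter]
      exact ⟨Finset.mem_univ _, rot_const k g⟩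
    · intro t ht
      rw [Finset.mem_filter] at ht
      exact (eq_const_of_rot_eq k t ht.2).symm
    · intro g _; rfl
    · intro t ht
      rw [Finset.mem_filter] at ht
      have e := eq_const_of_rot_eq k t ht.2
      simp only [φ]
      rw [e, tprod_const]
      simp
  rw [h1, h2]
  refine memLocalIdeal_sum_sub_fixed hM (rot k) m (by rw [hk]; exact rot_pow_card k) φ ?_ ?_
  · intro t
    simp only [φ]
    have hc : C (tprod (rot k t)) ↔ C (tprod t) := by
      rw [tprod_rot]
      have := hC (t 0)⁻¹ (tprod t)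
      rwa [inv_inv] at this
    have hp : ∏ i, f (rot k t i) = ∏ i, f (t i) := by
      simp only [rot_apply]
      exact Equiv.prod_comp (Equiv.addRight (1 : Fin (k + 1))) (fun i => f (t i))
    by_cases h : C (tprod t)
    · rw [if_pos h, if_pos (hc.mpr h), hp]
    · rw [if_neg h, if_neg (fun h' => h (hc.mp h'))]
  · intro t
    simp only [φ]
    split_ifs
    · exact memLocalRing_prod _ _ fun i _ => hf (t i)
    · exact memLocalRing_zero this.ne_top

/-- **Frobenius congruence for convolution powers.** For a conjugation-invariant predicate `C`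
and `n = p ^ m`: `∑_{x, C x} f^{*n}(x) ≡ ∑_{g, C (g^n)} f(g)^n` modulo the local ideal. -/
theorem frobenius_congr [DecidableEq G] (hM : IsPModular p M) (m : ℕ)
    {f : G → ℂ} (hf : IsRValued M f) (C : G → Prop) [DecidablePred C]
    (hC : ∀ u x, C (u * x * u⁻¹) ↔ C x) :
    MemLocalIdeal M ((∑ x, if C x then cpow f (p ^ m) x else 0) -
      ∑ g, if C (g ^ (p ^ m)) then f g ^ (p ^ m) else 0) := by
  obtain ⟨k, hk⟩ : ∃ k, p ^ m = k + 1 :=
    Nat.exists_eq_succ_of_ne_zero (pow_ne_zero _ hM.1.ne_zero)
  rw [hk]
  exact frobenius_congr_aux hM m k hk hf C hC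

end frobenius

end Cfsg.Agent.Helper75.CPow
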