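import Mathlib
import Cfsg.Agent.Lib.Helper75.FixKill

/-!
# Fixed-point kill, second version: a third alternative "cyclic Sylow 2-subgroup"

If `|C(P)|` is odd and `e = |N(P) : C(P)|` carries the full 2-part of `|G|` (`|P| = p`), then a Sylow
2-subgroup of `G` embeds in `Aut(P)`, which is cyclic, so `G` is not simple.
-/

set_option autoImplicit false

namespace Cfsg.Agent.Helper75.FixKill

open Nat MulAction Cfsg.Agent.Helper17 Cfsg.Agent.Helper17.Sieve

/-- a subgroup of `N(P)` meeting `C(P)` trivially is cyclic (`|P| = p`). -/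
theorem isCyclic_of_le_normalizer {G : Type*} [Group G] [Finite G] {p : ℕ} [hp : Fact p.Prime]
    (P : Sylow p G) (hP : Nat.card (P : Subgroup G) = p) (T : Subgroup G)
    (hTN : T ≤ Subgroup.normalizer ((P : Subgroup G) : Set G))
    (hTC : ∀ x ∈ T, x ∈ Subgroup.centralizer ((P : Subgroup G) : Set G) → x = 1) :
    IsCyclic ↥T := by
  have hcyc : IsCyclic ↥(P : Subgroup G) := isCyclic_of_prime_card hP
  have : Fact (Nat.card ↥(P : Subgroup G)).Prime := by rw [hP]; exact hp
  have hU : IsCyclic (ZMod (Nat.card ↥(P : Subgroup G)))ˣ := inferInstance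
  have hA : IsCyclic (MulAut ↥(P : Subgroup G)) :=
    isCyclic_of_injective (IsCyclic.mulAutMulEquiv ↥(P : Subgroup G)).toMonoidHom
      (IsCyclic.mulAutMulEquiv ↥(P : Subgroup G)).injective
  let hom : ↥T →* MulAut ↥(P : Subgroup G) :=
    (P : Subgroup G).normalizerMonoidHom.comp (Subgroup.inclusion hTN)
  apply isCyclic_of_injective hom
  rw [injective_iff_map_eq_one]
  intro x hx
  have hx' : Subgroup.inclusion hTN x ∈ (P : Subgroup G).normalizerMonoidHom.ker := hx
  rw [Subgroup.normalizerMonoidHom_ker, Subgroup.mem_subgroupOf] at hx'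
  have h1 : (x : G) = 1 := hTC x x.2 hx'
  exact Subtype.ext h1

/-- the cyclic Sylow 2-subgroup step. -/
theorem cyclic_absurd {G : Type*} [Group G] [Finite G] [IsSimpleGroup G] {p : ℕ}
    [hp : Fact p.Prime] (P : Sylow p G) (hP : Nat.card (P : Subgroup G) = p) (n a : ℕ)
    (hn0 : Nat.card G = n) (ha : 1 ≤ a)
    (h2a : 2 ^ a ∣ Nat.card ↥(Subgroup.normalizer ((P : Subgroup G) : Set G)))
    (hfull : ¬ 2 ^ (a + 1) ∣ n)
    (hodd : ¬ 2 ∣ Nat.card ↥(Subgroup.centralizer ((P : Subgroup G) : Set G)))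
    (hne : n ≠ 2 ^ a) : False := by
  have : Fact (Nat.Prime 2) := ⟨Nat.prime_two⟩
  obtain ⟨T, hTN, hTc⟩ := exists_subgroup_le_card
    (Subgroup.normalizer ((P : Subgroup G) : Set G)) 2 a h2a
  have hTC : ∀ x ∈ T, x ∈ Subgroup.centralizer ((P : Subgroup G) : Set G) → x = 1 := by
    intro x hxT hxC
    have h1 : orderOf x ∣ 2 ^ a := by
      rw [← hTc]; exact Subgroup.orderOf_dvd_natCard T hxT
    have h2 : orderOf x ∣ Nat.card ↥(Subgroup.centralizer ((P : Subgroup G) : Set G)) :=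
      Subgroup.orderOf_dvd_natCard _ hxC
    obtain ⟨k, -, hk⟩ := (Nat.dvd_prime_pow Nat.prime_two).mp h1
    rcases Nat.eq_zero_or_pos k with hk0 | hkpos
    · rw [hk0, pow_zero, orderOf_eq_one_iff] at hk
      exact hk
    · exfalso
      apply hodd
      refine dvd_trans ?_ h2
      rw [hk]
      exact dvd_pow_self 2 (by omega)
  have hTcyc : IsCyclic ↥T := isCyclic_of_le_normalizer P hP T hTN hTC
  have h2n : 2 ^ a ∣ Nat.card G := by
    rw [← hTc]; exact Subgroup.card_subgroup_dvd_card T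
  have hfac : (Nat.card G).factorization 2 = a := by
    have hpos : Nat.card G ≠ 0 := Nat.card_pos.ne'
    apply le_antisymm
    · by_contra hlt
      push Not at hlt
      apply hfull
      rw [← hn0]
      exact (Nat.Prime.pow_dvd_iff_le_factorization Nat.prime_two hpos).2 hlt
    · exact (Nat.Prime.pow_dvd_iff_le_factorization Nat.prime_two hpos).1 h2n
  let Q : Sylow 2 G := Sylow.ofCard T (by rw [hTc, hfac])
  have hQT : (Q : Subgroup G) = T := rfl
  have hQcyc : IsCyclic ↥(Q : Subgroup G) := hTcyc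
  have hmin : (Nat.card G).minFac = 2 := by
    rw [Nat.minFac_eq_two_iff]
    exact dvd_trans (dvd_pow_self 2 (by omega)) h2n
  have hle := IsCyclic.normalizer_le_centralizer hmin hQcyc
  apply not_normalizer_le_centralizer Q
  · rw [hQT, hTc]
    exact (Nat.one_lt_pow (by omega) (by norm_num)).ne'
  · rw [hQT, hTc, hn0]
    exact hne.symm
  · exact hle

/-- the second certificate: fixed points, link, or cyclic Sylow 2-subgroup. -/
def FixCert2 (p m : ℕ) : Prop :=
  ∀ d ∈ List.range (m + 1), d ∣ m → d % p = 1 → ¬ Bad (p ^ 1 * m) p 1 m d →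
    ∀ e ∈ List.range p, e ∣ p - 1 → e ≠ 1 → d * e ∣ p * m →
      (∃ r ∈ List.range (p * m / (d * e) + 1), r.Prime ∧ r ≠ p ∧ r ∣ p * m / (d * e) ∧
        ∀ f ∈ List.range d, ∀ m' ∈ List.range (p * m / d + 1),
          ¬ FixOK (p * m) p d (p * m / d) r f m') ∨
      (∃ q ∈ List.range (p * m / (d * e) + 1), q ∣ p * m / (d * e) ∧ LinkOK (p * m) p q) ∨
      (∃ a ∈ List.range (p * m + 1), 1 ≤ a ∧ 2 ^ a ∣ e ∧ ¬ 2 ^ (a + 1) ∣ p * m ∧
        ¬ 2 ∣ p * m / (d * e) ∧ p * m ≠ 2 ^ a)

instance (p m : ℕ) : Decidable (FixCert2 p m) := by unfold FixCert2; infer_instance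

/-- **fixed-point kill, second version**. -/
theorem fix_kill2.{u} {p m : ℕ} (hp : p.Prime) (hpm : ¬ p ∣ m) (hm1 : m ≠ 1)
    (h : FixCert2 p m) : NoSimple.{u} (p * m) := by
  intro G _ _ _ hna hn0
  have : Fact p.Prime := ⟨hp⟩
  have hn : Nat.card G = p ^ 1 * m := by rw [hn0, pow_one]
  have hppos : 0 < p := hp.pos
  have hm0 : m ≠ 0 := fun h0 => hpm (h0 ▸ dvd_zero p)
  obtain ⟨P⟩ : Nonempty (Sylow p G) := inferInstance
  have hPall : ∀ P : Sylow p G, Nat.card (P : Subgroup G) = p := by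
    intro P
    have h0 := sylow_card_eq P hn hpm
    rwa [pow_one] at h0
  have hPc : Nat.card (P : Subgroup G) = p := hPall P
  obtain ⟨hdm, hdp⟩ := sylow_count (G := G) hn hpm
  have hnb := not_bad hna p 1 m one_ne_zero hm1 hn hpm
  have hne := sylow_count_ne_one (G := G) hn hpm one_ne_zero hm1
  have hdpos : 0 < Nat.card (Sylow p G) := Nat.card_pos
  have hd1 : 1 < Nat.card (Sylow p G) := by omega
  have hNd := card_normalizer_mul_sylow_count P
  have hGp : Nat.card G ≠ p := by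
    rw [hn0]; intro h0
    have : p * m = p * 1 := by rw [h0, mul_one]
    exact hm1 (Nat.eq_of_mul_eq_mul_left hppos this)
  obtain ⟨e, he1, he2, he3⟩ := exists_e P hPc hGp
  set d := Nat.card (Sylow p G) with hd
  set N := Nat.card ↥(Subgroup.normalizer ((P : Subgroup G) : Set G)) with hN
  set c := Nat.card ↥(Subgroup.centralizer ((P : Subgroup G) : Set G)) with hc
  have hdle : d ≤ m := Nat.le_of_dvd (Nat.pos_of_ne_zero hm0) hdm
  have hele : e < p := by
    have h0 : e ≤ p - 1 := Nat.le_of_dvd (by have := hp.two_le; omega) he1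
    omega
  have hced : c * (d * e) = p * m := by
    rw [← hn0, ← hNd, ← he3]; ring
  have hde : d * e ∣ p * m := ⟨c, by rw [← hced]; ring⟩
  have hepos : 0 < e := Nat.pos_of_dvd_of_pos he1 (by have := hp.two_le; omega)
  have hcdiv : p * m / (d * e) = c := by
    rw [← hced]; exact Nat.mul_div_cancel _ (Nat.mul_pos hdpos hepos)
  have hNdiv : p * m / d = N := by
    rw [← hn0, ← hNd]; exact Nat.mul_div_cancel _ hdpos
  rcases h d (List.mem_range.2 (by omega)) hdm hdp hnb e (List.mem_range.2 hele) he1 he2 hde with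
    ⟨r, -, hrp, hrne, hrc, hall⟩ | ⟨q, -, hqc, hL⟩ | ⟨a, -, ha1, hae, hfull, hodd, hne2⟩
  · have : Fact r.Prime := ⟨hrp⟩
    rw [hcdiv] at hrc
    have h2 : 2 < Nat.card G := by
      rw [hn0]
      have h3 : 2 ≤ p := hp.two_le
      have h4 : 2 ≤ m := by omega
      nlinarith
    obtain ⟨f, m', hfix⟩ := exists_fix h2 (Ne.symm hrne) P hPc hd1 hrc
    rw [hn0] at hfix
    have hfd : f < d := hfix.2.2.2.2.1
    have hm'N : m' ≤ N := hfix.1
    refine hall f (List.mem_range.2 hfd) m' (List.mem_range.2 (by rw [hNdiv]; omega)) ?_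
    rw [hNdiv]
    exact hfix
  · rw [hcdiv] at hqc
    exact link_absurd hna hn0 P hPall hqc hL
  · rw [hcdiv] at hodd
    refine cyclic_absurd P hPc (p * m) a hn0 ha1 ?_ hfull hodd hne2
    rw [← hN, ← he3]
    exact dvd_trans hae (dvd_mul_left e c)

end Cfsg.Agent.Helper75.FixKill
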