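import Mathlib
import Cfsg.Agent.S0215
import Cfsg.Agent.Lib.Helper75.FixKill

/-!
# No simple group of order 3960 = 2^3 * 3^2 * 5 * 11 (exercise order for S0983, helper75)

`n_11 = 45`, `|N(P)| = 88`, `|C(P)| = 44`.  A subgroup `T ≤ C(P)` of order 4 lies in a subgroup
`S ≤ N(P)` of order 8 (a Sylow 2-subgroup of `G`), and some involution `u ∈ T` commutes with `S`.
`u` fixes exactly one Sylow 11-subgroup (`1 mod 11`, `45 = 1 mod 4`), `N(P) ≤ C(u)` by orders, so `u`
is isolated in `S`: Glauberman's `Z*`-theorem (S0215).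
-/

set_option autoImplicit false

namespace Cfsg.Agent.Helper75.SV

open MulAction Cfsg.Agent.Helper17 Cfsg.Agent.Helper17.Sieve Cfsg.Agent.Helper75.FixKill

section Generic

variable {G : Type*} [Group G] [Finite G]

/-- a nonabelian simple group has no isolated involution (Glauberman `Z*`, S0215). -/
theorem isolated_absurd [IsSimpleGroup G] (hna : ¬ IsMulCommutative G) (S : Sylow 2 G) (u : G)
    (hu : orderOf u = 2) (huS : u ∈ S) (hiso : ∀ g : G, g * u * g⁻¹ ∈ S → g * u * g⁻¹ = u) :
    False := by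
  obtain ⟨N, hN, hodd, hcomm⟩ := Cfsg.Agent.S0215.result S u hu huS hiso
  have h2 : 2 ∣ Nat.card G := by rw [← hu]; exact orderOf_dvd_natCard u
  rcases hN.eq_bot_or_eq_top with h | h
  · have hcen : u ∈ Subgroup.center G := by
      rw [Subgroup.mem_center_iff]
      intro g
      have h1 := hcomm g
      rw [h, Subgroup.mem_bot] at h1
      have h3 : u * g = g * u := by
        have h4 : u * g * u⁻¹ = g := by
          have := mul_inv_eq_one.1 h1
          exact this
        calc u * g = u * g * u⁻¹ * u := by group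
          _ = g * u := by rw [h4]
      exact h3.symm
    rcases (inferInstance : (Subgroup.center G).Normal).eq_bot_or_eq_top with hc | hc
    · rw [hc, Subgroup.mem_bot] at hcen
      rw [hcen, orderOf_one] at hu
      omega
    · apply hna
      refine ⟨⟨fun a b => ?_⟩⟩
      have ha : a ∈ Subgroup.center G := by rw [hc]; exact Subgroup.mem_top a
      rw [Subgroup.mem_center_iff] at ha
      exact (ha b).symm
  · rw [h] at hodd
    have h3 : Nat.card (⊤ : Subgroup G) = Nat.card G := Subgroup.card_top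
    rw [h3] at hodd
    exact (Nat.not_even_iff_odd.2 hodd) (even_iff_two_dvd.2 h2)

omit [Finite G] in
/-- an involution fixing only `P` on `Syl_p` and central in `N(P)` is isolated in any Sylow
2-subgroup contained in `N(P)`. -/
theorem iso_of_fix_one {p : ℕ} [Fact p.Prime] (P : Sylow p G) (S : Sylow 2 G)
    (hSN : (S : Subgroup G) ≤ Subgroup.normalizer ((P : Subgroup G) : Set G)) (u : G)
    (hfix : ∀ Q : Sylow p G, u • Q = Q → Q = P)
    (hcent : ∀ g ∈ Subgroup.normalizer ((P : Subgroup G) : Set G), g * u * g⁻¹ = u) :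
    ∀ g : G, g * u * g⁻¹ ∈ S → g * u * g⁻¹ = u := by
  intro g hg
  have h1 : (g * u * g⁻¹) • P = P := Sylow.smul_eq_iff_mem_normalizer.2 (hSN hg)
  have h2 : u • (g⁻¹ • P) = g⁻¹ • P := by
    have h3 : g⁻¹ • ((g * u * g⁻¹) • P) = g⁻¹ • P := by rw [h1]
    rw [← mul_smul] at h3
    rw [← mul_smul]
    have h4 : g⁻¹ * (g * u * g⁻¹) = u * g⁻¹ := by group
    rw [h4] at h3
    exact h3
  have h5 : g⁻¹ • P = P := hfix _ h2
  have h6 : g⁻¹ ∈ Subgroup.normalizer ((P : Subgroup G) : Set G) :=
    Sylow.smul_eq_iff_mem_normalizer.1 h5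
  have h7 : g ∈ Subgroup.normalizer ((P : Subgroup G) : Set G) := by
    have := Subgroup.inv_mem _ h6
    rwa [inv_inv] at this
  exact hcent g h7

/-- a subgroup `T` of order 4 of a group `S` of order 8 contains an involution commuting with `S`. -/
theorem exists_central_involution (S T : Subgroup G) (hTS : T ≤ S) (hS : Nat.card S = 8)
    (hT : Nat.card T = 4) : ∃ u ∈ T, orderOf u = 2 ∧ ∀ s ∈ S, s * u = u * s := by
  have : Fact (Nat.Prime 2) := ⟨Nat.prime_two⟩
  -- `T` is abelian
  have hTcomm : IsMulCommutative ↥T :=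
    IsPGroup.isMulCommutative_of_card_eq_prime_sq (p := 2) (by rw [hT]; norm_num)
  have hTC : T ≤ Subgroup.centralizer (T : Set G) :=
    Subgroup.le_centralizer_iff_isMulCommutative.2 hTcomm
  have hTab : ∀ a ∈ T, ∀ b ∈ T, a * b = b * a := by
    intro a ha b hb
    have h1 := hTC hb
    rw [Subgroup.mem_centralizer_iff] at h1
    exact h1 a ha
  -- a central involution `z` of `S`
  have hS8 : Nat.card ↥S = 2 ^ 3 := by rw [hS]; norm_num
  obtain ⟨k, hk0, hk⟩ := IsPGroup.card_center_eq_prime_pow (p := 2) hS8 (by norm_num)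
  have h2c : 2 ∣ Nat.card ↥(Subgroup.center ↥S) := by
    rw [hk]; exact dvd_pow_self 2 (by omega)
  obtain ⟨z'', hz''⟩ := exists_prime_orderOf_dvd_card' (G := ↥(Subgroup.center ↥S)) 2 h2c
  have hz'S : orderOf (z'' : ↥S) = 2 := by rw [Subgroup.orderOf_coe]; exact hz''
  have hzo : orderOf (((z'' : ↥S) : G)) = 2 := by rw [Subgroup.orderOf_coe]; exact hz'S
  have hzS : ((z'' : ↥S) : G) ∈ S := (z'' : ↥S).2
  have hzc : ∀ s ∈ S, s * ((z'' : ↥S) : G) = ((z'' : ↥S) : G) * s := by
    intro s hs
    have h1 := Subgroup.mem_center_iff.1 z''.2 ⟨s, hs⟩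
    exact congrArg Subtype.val h1
  set z : G := ((z'' : ↥S) : G) with hzdef
  by_cases hzT : z ∈ T
  · exact ⟨z, hzT, hzo, hzc⟩
  · -- `S = T ∪ zT`, so `S` is abelian-like over `T`
    obtain ⟨u', hu'⟩ := exists_prime_orderOf_dvd_card' (G := ↥T) 2 (by rw [hT]; norm_num)
    have huo : orderOf (u' : G) = 2 := by rw [Subgroup.orderOf_coe]; exact hu'
    refine ⟨(u' : G), u'.2, huo, ?_⟩
    have hidx : (T.subgroupOf S).index = 2 := by
      have h1 := Subgroup.card_mul_index (T.subgroupOf S)
      have h2 : Nat.card ↥(T.subgroupOf S) = 4 := by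
        rw [← hT]
        exact Nat.card_congr (Subgroup.subgroupOfEquivOfLe hTS).toEquiv
      rw [h2, hS] at h1
      omega
    intro s hs
    by_cases hsT : s ∈ T
    · exact hTab s hsT u' u'.2
    · have h1 : (⟨s, hs⟩ : ↥S) * ⟨z, hzS⟩ ∈ T.subgroupOf S := by
        rw [Subgroup.mul_mem_iff_of_index_two hidx]
        constructor
        · intro h; exact absurd (Subgroup.mem_subgroupOf.1 h) hsT
        · intro h; exact absurd (Subgroup.mem_subgroupOf.1 h) hzT
      have h2 : s * z ∈ T := Subgroup.mem_subgroupOf.1 h1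
      have h3 : s * z * (u' : G) = (u' : G) * (s * z) := hTab _ h2 _ u'.2
      have h4 : (u' : G) * z = z * (u' : G) := hzc _ (hTS u'.2)
      have h5 : s * (u' : G) * z = (u' : G) * s * z := by
        calc s * (u' : G) * z = s * ((u' : G) * z) := by rw [mul_assoc]
          _ = s * (z * (u' : G)) := by rw [h4]
          _ = s * z * (u' : G) := by rw [mul_assoc]
          _ = (u' : G) * (s * z) := h3
          _ = (u' : G) * s * z := by rw [mul_assoc]
      exact mul_right_cancel h5

end Generic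

/-- no nonabelian simple group of order `3960 = 2^3 * 3^2 * 5 * 11`. -/
theorem no_3960.{u} : NoSimple.{u} 3960 := by
  intro G _ _ _ hna hn
  have : Fact (Nat.Prime 11) := ⟨by norm_num⟩
  have : Fact (Nat.Prime 2) := ⟨Nat.prime_two⟩
  have hn' : Nat.card G = 11 ^ 1 * 360 := by rw [hn]; norm_num
  obtain ⟨P⟩ : Nonempty (Sylow 11 G) := inferInstance
  have hPc : Nat.card (P : Subgroup G) = 11 := by
    have h0 := sylow_card_eq P hn' (by norm_num)
    simpa using h0
  obtain ⟨hdm, hdp⟩ := sylow_count (G := G) (p := 11) hn' (by norm_num)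
  have hnb := not_bad hna 11 1 360 one_ne_zero (by norm_num) hn' (by norm_num)
  have hne := sylow_count_ne_one (G := G) (p := 11) hn' (by norm_num) one_ne_zero (by norm_num)
  have hNd := card_normalizer_mul_sylow_count P
  have h45 : Nat.card (Sylow 11 G) = 45 := by
    have hle : Nat.card (Sylow 11 G) ≤ 360 := Nat.le_of_dvd (by norm_num) hdm
    generalize Nat.card (Sylow 11 G) = d at *
    obtain ⟨q, rfl⟩ : ∃ q, d = 11 * q + 1 := ⟨d / 11, by omega⟩
    have hq : q ≤ 32 := by omega
    interval_cases q <;> first | omega | (exfalso; exact hnb (by decide))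
  have hN : Nat.card ↥(Subgroup.normalizer ((P : Subgroup G) : Set G)) = 88 := by
    rw [h45, hn] at hNd
    omega
  obtain ⟨e, he1, he2, he3⟩ := exists_e P hPc (by rw [hn]; norm_num)
  have hC : Nat.card ↥(Subgroup.centralizer ((P : Subgroup G) : Set G)) = 44 := by
    rw [hN] at he3
    have hle : e ≤ 10 := Nat.le_of_dvd (by norm_num) he1
    have hpos : 0 < e := Nat.pos_of_dvd_of_pos he1 (by norm_num)
    have h11 : 11 ∣ Nat.card ↥(Subgroup.centralizer ((P : Subgroup G) : Set G)) := by
      have hcyc : IsCyclic ↥(P : Subgroup G) := isCyclic_of_prime_card hPc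
      have hcomm : IsMulCommutative ↥(P : Subgroup G) := ⟨⟨IsCyclic.commGroup.mul_comm⟩⟩
      have hPC : (P : Subgroup G) ≤ Subgroup.centralizer ((P : Subgroup G) : Set G) :=
        Subgroup.le_centralizer_iff_isMulCommutative.2 hcomm
      conv_lhs => rw [← hPc]
      exact Subgroup.card_dvd_of_le hPC
    obtain ⟨c, hc⟩ := h11
    rw [hc] at he3 ⊢
    interval_cases e <;> omega
  -- the subgroups `T ≤ S`
  obtain ⟨T, hTC, hTc⟩ := exists_subgroup_le_card
    (Subgroup.centralizer ((P : Subgroup G) : Set G)) 2 2 (by rw [hC]; norm_num)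
  have hTN : T ≤ Subgroup.normalizer ((P : Subgroup G) : Set G) :=
    hTC.trans (Subgroup.centralizer_le_normalizer _)
  have hT4 : Nat.card ↥T = 4 := by rw [hTc]; norm_num
  obtain ⟨K, hKc, hK⟩ := Sylow.exists_subgroup_card_pow_prime_le (n := 2) (m := 3) 2
    (G := ↥(Subgroup.normalizer ((P : Subgroup G) : Set G))) (by rw [hN]; norm_num)
    (T.subgroupOf (Subgroup.normalizer ((P : Subgroup G) : Set G)))
    (by rw [← hTc]; exact Nat.card_congr (Subgroup.subgroupOfEquivOfLe hTN).toEquiv) (by norm_num)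
  set S0 : Subgroup G := K.map (Subgroup.normalizer ((P : Subgroup G) : Set G)).subtype with hS0
  have hS0c : Nat.card ↥S0 = 8 := by
    rw [hS0, Subgroup.card_map_of_injective (Subgroup.subtype_injective _), hKc]; norm_num
  have hS0N : S0 ≤ Subgroup.normalizer ((P : Subgroup G) : Set G) := by
    rw [hS0]
    exact Subgroup.map_subtype_le K
  have hTS0 : T ≤ S0 := by
    intro x hx
    rw [hS0, Subgroup.mem_map]
    exact ⟨⟨x, hTN hx⟩, hK (Subgroup.mem_subgroupOf.2 hx), rfl⟩
  have hfac : (Nat.card G).factorization 2 = 3 := by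
    rw [hn, show (3960 : ℕ) = 2 ^ 3 * 495 by norm_num,
      Nat.factorization_mul (by norm_num) (by norm_num), Nat.Prime.factorization_pow Nat.prime_two]
    simp [Nat.factorization_eq_zero_of_not_dvd (show ¬ 2 ∣ 495 by norm_num)]
  let S : Sylow 2 G := Sylow.ofCard S0 (by rw [hS0c, hfac]; norm_num)
  have hSS0 : (S : Subgroup G) = S0 := rfl
  obtain ⟨u, huT, huo, hucomm⟩ := exists_central_involution S0 T hTS0 hS0c hT4
  have huC : u ∈ Subgroup.centralizer ((P : Subgroup G) : Set G) := hTC huT
  have hu1 : u ≠ 1 := Cfsg.Agent.S1017.ne_one_of_orderOf_prime u Nat.prime_two huo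
  -- `u` fixes exactly one Sylow 11-subgroup
  have hf1 : Nat.card (fixedBy (Sylow 11 G) u) = 1 := by
    have h0 := Cfsg.Agent.S1017.card_fixedBy_sylow_modEq P hPc u huC
    have h1 := Cfsg.Agent.S1017.card_fixedBy_mod_four (G := G) (by rw [hn]; norm_num)
      (α := Sylow 11 G) u huo
    have h2 := Cfsg.Agent.S1017.card_fixedBy_le (α := Sylow 11 G) u
    have h3 := Cfsg.Agent.S1017.card_fixedBy_ne (α := Sylow 11 G)
      (Cfsg.Agent.S1017.sylow_action_nontrivial (by rw [h45]; norm_num)) u hu1
    rw [h45] at h1 h2 h3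
    unfold Nat.ModEq at h0 h1
    omega
  have hfix : ∀ Q : Sylow 11 G, u • Q = Q → Q = P := by
    intro Q hQ
    have hsub := (Nat.card_eq_one_iff_unique.1 hf1).1
    have hPfix : u • P = P :=
      Sylow.smul_eq_iff_mem_normalizer.2 (Subgroup.centralizer_le_normalizer _ huC)
    have := hsub.elim (⟨Q, hQ⟩ : fixedBy (Sylow 11 G) u) ⟨P, hPfix⟩
    exact congrArg Subtype.val this
  -- `N(P) ≤ C(u)`
  have hcent : ∀ g ∈ Subgroup.normalizer ((P : Subgroup G) : Set G), g * u * g⁻¹ = u := by
    set M := Subgroup.normalizer ((P : Subgroup G) : Set G) ⊓ Subgroup.centralizer ({u} : Set G)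
      with hM
    have hPM : (P : Subgroup G) ≤ M :=
      le_inf Subgroup.le_normalizer ((Cfsg.Agent.S1017.le_centralizer_singleton_iff _ u).2 huC)
    have hSM : S0 ≤ M := by
      refine le_inf hS0N ?_
      intro s hs
      rw [Subgroup.mem_centralizer_iff]
      intro y hy
      rw [Set.mem_singleton_iff] at hy
      rw [hy]
      exact (hucomm s hs).symm
    have h11 : 11 ∣ Nat.card ↥M := by
      conv_lhs => rw [← hPc]
      exact Subgroup.card_dvd_of_le hPM
    have h8 : 8 ∣ Nat.card ↥M := by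
      conv_lhs => rw [← hS0c]
      exact Subgroup.card_dvd_of_le hSM
    have h88 : 88 ∣ Nat.card ↥M :=
      (show Nat.Coprime 11 8 by norm_num).mul_dvd_of_dvd_of_dvd h11 h8
    have hMle : M ≤ Subgroup.normalizer ((P : Subgroup G) : Set G) := inf_le_left
    have hMeq : M = Subgroup.normalizer ((P : Subgroup G) : Set G) :=
      Subgroup.eq_of_le_of_card_ge hMle (by rw [hN]; exact Nat.le_of_dvd Nat.card_pos h88)
    intro g hg
    rw [← hMeq] at hg
    have hgC : g ∈ Subgroup.centralizer ({u} : Set G) := hg.2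
    rw [Subgroup.mem_centralizer_iff] at hgC
    have h1 : u * g = g * u := hgC u (Set.mem_singleton u)
    calc g * u * g⁻¹ = u * g * g⁻¹ := by rw [h1]
      _ = u := by group
  have hiso := iso_of_fix_one P S (by rw [hSS0]; exact hS0N) u hfix hcent
  exact isolated_absurd hna S u huo (by show u ∈ (S : Subgroup G); rw [hSS0]; exact hTS0 huT) hiso

end Cfsg.Agent.Helper75.SV
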