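import Mathlib
import Cfsg.Agent.S0215
import Cfsg.Agent.Lib.Helper75.FixKill2
import Cfsg.Agent.Lib.Helper75.SV3960

/-!
# Fixed-point kill, third version: a fourth alternative "isolated involution"

If `|C(P)| = 2 * odd`, `N(P)` contains a Sylow 2-subgroup of `G`, and the fixed-point congruences
force an involution `u ∈ C(P)` to fix only `P` on `Syl_p(G)`, then `u` is isolated in a Sylow
2-subgroup `S ≤ N(P)` (`g u g⁻¹ ∈ S` gives `g ∈ N(P)`, so `g u g⁻¹ ∈ S ∩ C(P) = ⟨u⟩`), and Glauberman's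
`Z*`-theorem (S0215) shows that `G` is not simple.
-/

set_option autoImplicit false

namespace Cfsg.Agent.Helper75.FixKill

open Nat MulAction Cfsg.Agent.Helper17 Cfsg.Agent.Helper17.Sieve Cfsg.Agent.Helper75.SV

/-- fixed-point data of a given element `u` of prime order `r ≠ p` in `C(P)`. -/
theorem fixOK_of_mem {G : Type*} [Group G] [Finite G] [IsSimpleGroup G] (h2 : 2 < Nat.card G)
    {p r : ℕ} [hp : Fact p.Prime] [hr : Fact r.Prime] (hpr : p ≠ r) (P : Sylow p G)
    (hP : Nat.card (P : Subgroup G) = p) (hd1 : 1 < Nat.card (Sylow p G)) (u : G)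
    (hu : orderOf u = r) (huC : u ∈ Subgroup.centralizer ((P : Subgroup G) : Set G)) :
    FixOK (Nat.card G) p (Nat.card (Sylow p G))
      (Nat.card (Subgroup.normalizer ((P : Subgroup G) : Set G))) r
      (Nat.card (fixedBy (Sylow p G) u))
      (Nat.card ↥(Subgroup.normalizer ((P : Subgroup G) : Set G) ⊓
        Subgroup.centralizer ({u} : Set G))) := by
  have hu1 : u ≠ 1 := Cfsg.Agent.S1017.ne_one_of_orderOf_prime u hr.out hu
  refine ⟨?_, ?_, ?_, ?_, ?_, ?_⟩
  · exact Subgroup.card_le_of_le inf_le_left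
  · have h0 := Cfsg.Agent.S1017.card_fixedBy_sylow_modEq P hP u huC
    rw [Nat.ModEq, Nat.mod_eq_of_lt hp.out.one_lt] at h0
    exact h0
  · have h0 := Cfsg.Agent.S1017.card_modEq_card_fixedBy (α := Sylow p G) u hu
    exact h0.symm
  · intro hr2
    subst hr2
    exact Cfsg.Agent.S1017.card_fixedBy_mod_four h2 u hu
  · have hle := Cfsg.Agent.S1017.card_fixedBy_le (α := Sylow p G) u
    have hne := Cfsg.Agent.S1017.card_fixedBy_ne (α := Sylow p G)
      (Cfsg.Agent.S1017.sylow_action_nontrivial hd1) u hu1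
    omega
  · intro hbig
    have hcard := Cfsg.Agent.S1017.card_centralizer_eq P hP u huC hbig
    refine ⟨?_, ?_, ?_⟩
    · have hPle : (P : Subgroup G) ≤ Subgroup.normalizer ((P : Subgroup G) : Set G) ⊓
          Subgroup.centralizer ({u} : Set G) :=
        le_inf Subgroup.le_normalizer ((Cfsg.Agent.S1017.le_centralizer_singleton_iff _ u).2 huC)
      have hpd : p ∣ Nat.card ↥(Subgroup.normalizer ((P : Subgroup G) : Set G) ⊓
          Subgroup.centralizer ({u} : Set G)) := by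
        conv_lhs => rw [← hP]
        exact Subgroup.card_dvd_of_le hPle
      have humem : u ∈ Subgroup.normalizer ((P : Subgroup G) : Set G) ⊓
          Subgroup.centralizer ({u} : Set G) := by
        refine ⟨Subgroup.centralizer_le_normalizer _ huC, ?_⟩
        show u ∈ Subgroup.centralizer ({u} : Set G)
        rw [Subgroup.mem_centralizer_iff]
        intro y hy
        rw [Set.mem_singleton_iff] at hy
        rw [hy]
      have hrd : r ∣ Nat.card ↥(Subgroup.normalizer ((P : Subgroup G) : Set G) ⊓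
          Subgroup.centralizer ({u} : Set G)) := by
        rw [← hu]
        exact Subgroup.orderOf_dvd_natCard _ humem
      have hcop : Nat.Coprime p r := (Nat.coprime_primes hp.out hr.out).2 hpr
      exact hcop.mul_dvd_of_dvd_of_dvd hpd hrd
    · exact Subgroup.card_dvd_of_le inf_le_left
    · rw [← hcard]
      exact Subgroup.card_subgroup_dvd_card _

/-- the isolated involution step. -/
theorem iso_absurd {G : Type*} [Group G] [Finite G] [IsSimpleGroup G] (hna : ¬ IsMulCommutative G)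
    {p : ℕ} [hp : Fact p.Prime] (hp2 : p ≠ 2) (P : Sylow p G)
    (hP : Nat.card (P : Subgroup G) = p) (n a : ℕ) (hn0 : Nat.card G = n) (h2G : 2 < n)
    (hd1 : 1 < Nat.card (Sylow p G)) (ha : 1 ≤ a)
    (h2a : 2 ^ a ∣ Nat.card ↥(Subgroup.normalizer ((P : Subgroup G) : Set G)))
    (hfull : ¬ 2 ^ (a + 1) ∣ n)
    (h2c : 2 ∣ Nat.card ↥(Subgroup.centralizer ((P : Subgroup G) : Set G)))
    (h4c : ¬ 4 ∣ Nat.card ↥(Subgroup.centralizer ((P : Subgroup G) : Set G)))
    (hcert : ∀ f ∈ List.range (Nat.card (Sylow p G)), f ≠ 1 →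
      ∀ m' ∈ List.range (Nat.card ↥(Subgroup.normalizer ((P : Subgroup G) : Set G)) + 1),
        ¬ FixOK n p (Nat.card (Sylow p G))
          (Nat.card ↥(Subgroup.normalizer ((P : Subgroup G) : Set G))) 2 f m') : False := by
  have : Fact (Nat.Prime 2) := ⟨Nat.prime_two⟩
  obtain ⟨u', hu'⟩ := exists_prime_orderOf_dvd_card'
    (G := ↥(Subgroup.centralizer ((P : Subgroup G) : Set G))) 2 h2c
  have huo : orderOf (u' : G) = 2 := by rw [Subgroup.orderOf_coe]; exact hu'
  have huC : (u' : G) ∈ Subgroup.centralizer ((P : Subgroup G) : Set G) := u'.2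
  set u : G := (u' : G) with hudef
  have hu1 : u ≠ 1 := Cfsg.Agent.S1017.ne_one_of_orderOf_prime u Nat.prime_two huo
  have huN : u ∈ Subgroup.normalizer ((P : Subgroup G) : Set G) :=
    Subgroup.centralizer_le_normalizer _ huC
  -- `u` fixes exactly one Sylow `p`-subgroup
  have hfixOK := fixOK_of_mem (by rw [hn0]; exact h2G) hp2 P hP hd1 u huo huC
  rw [hn0] at hfixOK
  have hf1 : Nat.card (fixedBy (Sylow p G) u) = 1 := by
    by_contra hne
    have hfd : Nat.card (fixedBy (Sylow p G) u) < Nat.card (Sylow p G) := hfixOK.2.2.2.2.1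
    have hm'N := hfixOK.1
    exact hcert _ (List.mem_range.2 hfd) hne _ (List.mem_range.2 (by omega)) hfixOK
  have hfix : ∀ Q : Sylow p G, u • Q = Q → Q = P := by
    intro Q hQ
    have hsub := (Nat.card_eq_one_iff_unique.1 hf1).1
    have hPfix : u • P = P := Sylow.smul_eq_iff_mem_normalizer.2 huN
    have := hsub.elim (⟨Q, hQ⟩ : fixedBy (Sylow p G) u) ⟨P, hPfix⟩
    exact congrArg Subtype.val this
  -- a Sylow 2-subgroup `S ≤ N(P)` containing `u`
  have hzN : Subgroup.zpowers u ≤ Subgroup.normalizer ((P : Subgroup G) : Set G) := by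
    rw [Subgroup.zpowers_le]; exact huN
  obtain ⟨K, hKc, hK⟩ := Sylow.exists_subgroup_card_pow_prime_le (n := 1) (m := a) 2
    (G := ↥(Subgroup.normalizer ((P : Subgroup G) : Set G))) h2a
    ((Subgroup.zpowers u).subgroupOf (Subgroup.normalizer ((P : Subgroup G) : Set G)))
    (by
      rw [pow_one, ← huo, ← Nat.card_zpowers]
      exact Nat.card_congr (Subgroup.subgroupOfEquivOfLe hzN).toEquiv) ha
  set S0 : Subgroup G := K.map (Subgroup.normalizer ((P : Subgroup G) : Set G)).subtype with hS0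
  have hS0c : Nat.card ↥S0 = 2 ^ a := by
    rw [hS0, Subgroup.card_map_of_injective (Subgroup.subtype_injective _), hKc]
  have hS0N : S0 ≤ Subgroup.normalizer ((P : Subgroup G) : Set G) := by
    rw [hS0]
    exact Subgroup.map_subtype_le K
  have huS0 : u ∈ S0 := by
    rw [hS0, Subgroup.mem_map]
    exact ⟨⟨u, huN⟩, hK (Subgroup.mem_subgroupOf.2 (Subgroup.mem_zpowers u)), rfl⟩
  have h2n : 2 ^ a ∣ Nat.card G := by
    rw [← hS0c]; exact Subgroup.card_subgroup_dvd_card S0
  have hfac : (Nat.card G).factorization 2 = a := by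
    have hpos : Nat.card G ≠ 0 := Nat.card_pos.ne'
    apply le_antisymm
    · by_contra hlt
      push Not at hlt
      apply hfull
      rw [← hn0]
      exact (Nat.Prime.pow_dvd_iff_le_factorization Nat.prime_two hpos).2 hlt
    · exact (Nat.Prime.pow_dvd_iff_le_factorization Nat.prime_two hpos).1 h2n
  let S : Sylow 2 G := Sylow.ofCard S0 (by rw [hS0c, hfac])
  have hSS0 : (S : Subgroup G) = S0 := rfl
  -- `S ∩ C(P)` has order 2
  set W : Subgroup G := S0 ⊓ Subgroup.centralizer ((P : Subgroup G) : Set G) with hW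
  have huW : u ∈ W := ⟨huS0, huC⟩
  have hWc : Nat.card ↥W = 2 := by
    have h1 : Nat.card ↥W ∣ 2 ^ a := by
      rw [← hS0c]; exact Subgroup.card_dvd_of_le inf_le_left
    have h2 : Nat.card ↥W ∣ Nat.card ↥(Subgroup.centralizer ((P : Subgroup G) : Set G)) :=
      Subgroup.card_dvd_of_le inf_le_right
    obtain ⟨j, -, hj⟩ := (Nat.dvd_prime_pow Nat.prime_two).mp h1
    have hj1 : j ≤ 1 := by
      by_contra hlt
      push Not at hlt
      apply h4c
      refine dvd_trans ?_ h2
      rw [hj]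
      exact pow_dvd_pow 2 hlt
    have hj0 : j ≠ 0 := by
      rintro rfl
      rw [pow_zero] at hj
      have hsub : Subsingleton ↥W := (Nat.card_eq_one_iff_unique.1 hj).1
      have h3 : (⟨u, huW⟩ : ↥W) = 1 := Subsingleton.elim _ _
      exact hu1 (congrArg Subtype.val h3)
    have : j = 1 := by omega
    rw [hj, this, pow_one]
  -- isolation
  have hiso : ∀ g : G, g * u * g⁻¹ ∈ S → g * u * g⁻¹ = u := by
    intro g hg
    have hgS0 : g * u * g⁻¹ ∈ S0 := hg
    have h1 : (g * u * g⁻¹) • P = P := Sylow.smul_eq_iff_mem_normalizer.2 (hS0N hgS0)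
    have h2 : u • (g⁻¹ • P) = g⁻¹ • P := by
      have h3 : g⁻¹ • ((g * u * g⁻¹) • P) = g⁻¹ • P := by rw [h1]
      rw [← mul_smul] at h3
      rw [← mul_smul]
      have h4 : g⁻¹ * (g * u * g⁻¹) = u * g⁻¹ := by group
      rw [h4] at h3
      exact h3
    have h5 : g⁻¹ • P = P := hfix _ h2
    have h6 : g⁻¹ ∈ Subgroup.normalizer ((P : Subgroup G) : Set G) :=
      Sylow.smul_eq_iff_mem_normalizer.1 h5
    -- `g u g⁻¹ ∈ C(P)`
    have hxC : g * u * g⁻¹ ∈ Subgroup.centralizer ((P : Subgroup G) : Set G) := by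
      rw [Subgroup.mem_centralizer_iff]
      intro y hy
      have hy' : g⁻¹ * y * g⁻¹⁻¹ ∈ (P : Subgroup G) :=
        (Subgroup.mem_normalizer_iff.1 h6 y).1 hy
      rw [inv_inv] at hy'
      have hc := (Subgroup.mem_centralizer_iff.1 huC) _ hy'
      -- hc : g⁻¹ * y * g * u = u * (g⁻¹ * y * g)
      calc y * (g * u * g⁻¹) = g * (g⁻¹ * y * g * u) * g⁻¹ := by group
        _ = g * (u * (g⁻¹ * y * g)) * g⁻¹ := by rw [hc]
        _ = g * u * g⁻¹ * y := by group
    have hxW : g * u * g⁻¹ ∈ W := ⟨hgS0, hxC⟩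
    have hx1 : g * u * g⁻¹ ≠ 1 := by
      intro h
      apply hu1
      have : u = g⁻¹ * (g * u * g⁻¹) * g := by group
      rw [this, h]; group
    obtain ⟨w, -, hw⟩ := (Nat.card_eq_two_iff' (1 : ↥W)).1 hWc
    have e1 : (⟨g * u * g⁻¹, hxW⟩ : ↥W) = w :=
      hw _ (fun h => hx1 (congrArg Subtype.val h))
    have e2 : (⟨u, huW⟩ : ↥W) = w := hw _ (fun h => hu1 (congrArg Subtype.val h))
    exact congrArg Subtype.val (e1.trans e2.symm)
  exact isolated_absurd hna S u huo (by show u ∈ (S : Subgroup G); rw [hSS0]; exact huS0) hiso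

/-- the third certificate: fixed points, link, cyclic Sylow 2-subgroup, or isolated involution. -/
def FixCert3 (p m : ℕ) : Prop :=
  ∀ d ∈ List.range (m + 1), d ∣ m → d % p = 1 → ¬ Bad (p ^ 1 * m) p 1 m d →
    ∀ e ∈ List.range p, e ∣ p - 1 → e ≠ 1 → d * e ∣ p * m →
      (∃ r ∈ List.range (p * m / (d * e) + 1), r.Prime ∧ r ≠ p ∧ r ∣ p * m / (d * e) ∧
        ∀ f ∈ List.range d, ∀ m' ∈ List.range (p * m / d + 1),
          ¬ FixOK (p * m) p d (p * m / d) r f m') ∨
      (∃ q ∈ List.range (p * m / (d * e) + 1), q ∣ p * m / (d * e) ∧ LinkOK (p * m) p q) ∨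
      (∃ a ∈ List.range 20, 1 ≤ a ∧ 2 ^ a ∣ e ∧ ¬ 2 ^ (a + 1) ∣ p * m ∧
        ¬ 2 ∣ p * m / (d * e) ∧ p * m ≠ 2 ^ a) ∨
      (∃ a ∈ List.range 20, 1 ≤ a ∧ 2 ^ a ∣ p * m / d ∧ ¬ 2 ^ (a + 1) ∣ p * m ∧
        2 ∣ p * m / (d * e) ∧ ¬ 4 ∣ p * m / (d * e) ∧ p ≠ 2 ∧
        ∀ f ∈ List.range d, f ≠ 1 → ∀ m' ∈ List.range (p * m / d + 1),
          ¬ FixOK (p * m) p d (p * m / d) 2 f m')

set_option synthInstance.maxHeartbeats 400000 in
set_option synthInstance.maxSize 2048 in
instance (p m : ℕ) : Decidable (FixCert3 p m) := by unfold FixCert3; infer_instance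

/-- **fixed-point kill, third version**. -/
theorem fix_kill3.{u} {p m : ℕ} (hp : p.Prime) (hpm : ¬ p ∣ m) (hm1 : m ≠ 1)
    (h : FixCert3 p m) : NoSimple.{u} (p * m) := by
  intro G _ _ _ hna hn0
  have : Fact p.Prime := ⟨hp⟩
  have hn : Nat.card G = p ^ 1 * m := by rw [hn0, pow_one]
  have hppos : 0 < p := hp.pos
  have hm0 : m ≠ 0 := fun h0 => hpm (h0 ▸ dvd_zero p)
  obtain ⟨P⟩ : Nonempty (Sylow p G) := inferInstance
  have hPall : ∀ P : Sylow p G, Nat.card (P : Subgroup G) = p := by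
    intro P
    have h0 := sylow_card_eq P hn hpm
    rwa [pow_one] at h0
  have hPc : Nat.card (P : Subgroup G) = p := hPall P
  obtain ⟨hdm, hdp⟩ := sylow_count (G := G) hn hpm
  have hnb := not_bad hna p 1 m one_ne_zero hm1 hn hpm
  have hne := sylow_count_ne_one (G := G) hn hpm one_ne_zero hm1
  have hdpos : 0 < Nat.card (Sylow p G) := Nat.card_pos
  have hd1 : 1 < Nat.card (Sylow p G) := by omega
  have hNd := card_normalizer_mul_sylow_count P
  have hGp : Nat.card G ≠ p := by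
    rw [hn0]; intro h0
    have : p * m = p * 1 := by rw [h0, mul_one]
    exact hm1 (Nat.eq_of_mul_eq_mul_left hppos this)
  obtain ⟨e, he1, he2, he3⟩ := exists_e P hPc hGp
  set d := Nat.card (Sylow p G) with hd
  set N := Nat.card ↥(Subgroup.normalizer ((P : Subgroup G) : Set G)) with hN
  set c := Nat.card ↥(Subgroup.centralizer ((P : Subgroup G) : Set G)) with hc
  have hdle : d ≤ m := Nat.le_of_dvd (Nat.pos_of_ne_zero hm0) hdm
  have hele : e < p := by
    have h0 : e ≤ p - 1 := Nat.le_of_dvd (by have := hp.two_le; omega) he1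
    omega
  have hced : c * (d * e) = p * m := by
    rw [← hn0, ← hNd, ← he3]; ring
  have hde : d * e ∣ p * m := ⟨c, by rw [← hced]; ring⟩
  have hepos : 0 < e := Nat.pos_of_dvd_of_pos he1 (by have := hp.two_le; omega)
  have hcdiv : p * m / (d * e) = c := by
    rw [← hced]; exact Nat.mul_div_cancel _ (Nat.mul_pos hdpos hepos)
  have hNdiv : p * m / d = N := by
    rw [← hn0, ← hNd]; exact Nat.mul_div_cancel _ hdpos
  have h2 : 2 < p * m := by
    have h3 : 2 ≤ p := hp.two_le
    have h4 : 2 ≤ m := by omega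
    nlinarith
  rcases h d (List.mem_range.2 (by omega)) hdm hdp hnb e (List.mem_range.2 hele) he1 he2 hde with
    ⟨r, -, hrp, hrne, hrc, hall⟩ | ⟨q, -, hqc, hL⟩ | ⟨a, -, ha1, hae, hfull, hodd, hne2⟩ |
    ⟨a, -, ha1, haN, hfull, h2c, h4c, hp2, hcert⟩
  · have : Fact r.Prime := ⟨hrp⟩
    rw [hcdiv] at hrc
    obtain ⟨f, m', hfix⟩ := exists_fix (by rw [hn0]; exact h2) (Ne.symm hrne) P hPc hd1 hrc
    rw [hn0] at hfix
    have hfd : f < d := hfix.2.2.2.2.1
    have hm'N : m' ≤ N := hfix.1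
    refine hall f (List.mem_range.2 hfd) m' (List.mem_range.2 (by rw [hNdiv]; omega)) ?_
    rw [hNdiv]
    exact hfix
  · rw [hcdiv] at hqc
    exact link_absurd hna hn0 P hPall hqc hL
  · rw [hcdiv] at hodd
    refine cyclic_absurd P hPc (p * m) a hn0 ha1 ?_ hfull hodd hne2
    rw [← hN, ← he3]
    exact dvd_trans hae (dvd_mul_left e c)
  · rw [hcdiv] at h2c h4c
    rw [hNdiv] at haN hcert
    exact iso_absurd hna hp2 P hPc (p * m) a hn0 h2 hd1 ha1 haN hfull h2c h4c hcert

end Cfsg.Agent.Helper75.FixKill
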