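import Mathlib
import Cfsg.Agent.Lib.Helper75.ConvPow
import Cfsg.Agent.Lib.Helper74.BlockCount
import Cfsg.Agent.Lib.Helper77.ExtFMT

/-!
# Blocks of full defect and `p`-regular classes of full defect (helper75)

* `IsFull p x` : the class of `x` has size prime to `p`.
* `memLocalIdeal_conv_of_full` : the class functions vanishing (mod the local ideal) on the
  elements of full defect form an ideal.
* `exists_cpow_eqMod_zero` : a class function all of whose central character values lie in the
  local ideal is nilpotent modulo the local ideal.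
* `memLocalIdeal_of_omega_full` : separation: a class function supported on `p`-regular elements
  of full defect whose central characters at all blocks of full defect vanish is zero mod `M`.
* `card_fullBlocks_eq` : the number of blocks of full defect equals the number of `p`-regular
  classes of full defect.
-/

set_option autoImplicit false
set_option linter.unusedSectionVars false
set_option linter.style.haveILetI false

namespace Cfsg.Agent.Helper75.FD

open Cfsg Cfsg.Agent.Helper77 Cfsg.Agent.Helper75.CPow Cfsg.Agent.Helper74.DO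

universe u

section full

variable {G : Type u} [Group G] [Fintype G] {p : ℕ} {M : Ideal AlgInt}

/-- `x` has full defect: its class has size prime to `p`. -/
def IsFull (p : ℕ) (x : G) : Prop := ¬ p ∣ (Subgroup.centralizer ({x} : Set G)).index

theorem index_centralizer_conj (u x : G) :
    (Subgroup.centralizer ({u * x * u⁻¹} : Set G)).index =
      (Subgroup.centralizer ({x} : Set G)).index := by
  rw [← card_isConj_eq_index, ← card_isConj_eq_index]
  apply Nat.card_congr
  refine Equiv.subtypeEquivRight fun h => ?_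
  have hc : IsConj x (u * x * u⁻¹) := isConj_iff.mpr ⟨u, rfl⟩
  exact ⟨fun h1 => hc.trans h1, fun h1 => hc.symm.trans h1⟩

theorem isFull_conj (u x : G) : IsFull p (u * x * u⁻¹) ↔ IsFull p x := by
  unfold IsFull
  rw [index_centralizer_conj]

theorem isFull_of_isConj {x y : G} (h : IsConj x y) : IsFull p x ↔ IsFull p y := by
  obtain ⟨u, rfl⟩ := isConj_iff.mp h
  exact (isFull_conj u x).symm

theorem factorization_index_add [Fact p.Prime] (x : G) :
    ((Subgroup.centralizer ({x} : Set G)).index).factorization p +
      (Nat.card (Subgroup.centralizer ({x} : Set G))).factorization p =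
      (Nat.card G).factorization p := by
  have h1 := Subgroup.card_mul_index (Subgroup.centralizer ({x} : Set G))
  have h2 : (Subgroup.centralizer ({x} : Set G)).index ≠ 0 := Subgroup.index_ne_zero_of_finite
  have h3 : Nat.card (Subgroup.centralizer ({x} : Set G)) ≠ 0 := Nat.card_pos.ne'
  rw [← h1, Nat.factorization_mul h3 h2]
  simp [add_comm]

theorem isFull_iff [hp : Fact p.Prime] (x : G) :
    IsFull p x ↔ (Nat.card (Subgroup.centralizer ({x} : Set G))).factorization p =
      (Nat.card G).factorization p := by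
  have h := factorization_index_add (p := p) x
  have h2 : (Subgroup.centralizer ({x} : Set G)).index ≠ 0 := Subgroup.index_ne_zero_of_finite
  unfold IsFull
  have h3 : ¬ p ∣ (Subgroup.centralizer ({x} : Set G)).index ↔
      ((Subgroup.centralizer ({x} : Set G)).index).factorization p = 0 := by
    constructor
    · intro h'
      exact Nat.factorization_eq_zero_of_not_dvd h'
    · intro h' hd
      have := (hp.out.dvd_iff_one_le_factorization h2).mp hd
      omega
  rw [h3]
  omega

theorem exists_sylow_centralizing [hp : Fact p.Prime] {x : G} (hx : IsFull p x) :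
    ∃ P : Subgroup G, IsPGroup p P ∧ P ≤ Subgroup.centralizer ({x} : Set G) ∧
      Nat.card P = p ^ (Nat.card G).factorization p := by
  obtain ⟨D⟩ : Nonempty (Sylow p (Subgroup.centralizer ({x} : Set G))) := inferInstance
  refine ⟨_, sylow_map_isPGroup x D, sylow_map_le_centralizer x D, ?_⟩
  rw [Subgroup.card_map_of_injective (Subgroup.subtype_injective _), D.card_eq_multiplicity,
    (isFull_iff x).mp hx]

theorem isFull_of_le_centralizer [hp : Fact p.Prime] (P : Subgroup G)
    (hcard : Nat.card P = p ^ (Nat.card G).factorization p) {y : G}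
    (h : P ≤ Subgroup.centralizer ({y} : Set G)) : IsFull p y := by
  rw [isFull_iff]
  have h1 : Nat.card P ∣ Nat.card (Subgroup.centralizer ({y} : Set G)) :=
    Subgroup.card_dvd_of_le h
  rw [hcard] at h1
  have h3 : Nat.card (Subgroup.centralizer ({y} : Set G)) ≠ 0 := Nat.card_pos.ne'
  have h4 := (hp.out.pow_dvd_iff_le_factorization h3).mp h1
  have h5 := factorization_index_add (p := p) y
  omega

/-- **The class functions vanishing modulo the local ideal on the elements of full defect form an
ideal of the centre.** -/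
theorem memLocalIdeal_conv_of_full [hp : Fact p.Prime] (hM : IsPModular p M) {f h : G → ℂ}
    (hf : IsClassFunction G f) (hh : IsClassFunction G h) (hfR : IsRValued M f)
    (hhR : IsRValued M h) (hvan : ∀ y, IsFull p y → MemLocalIdeal M (f y)) {x : G}
    (hx : IsFull p x) : MemLocalIdeal M (conv f h x) := by
  classical
  haveI := isPrime_of_isPModular hM
  obtain ⟨P, hP, hPx, hcard⟩ := exists_sylow_centralizing hx
  unfold conv
  rw [← Finset.sum_filter_add_sum_filter_not Finset.univ
    (fun y => y ∈ Subgroup.centralizer (P : Set G))]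
  refine memLocalIdeal_add ?_ ?_
  · refine memLocalIdeal_sum _ _ fun y hy => ?_
    rw [Finset.mem_filter] at hy
    refine memLocalIdeal_mul_right (hvan y ?_) (hhR _)
    refine isFull_of_le_centralizer P hcard ?_
    intro u hu
    rw [Subgroup.mem_centralizer_iff]
    intro z hz
    rw [Set.mem_singleton_iff] at hz
    subst hz
    exact ((Subgroup.mem_centralizer_iff.mp hy.2) u hu).symm
  · have h1 := memLocalRing_sum_compl_centralizer hM P hP (fun y => f y * h (y⁻¹ * x)) ?_ ?_
    · have hp0 : (p : ℂ) ≠ 0 := by exact_mod_cast hM.1.ne_zero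
      have e : (∑ y ∈ Finset.univ.filter (fun y => y ∉ Subgroup.centralizer (P : Set G)),
          f y * h (y⁻¹ * x)) = (p : ℂ) * ((∑ y ∈ Finset.univ.filter
            (fun y => y ∉ Subgroup.centralizer (P : Set G)), f y * h (y⁻¹ * x)) / (p : ℂ)) := by
        field_simp
      rw [e]
      exact memLocalIdeal_mul_right ((memLocalIdeal_natCast_iff hM p).mpr dvd_rfl) h1
    · intro u hu y
      have hux : u * x = x * u := by
        have := (Subgroup.mem_centralizer_iff.mp (hPx hu)) x (Set.mem_singleton x)
        exact this.symm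
      show f (u * y * u⁻¹) * h ((u * y * u⁻¹)⁻¹ * x) = f y * h (y⁻¹ * x)
      rw [hf y u]
      congr 1
      have : (u * y * u⁻¹)⁻¹ * x = u * (y⁻¹ * x) * u⁻¹ := by
        have hx' : x = u * x * u⁻¹ := by rw [hux]; group
        conv_lhs => rw [hx']
        group
      rw [this, hh]
    · intro y
      exact memLocalRing_mul (hfR y) (hhR _)

end full

section nilpotent

variable {G : Type u} [Group G] [Fintype G] {M : Ideal AlgInt} [hp : M.IsPrime]

theorem isRValued_cpow {z : G → ℂ} (hzR : IsRValued M z) (n : ℕ) : IsRValued M (cpow z n) :=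
  isRValued_convList _ fun a ha => by rw [List.eq_of_mem_replicate ha]; exact hzR

theorem isClassFunction_cpow {z : G → ℂ} (hz : IsClassFunction G z) (n : ℕ) :
    IsClassFunction G (cpow z n) :=
  isClassFunction_convList _ fun a ha => by rw [List.eq_of_mem_replicate ha]; exact hz

theorem omega_cpow {χ : G → ℂ} (hχ : IsIrrCharacter G χ) {z : G → ℂ} (hz : IsClassFunction G z)
    (n : ℕ) : omega χ (cpow z n) = omega χ z ^ n := by
  unfold cpow
  rw [omega_convList hχ _ (fun a ha => by rw [List.eq_of_mem_replicate ha]; exact hz),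
    List.map_replicate, List.prod_replicate]

theorem eqMod_convList_sub_smul {z : G → ℂ} (hzR : IsRValued M z) (cs : List ℂ)
    (hcs : ∀ c ∈ cs, MemLocalIdeal M c) :
    EqMod M (convList (cs.map (fun c => z - c • (delta : G → ℂ)))) (cpow z cs.length) := by
  induction cs with
  | nil => exact EqMod.refl _
  | cons c cs ih =>
    have hc := hcs c List.mem_cons_self
    have hcs' : ∀ d ∈ cs, MemLocalIdeal M d := fun d hd => hcs d (List.mem_cons_of_mem _ hd)
    have ih' := ih hcs'
    simp only [List.map_cons, convList, List.length_cons]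
    rw [cpow_succ]
    set X := convList (cs.map (fun c => z - c • (delta : G → ℂ))) with hX
    have hXR : IsRValued M X := isRValued_convList _ (by
      intro a ha
      obtain ⟨d, hd, rfl⟩ := List.mem_map.mp ha
      exact isRValued_sub hzR (isRValued_smul (memLocalRing_of_memLocalIdeal (hcs' d hd))
        isRValued_delta))
    rw [conv_sub_left, conv_smul_left, conv_delta_left]
    have h1 : EqMod M (conv z X - c • X) (conv z X) := by
      intro g
      simp only [Pi.sub_apply, Pi.smul_apply, smul_eq_mul, sub_sub_cancel_left]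
      exact memLocalIdeal_neg (memLocalIdeal_mul_right hc (hXR g))
    exact h1.trans (EqMod.conv_right hzR ih')

/-- **Nilpotency modulo the local ideal**: a class function with values in the local ring all of
whose central character values lie in the local ideal has all sufficiently large convolution powers
vanishing modulo the local ideal. -/
theorem exists_cpow_eqMod_zero {z : G → ℂ} (hz : IsClassFunction G z) (hzR : IsRValued M z)
    (hrad : ∀ χ : IrrCharacter G, MemLocalIdeal M (omega (χ : G → ℂ) z)) :
    ∃ k : ℕ, ∀ n, k ≤ n → ∀ g, MemLocalIdeal M (cpow z n g) := by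
  classical
  let cs : List ℂ := (Finset.univ : Finset (IrrCharacter G)).toList.map
    (fun χ : IrrCharacter G => omega (χ : G → ℂ) z)
  have hcs : ∀ c ∈ cs, MemLocalIdeal M c := by
    intro c hc
    obtain ⟨χ, _, rfl⟩ := List.mem_map.mp hc
    exact hrad χ
  have h1 := eqMod_convList_sub_smul hzR cs hcs
  have hzero : convList (cs.map (fun c => z - c • (delta : G → ℂ))) = 0 := by
    have h0 : IsClassFunction G (0 : G → ℂ) := fun _ _ => rfl
    have hl_cl : ∀ a ∈ cs.map (fun c => z - c • (delta : G → ℂ)), IsClassFunction G a := by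
      intro a ha
      obtain ⟨c, _, rfl⟩ := List.mem_map.mp ha
      exact isClassFunction_sub hz (isClassFunction_smul _ isClassFunction_delta)
    apply eq_of_omega_eq (isClassFunction_convList _ hl_cl) h0
    intro ψ
    have hz0 : omega (ψ : G → ℂ) (0 : G → ℂ) = 0 := by unfold omega; simp
    rw [omega_convList ψ.2 _ hl_cl, hz0]
    simp only [cs, List.map_map]
    rw [Finset.prod_map_toList]
    apply Finset.prod_eq_zero (i := ψ) (Finset.mem_univ _)
    simp only [Function.comp_apply]
    rw [omega_sub, omega_smul, omega_delta_of_irr ψ.2, mul_one, sub_self]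
  rw [hzero] at h1
  refine ⟨cs.length, fun n hn => ?_⟩
  obtain ⟨j, rfl⟩ := Nat.exists_eq_add_of_le hn
  induction j with
  | zero =>
    intro g
    have := memLocalIdeal_neg (h1 g)
    simpa using this
  | succ j ih =>
    intro g
    have e : cs.length + (j + 1) = (cs.length + j) + 1 := by ring
    rw [e, cpow_succ]
    unfold conv
    refine memLocalIdeal_sum _ _ fun x _ => ?_
    exact memLocalIdeal_mul_left (hzR x) (ih (Nat.le_add_right _ _) _)

end nilpotent

section roots

variable {G : Type u} [Group G]

/-- Roots of order prime to the exponent are unique. -/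
theorem eq_of_pow_eq_of_coprime {g h : G} {n : ℕ} (hg : (orderOf g).Coprime n)
    (hh : (orderOf h).Coprime n) (e : g ^ n = h ^ n) : g = h := by
  have hN : Nat.Coprime n (orderOf g * orderOf h) :=
    Nat.Coprime.mul_right hg.symm hh.symm
  have hb := Int.gcd_eq_gcd_ab (n : ℤ) ((orderOf g * orderOf h : ℕ) : ℤ)
  have h1 : Int.gcd (n : ℤ) ((orderOf g * orderOf h : ℕ) : ℤ) = 1 := by
    rw [Int.gcd_natCast_natCast]; exact hN
  rw [h1] at hb
  set a := Int.gcdA (n : ℤ) ((orderOf g * orderOf h : ℕ) : ℤ)
  set b := Int.gcdB (n : ℤ) ((orderOf g * orderOf h : ℕ) : ℤ)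
  have key : ∀ x : G, x ^ (orderOf g * orderOf h) = 1 → x = (x ^ n) ^ a := by
    intro x hx
    have : x ^ (1 : ℤ) = x ^ ((n : ℤ) * a + ((orderOf g * orderOf h : ℕ) : ℤ) * b) := by
      rw [← hb]; simp
    rw [zpow_one, zpow_add, zpow_mul, zpow_mul, zpow_natCast, zpow_natCast, hx, one_zpow,
      mul_one] at this
    exact this
  have hg1 : g ^ (orderOf g * orderOf h) = 1 := by rw [pow_mul, pow_orderOf_eq_one, one_pow]
  have hh1 : h ^ (orderOf g * orderOf h) = 1 := by
    rw [mul_comm, pow_mul, pow_orderOf_eq_one, one_pow]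
  rw [key g hg1, key h hh1, e]

theorem orderOf_eq_of_isConj {x y : G} (h : IsConj x y) : orderOf y = orderOf x := by
  obtain ⟨u, rfl⟩ := isConj_iff.mp h
  have : u * x * u⁻¹ = MulAut.conj u x := by simp [MulAut.conj_apply]
  rw [this, MulEquiv.orderOf_eq]

theorem coprime_pow_of_not_dvd {p : ℕ} [hp : Fact p.Prime] {g : G} (hg : ¬ p ∣ orderOf g)
    (k : ℕ) : (orderOf g).Coprime (p ^ k) :=
  Nat.Coprime.pow_right k ((Nat.Prime.coprime_iff_not_dvd hp.out).mpr hg).symm

end roots

section separation

variable {G : Type u} [Group G] [Fintype G] {p : ℕ} {M : Ideal AlgInt}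

theorem isFull_pow [hp : Fact p.Prime] {x : G} (hx : IsFull p x) (n : ℕ) : IsFull p (x ^ n) := by
  obtain ⟨P, _, hPx, hcard⟩ := exists_sylow_centralizing hx
  refine isFull_of_le_centralizer P hcard fun u hu => ?_
  have h1 := (Subgroup.mem_centralizer_iff.mp (hPx hu)) x (Set.mem_singleton x)
  rw [Subgroup.mem_centralizer_iff]
  intro z hz
  rw [Set.mem_singleton_iff] at hz
  subst hz
  have hc : Commute x u := h1
  exact (hc.pow_left n)

theorem memLocalIdeal_of_pow' [hp : M.IsPrime] {z : ℂ} (hz : MemLocalRing M z)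
    (n : ℕ) (h : MemLocalIdeal M (z ^ n)) : MemLocalIdeal M z := by
  induction n with
  | zero => exact absurd (by simpa using h) not_memLocalIdeal_one
  | succ n ih =>
    rw [pow_succ] at h
    rcases memLocalIdeal_or_of_mul (memLocalRing_pow hz n) hz h with h' | h'
    · exact ih h'
    · exact h'

/-- **Separation.** A class function with values in the local ring, supported on the `p`-regular
elements of full defect, whose central character values at all blocks of full defect lie in the
local ideal, vanishes modulo the local ideal. -/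
theorem memLocalIdeal_of_omega_full [hp : Fact p.Prime] (hM : IsPModular p M) {z : G → ℂ}
    (hz : IsClassFunction G z) (hzR : IsRValued M z)
    (hsupp : ∀ g, z g ≠ 0 → ¬ p ∣ orderOf g ∧ IsFull p g)
    (hω : ∀ B : Set (IrrCharacter G), IsPBlock M B → minVal p B = 0 →
      ∀ χ ∈ B, MemLocalIdeal M (omega (χ : G → ℂ) z)) :
    ∀ g, MemLocalIdeal M (z g) := by
  classical
  haveI hpr := isPrime_of_isPModular hM
  set O := (allBlocks M G).filter (fun B => minVal p B = 0) with hO
  set O' := (allBlocks M G).filter (fun B => ¬ minVal p B = 0) with hO'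
  have memO : ∀ B, B ∈ O ↔ IsPBlock M B ∧ minVal p B = 0 := fun B => by
    rw [hO, Finset.mem_filter, mem_allBlocks]
  have memO' : ∀ B, B ∈ O' ↔ IsPBlock M B ∧ ¬ minVal p B = 0 := fun B => by
    rw [hO', Finset.mem_filter, mem_allBlocks]
  have hOb : ∀ B ∈ O, IsPBlock M B := fun B hB => ((memO B).mp hB).1
  have hO'b : ∀ B ∈ O', IsPBlock M B := fun B hB => ((memO' B).mp hB).1
  set e : G → ℂ := ∑ B ∈ O, blockCoeff B with he
  set e' : G → ℂ := ∑ B ∈ O', blockCoeff B with he'
  have hsum_cl : ∀ s : Finset (Set (IrrCharacter G)),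
      IsClassFunction G (∑ B ∈ s, blockCoeff B) := by
    intro s g k
    simp only [Finset.sum_apply]
    exact Finset.sum_congr rfl fun B _ => isClassFunction_blockCoeff B g k
  have hsum_R : ∀ s : Finset (Set (IrrCharacter G)), (∀ B ∈ s, IsPBlock M B) →
      IsRValued M (∑ B ∈ s, blockCoeff B) := by
    intro s hs g
    simp only [Finset.sum_apply]
    exact memLocalRing_sum _ _ fun B hB => isRValued_blockCoeff (hs B hB) g
  have he_cl : IsClassFunction G e := hsum_cl O
  have he'_cl : IsClassFunction G e' := hsum_cl O'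
  have he_R : IsRValued M e := hsum_R O hOb
  have he'_R : IsRValued M e' := hsum_R O' hO'b
  have hωe : ∀ χ : IrrCharacter G, omega (χ : G → ℂ) e =
      if minVal p (blockOf M (χ : G → ℂ)) = 0 then 1 else 0 := by
    intro χ
    rw [he, omega_sum_blockCoeff O hOb χ]
    by_cases h : minVal p (blockOf M (χ : G → ℂ)) = 0
    · rw [if_pos h, if_pos ((memO _).mpr ⟨isPBlock_blockOf χ, h⟩)]
    · rw [if_neg h, if_neg (fun h' => h ((memO _).mp h').2)]
  have hωe' : ∀ χ : IrrCharacter G, omega (χ : G → ℂ) e' =
      if minVal p (blockOf M (χ : G → ℂ)) = 0 then 0 else 1 := by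
    intro χ
    rw [he', omega_sum_blockCoeff O' hO'b χ]
    by_cases h : minVal p (blockOf M (χ : G → ℂ)) = 0
    · rw [if_pos h, if_neg (fun h' => ((memO' _).mp h').2 h)]
    · rw [if_neg h, if_pos ((memO' _).mpr ⟨isPBlock_blockOf χ, h⟩)]
  -- the full-defect part of z
  set y : G → ℂ := conv z e with hy
  have hy_cl : IsClassFunction G y := isClassFunction_conv hz he_cl
  have hy_R : IsRValued M y := isRValued_conv hzR he_R
  have hyrad : ∀ χ : IrrCharacter G, MemLocalIdeal M (omega (χ : G → ℂ) y) := by
    intro χ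
    rw [hy, omega_conv χ.2 hz he_cl, hωe]
    by_cases h : minVal p (blockOf M (χ : G → ℂ)) = 0
    · rw [if_pos h, mul_one]
      exact hω _ (isPBlock_blockOf χ) h χ (mem_blockOf_self χ)
    · rw [if_neg h, mul_zero]
      exact memLocalIdeal_zero hpr.ne_top
  obtain ⟨k, hk⟩ := exists_cpow_eqMod_zero hy_cl hy_R hyrad
  -- decomposition of the powers of z
  have hdecomp : ∀ n, 1 ≤ n → cpow z n = cpow y n + conv e' (cpow z n) := by
    intro n hn
    apply eq_of_omega_eq (isClassFunction_cpow hz n)
      (isClassFunction_add (isClassFunction_cpow hy_cl n)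
        (isClassFunction_conv he'_cl (isClassFunction_cpow hz n)))
    intro ψ
    rw [omega_add, omega_cpow ψ.2 hz, omega_cpow ψ.2 hy_cl,
      omega_conv ψ.2 he'_cl (isClassFunction_cpow hz n), omega_cpow ψ.2 hz, hωe', hy,
      omega_conv ψ.2 hz he_cl, hωe]
    by_cases h : minVal p (blockOf M (ψ : G → ℂ)) = 0
    · rw [if_pos h, if_pos h]; ring
    · rw [if_neg h, if_neg h, mul_zero, zero_pow (by omega)]; ring
  -- e' vanishes on full elements
  have he'van : ∀ x, IsFull p x → MemLocalIdeal M (e' x) := by
    intro x hx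
    rw [he']
    simp only [Finset.sum_apply]
    refine memLocalIdeal_sum _ _ fun B hB => ?_
    by_contra hcon
    have h1 := (defect_le_of_blockCoeff hM (hO'b B hB) x hcon).2
    have h2 := (isFull_iff x).mp hx
    have h3 : ¬ minVal p B = 0 := ((memO' B).mp hB).2
    omega
  have hfullvan : ∀ n, 1 ≤ n → k ≤ n → ∀ x, IsFull p x → MemLocalIdeal M (cpow z n x) := by
    intro n hn1 hnk x hx
    rw [hdecomp n hn1]
    exact memLocalIdeal_add (hk n hnk x)
      (memLocalIdeal_conv_of_full hM he'_cl (isClassFunction_cpow hz n) he'_R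
        (isRValued_cpow hzR n) he'van hx)
  -- the Frobenius congruence
  intro g0
  by_cases hz0 : z g0 = 0
  · rw [hz0]; exact memLocalIdeal_zero hpr.ne_top
  obtain ⟨hreg0, hfull0⟩ := hsupp g0 hz0
  have hkn : k < p ^ k := Nat.lt_pow_self hp.out.one_lt
  have hn1 : 1 ≤ p ^ k := Nat.one_le_pow _ _ hp.out.pos
  set n := p ^ k with hn
  have hC : ∀ u x : G, IsConj (g0 ^ n) (u * x * u⁻¹) ↔ IsConj (g0 ^ n) x := by
    intro u x
    have hc : IsConj x (u * x * u⁻¹) := isConj_iff.mpr ⟨u, rfl⟩
    exact ⟨fun h => h.trans hc.symm, fun h => h.trans hc⟩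
  have hfrob := frobenius_congr hM k hzR (fun x => IsConj (g0 ^ n) x) hC
  have hS1 : MemLocalIdeal M (∑ x, if IsConj (g0 ^ n) x then cpow z n x else 0) := by
    refine memLocalIdeal_sum _ _ fun x _ => ?_
    by_cases hx : IsConj (g0 ^ n) x
    · rw [if_pos hx]
      exact hfullvan n hn1 hkn.le x ((isFull_of_isConj hx).mp (isFull_pow hfull0 n))
    · rw [if_neg hx]; exact memLocalIdeal_zero hpr.ne_top
  have hS2 : MemLocalIdeal M (∑ g, if IsConj (g0 ^ n) (g ^ n) then z g ^ n else 0) := by
    have := memLocalIdeal_sub hS1 hfrob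
    rwa [sub_sub_cancel] at this
  have hterm : ∀ g, (if IsConj (g0 ^ n) (g ^ n) then z g ^ n else 0) =
      if IsConj g0 g then z g0 ^ n else 0 := by
    intro g
    by_cases hg : IsConj g0 g
    · obtain ⟨u, rfl⟩ := isConj_iff.mp hg
      rw [if_pos hg, if_pos (by rw [conj_pow]; exact isConj_iff.mpr ⟨u, rfl⟩), hz]
    · rw [if_neg hg]
      by_cases hc : IsConj (g0 ^ n) (g ^ n)
      · rw [if_pos hc]
        by_cases hzg : z g = 0
        · rw [hzg, zero_pow (by omega)]
        · exfalso
          apply hg
          obtain ⟨u, hu⟩ := isConj_iff.mp hc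
          have hreg := (hsupp g hzg).1
          have e1 : (u * g0 * u⁻¹) ^ n = g ^ n := by rw [conj_pow]; exact hu
          have ho : orderOf (u * g0 * u⁻¹) = orderOf g0 := by
            have : u * g0 * u⁻¹ = MulAut.conj u g0 := by simp [MulAut.conj_apply]
            rw [this, MulEquiv.orderOf_eq]
          have := eq_of_pow_eq_of_coprime (n := n)
            (by rw [ho]; exact coprime_pow_of_not_dvd hreg0 k)
            (coprime_pow_of_not_dvd hreg k) e1
          exact isConj_iff.mpr ⟨u, this⟩
      · rw [if_neg hc]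
  rw [Finset.sum_congr rfl fun g _ => hterm g, Finset.sum_ite, Finset.sum_const_zero, add_zero,
    Finset.sum_const, nsmul_eq_mul] at hS2
  have hcard : (Finset.univ.filter fun g => IsConj g0 g).card =
      (Subgroup.centralizer ({g0} : Set G)).index := by
    rw [← card_isConj_eq_index, Nat.card_eq_fintype_card, Fintype.card_subtype]
  rw [hcard] at hS2
  rcases memLocalIdeal_or_of_mul (memLocalRing_natCast _) (memLocalRing_pow (hzR g0) n) hS2
    with h | h
  · exact absurd ((memLocalIdeal_natCast_iff hM _).mp h) hfull0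
  · exact memLocalIdeal_of_pow' (hzR g0) n h

end separation

section count

variable {G : Type u} [Group G] [Fintype G] {p : ℕ} {M : Ideal AlgInt}

open Cfsg.Agent.Helper74.BC

/-- The number of blocks of full defect is at most the number of `p`-regular classes of full
defect. -/
theorem card_fullBlocks_le [hp : Fact p.Prime] (hM : IsPModular p M) :
    Nat.card {B : Set (IrrCharacter G) // IsPBlock M B ∧ minVal p B = 0} ≤
      Nat.card {K : ConjClasses G // ¬ p ∣ orderOf (Quotient.out K) ∧
        IsFull p (Quotient.out K)} := by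
  haveI hpr := isPrime_of_isPModular hM
  refine card_blocks_le hM (fun B => IsPBlock M B ∧ minVal p B = 0) (fun B h => h.1)
    (fun K => ¬ p ∣ orderOf (Quotient.out K) ∧ IsFull p (Quotient.out K)) ?_
  intro B B' hB hB' χ hχ K hK
  by_cases hreg : p ∣ orderOf (Quotient.out K)
  · rw [Cfsg.Agent.Helper16.blockCoeff_eq_zero_of_singular hM hB'.1 _ hreg, zero_mul]
    exact memLocalIdeal_zero hpr.ne_top
  · have hnf : ¬ IsFull p (Quotient.out K) := fun h => hK ⟨hreg, h⟩
    refine memLocalIdeal_mul_left (memLocalRing_blockCoeff hB'.1 _) ?_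
    refine memLocalIdeal_centralChar_of_small hM hB.1 hχ _ ?_
    rw [hB.2, add_zero]
    have h1 := factorization_index_add (p := p) (Quotient.out K)
    rw [isFull_iff] at hnf
    omega

/-- The number of `p`-regular classes of full defect is at most the number of blocks of full
defect. -/
theorem card_fullClasses_le [hp : Fact p.Prime] (hM : IsPModular p M) :
    Nat.card {K : ConjClasses G // ¬ p ∣ orderOf (Quotient.out K) ∧
        IsFull p (Quotient.out K)} ≤
      Nat.card {B : Set (IrrCharacter G) // IsPBlock M B ∧ minVal p B = 0} := by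
  classical
  haveI hpr := isPrime_of_isPModular hM
  haveI : Fintype (ConjClasses G) := Fintype.ofFinite _
  haveI : Fintype {B : Set (IrrCharacter G) // IsPBlock M B ∧ minVal p B = 0} :=
    Fintype.ofFinite _
  haveI : Fintype {K : ConjClasses G // ¬ p ∣ orderOf (Quotient.out K) ∧
      IsFull p (Quotient.out K)} := Fintype.ofFinite _
  rw [Nat.card_eq_fintype_card, Nat.card_eq_fintype_card]
  let Q : ConjClasses G → Prop := fun K =>
    ¬ p ∣ orderOf (Quotient.out K) ∧ IsFull p (Quotient.out K)
  have hne : ∀ B : {B : Set (IrrCharacter G) // IsPBlock M B ∧ minVal p B = 0},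
      ∃ χ : IrrCharacter G, χ ∈ B.1 := fun B => nonempty_of_isPBlock B.2.1
  choose rep hrep using hne
  let W : Matrix {B : Set (IrrCharacter G) // IsPBlock M B ∧ minVal p B = 0}
      {K : ConjClasses G // ¬ p ∣ orderOf (Quotient.out K) ∧ IsFull p (Quotient.out K)}
      (ResRing M) := Matrix.of fun B K =>
    res M (centralChar (rep B : G → ℂ) (Quotient.out K.1)) (memLocalRing_centralChar (rep B).2 _)
  apply card_le_of_injective (ResRing M) (Matrix.mulVecLin W)
  rw [injective_iff_map_eq_zero]
  intro c hc
  -- lift the coefficients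
  have hlift : ∀ K, ∃ r : localSubring M, Ideal.Quotient.mk (localMax M) r = c K :=
    fun K => Ideal.Quotient.mk_surjective (c K)
  choose r hr using hlift
  let rr : ConjClasses G → ℂ := fun K =>
    if h : ¬ p ∣ orderOf (Quotient.out K) ∧ IsFull p (Quotient.out K) then (r ⟨K, h⟩ : ℂ) else 0
  let z : G → ℂ := fun g => rr (ConjClasses.mk g)
  have hz : IsClassFunction G z := by
    intro g h
    show rr (ConjClasses.mk (h * g * h⁻¹)) = rr (ConjClasses.mk g)
    congr 1
    exact ConjClasses.mk_eq_mk_iff_isConj.mpr (isConj_iff.mpr ⟨h, rfl⟩).symm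
  have hzR : IsRValued M z := by
    intro g
    show MemLocalRing M (rr (ConjClasses.mk g))
    simp only [rr]
    split_ifs with h
    · exact (r ⟨_, h⟩).2
    · exact memLocalRing_zero hpr.ne_top
  have hzout : ∀ K : ConjClasses G, z (Quotient.out K) = rr K := by
    intro K
    show rr (ConjClasses.mk (Quotient.out K)) = rr K
    rw [mk_out_conjClasses]
  have hsupp : ∀ g, z g ≠ 0 → ¬ p ∣ orderOf g ∧ IsFull p g := by
    intro g hg
    have hQ : ¬ p ∣ orderOf (Quotient.out (ConjClasses.mk g)) ∧
        IsFull p (Quotient.out (ConjClasses.mk g)) := by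
      by_contra hcon
      apply hg
      show rr (ConjClasses.mk g) = 0
      simp only [rr]
      rw [dif_neg hcon]
    have hconj : IsConj (Quotient.out (ConjClasses.mk g)) g :=
      ConjClasses.mk_eq_mk_iff_isConj.mp (mk_out_conjClasses _)
    have ho : orderOf g = orderOf (Quotient.out (ConjClasses.mk g)) :=
      orderOf_eq_of_isConj hconj
    exact ⟨by rw [ho]; exact hQ.1, (isFull_of_isConj hconj).mp hQ.2⟩
  have hω : ∀ B : Set (IrrCharacter G), IsPBlock M B → minVal p B = 0 →
      ∀ χ ∈ B, MemLocalIdeal M (omega (χ : G → ℂ) z) := by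
    intro B hB hmin χ hχ
    set B₀ : {B : Set (IrrCharacter G) // IsPBlock M B ∧ minVal p B = 0} := ⟨B, hB, hmin⟩
    have h1 := memLocalIdeal_omega_sub χ.2 (rep B₀).2 (sameBlock_of_mem hB hχ (hrep B₀)) hz hzR
    suffices h2 : MemLocalIdeal M (omega (rep B₀ : G → ℂ) z) by
      have := memLocalIdeal_add h1 h2
      rwa [sub_add_cancel] at this
    rw [omega_eq_sum_conjClasses (isClassFunction_of_isIrrCharacter (rep B₀).2) hz]
    simp only [hzout]
    have h3 := congrFun hc B₀
    simp only [Matrix.mulVecLin_apply, Matrix.mulVec, dotProduct, W, Matrix.of_apply,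
      Pi.zero_apply] at h3
    -- h3 : ∑ K, res ... * c K = 0
    have h4 : (∑ K : {K : ConjClasses G // ¬ p ∣ orderOf (Quotient.out K) ∧
        IsFull p (Quotient.out K)},
        (⟨centralChar (rep B₀ : G → ℂ) (Quotient.out K.1),
          memLocalRing_centralChar (rep B₀).2 _⟩ : localSubring M) * r K) ∈ localMax M := by
      rw [← Ideal.Quotient.eq_zero_iff_mem, map_sum, ← h3]
      refine Finset.sum_congr rfl fun K _ => ?_
      rw [map_mul, hr K]
      rfl
    have h5 : MemLocalIdeal M (((∑ K : {K : ConjClasses G // ¬ p ∣ orderOf (Quotient.out K) ∧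
        IsFull p (Quotient.out K)},
        (⟨centralChar (rep B₀ : G → ℂ) (Quotient.out K.1),
          memLocalRing_centralChar (rep B₀).2 _⟩ : localSubring M) * r K : localSubring M)) : ℂ) :=
      h4
    have h6 : (∑ K : ConjClasses G, rr K * centralChar (rep B₀ : G → ℂ) (Quotient.out K)) =
        (((∑ K : {K : ConjClasses G // ¬ p ∣ orderOf (Quotient.out K) ∧
        IsFull p (Quotient.out K)},
        (⟨centralChar (rep B₀ : G → ℂ) (Quotient.out K.1),
          memLocalRing_centralChar (rep B₀).2 _⟩ : localSubring M) * r K : localSubring M)) : ℂ) := by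
      rw [← Subring.coe_subtype, map_sum]
      have e1 : (∑ K : ConjClasses G, rr K * centralChar (rep B₀ : G → ℂ) (Quotient.out K)) =
          ∑ K ∈ Finset.univ.filter Q,
            rr K * centralChar (rep B₀ : G → ℂ) (Quotient.out K) := by
        symm
        refine Finset.sum_filter_of_ne fun K _ hne => ?_
        by_contra hQ
        apply hne
        simp only [rr]
        rw [dif_neg hQ, zero_mul]
      rw [e1, Finset.sum_subtype (Finset.univ.filter Q) (p := Q) (fun K => by simp)
        (fun K => rr K * centralChar (rep B₀ : G → ℂ) (Quotient.out K))]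
      refine Finset.sum_congr rfl fun K _ => ?_
      simp only [rr]
      rw [dif_pos K.2]
      simp [mul_comm]
    rw [h6]
    exact h5
  have hzero := memLocalIdeal_of_omega_full hM hz hzR hsupp hω
  funext K
  have h7 := hzero (Quotient.out K.1)
  rw [hzout] at h7
  simp only [rr] at h7
  rw [dif_pos K.2] at h7
  rw [Pi.zero_apply, ← hr K, Ideal.Quotient.eq_zero_iff_mem]
  exact h7

/-- **Brauer.** The number of blocks of full defect equals the number of `p`-regular classes of full
defect. -/
theorem card_fullBlocks_eq [hp : Fact p.Prime] (hM : IsPModular p M) :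
    Nat.card {B : Set (IrrCharacter G) // IsPBlock M B ∧ minVal p B = 0} =
      Nat.card {K : ConjClasses G // ¬ p ∣ orderOf (Quotient.out K) ∧
        IsFull p (Quotient.out K)} :=
  le_antisymm (card_fullBlocks_le hM) (card_fullClasses_le hM)

/-- A Sylow `p`-subgroup is a defect group of `B` iff `B` contains a character of degree prime
to `p`. -/
theorem isDefectGroup_sylow_iff [hp : Fact p.Prime] (hM : IsPModular p M)
    {B : Set (IrrCharacter G)} (hB : IsPBlock M B) (P : Sylow p G) :
    IsDefectGroup p M B (P : Subgroup G) ↔ minVal p B = 0 := by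
  haveI hpr := isPrime_of_isPModular hM
  have hle := minVal_le_card (p := p) (nonempty_of_isPBlock hB)
  constructor
  · intro h
    have h1 := card_defectGroup hM hB _ h
    rw [P.card_eq_multiplicity] at h1
    have h2 := Nat.pow_right_injective hp.out.two_le h1
    rw [blockDefect_eq] at h2
    omega
  · intro h
    obtain ⟨D, hD⟩ := exists_isDefectGroup (M := M) p hB
    have h1 := card_defectGroup hM hB _ hD
    rw [blockDefect_eq, h, Nat.sub_zero] at h1
    obtain ⟨x, hx⟩ := MulAction.exists_smul_eq G (Sylow.ofCard D h1) P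
    have h2 := isDefectGroup_conj hD x
    have h3 : D.map (MulAut.conj x).toMonoidHom = (P : Subgroup G) := by
      rw [← hx, Sylow.coe_subgroup_smul, Sylow.coe_ofCard, Subgroup.pointwise_smul_def]
      rfl
    rwa [h3] at h2

end count

section classes

variable {G : Type u} [Group G] [Fintype G] {p : ℕ}

theorem conj_mem_centralizer_of_normalizer (P : Subgroup G) {h x : G}
    (hh : h ∈ Subgroup.normalizer (P : Set G)) (hx : x ∈ Subgroup.centralizer (P : Set G)) :
    h * x * h⁻¹ ∈ Subgroup.centralizer (P : Set G) := by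
  rw [Subgroup.mem_centralizer_iff] at hx ⊢
  intro u hu
  have hu' : h⁻¹ * u * h ∈ P := by
    have := (Subgroup.mem_normalizer_iff'.mp hh (h⁻¹ * u))
    have h2 : h * (h⁻¹ * u) ∈ P := by simpa using hu
    exact this.mpr h2
  have h1 := hx _ hu'
  calc u * (h * x * h⁻¹) = h * ((h⁻¹ * u * h) * x) * h⁻¹ := by group
    _ = h * (x * (h⁻¹ * u * h)) * h⁻¹ := by rw [h1]
    _ = h * x * h⁻¹ * u := by group

/-- **Class correspondence**: the `p`-regular classes of `G` of full defect correspond to the
classes of `N_G(P)` consisting of `p`-regular elements centralizing the Sylow subgroup `P`. -/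
theorem card_fullClasses_eq [hp : Fact p.Prime] (P : Sylow p G) :
    Nat.card {K : ConjClasses G // ¬ p ∣ orderOf (Quotient.out K) ∧
        IsFull p (Quotient.out K)} =
      Nat.card {C : ConjClasses (Subgroup.normalizer ((P : Subgroup G) : Set G)) //
        ∀ n : Subgroup.normalizer ((P : Subgroup G) : Set G), ConjClasses.mk n = C →
          ¬ p ∣ orderOf n ∧ (n : G) ∈ Subgroup.centralizer ((P : Subgroup G) : Set G)} := by
  classical
  symm
  have hPcard : Nat.card (P : Subgroup G) = p ^ (Nat.card G).factorization p :=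
    P.card_eq_multiplicity
  have hfull_of_cent : ∀ x : G, x ∈ Subgroup.centralizer ((P : Subgroup G) : Set G) →
      IsFull p x := by
    intro x hx
    refine isFull_of_le_centralizer (P : Subgroup G) hPcard fun u hu => ?_
    rw [Subgroup.mem_centralizer_iff]
    intro z hz
    rw [Set.mem_singleton_iff] at hz
    subst hz
    exact ((Subgroup.mem_centralizer_iff.mp hx) u hu).symm
  -- the map
  have hgood : ∀ C : {C : ConjClasses (Subgroup.normalizer ((P : Subgroup G) : Set G)) //
      ∀ n : Subgroup.normalizer ((P : Subgroup G) : Set G), ConjClasses.mk n = C →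
        ¬ p ∣ orderOf n ∧ (n : G) ∈ Subgroup.centralizer ((P : Subgroup G) : Set G)},
      ¬ p ∣ orderOf (Quotient.out (ConjClasses.mk ((Quotient.out C.1 : Subgroup.normalizer
        ((P : Subgroup G) : Set G)) : G))) ∧
        IsFull p (Quotient.out (ConjClasses.mk ((Quotient.out C.1 : Subgroup.normalizer
        ((P : Subgroup G) : Set G)) : G))) := by
    intro C
    obtain ⟨h1, h2⟩ := C.2 (Quotient.out C.1) (mk_out_conjClasses _)
    have hconj : IsConj (Quotient.out (ConjClasses.mk ((Quotient.out C.1 : Subgroup.normalizer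
        ((P : Subgroup G) : Set G)) : G))) ((Quotient.out C.1 : Subgroup.normalizer
        ((P : Subgroup G) : Set G)) : G) :=
      ConjClasses.mk_eq_mk_iff_isConj.mp (mk_out_conjClasses _)
    refine ⟨?_, (isFull_of_isConj hconj).mpr (hfull_of_cent _ h2)⟩
    rw [← orderOf_eq_of_isConj hconj, Subgroup.orderOf_coe]
    exact h1
  refine Nat.card_congr (Equiv.ofBijective (fun C => ⟨ConjClasses.mk ((Quotient.out C.1 :
    Subgroup.normalizer ((P : Subgroup G) : Set G)) : G), hgood C⟩) ⟨?_, ?_⟩)
  · -- injective
    intro C C' hCC'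
    have h0 : ConjClasses.mk ((Quotient.out C.1 : Subgroup.normalizer
        ((P : Subgroup G) : Set G)) : G) = ConjClasses.mk ((Quotient.out C'.1 :
        Subgroup.normalizer ((P : Subgroup G) : Set G)) : G) := congrArg Subtype.val hCC'
    obtain ⟨g, hg⟩ := isConj_iff.mp (ConjClasses.mk_eq_mk_iff_isConj.mp h0)
    set n := (Quotient.out C.1 : Subgroup.normalizer ((P : Subgroup G) : Set G)) with hn
    set n' := (Quotient.out C'.1 : Subgroup.normalizer ((P : Subgroup G) : Set G)) with hn'
    have hnC := (C.2 n (mk_out_conjClasses _)).2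
    have hn'C := (C'.2 n' (mk_out_conjClasses _)).2
    have hy : (g⁻¹)⁻¹ * (n : G) * g⁻¹ ∈ Subgroup.centralizer ((P : Subgroup G) : Set G) := by
      rw [inv_inv, hg]; exact hn'C
    obtain ⟨m, hm, hmeq⟩ := Sylow.conj_eq_normalizer_conj_of_mem_centralizer P (n : G) g⁻¹ hnC hy
    rw [inv_inv, hg] at hmeq
    apply Subtype.ext
    rw [← mk_out_conjClasses C.1, ← mk_out_conjClasses C'.1]
    rw [ConjClasses.mk_eq_mk_iff_isConj, isConj_iff]
    refine ⟨⟨m⁻¹, Subgroup.inv_mem _ hm⟩, Subtype.ext ?_⟩
    simp only [Subgroup.coe_mul, Subgroup.coe_inv, inv_inv]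
    exact hmeq.symm
  · -- surjective
    rintro ⟨K, hKreg, hKfull⟩
    set x := Quotient.out K with hx
    obtain ⟨P', hP', hP'x, hP'card⟩ := exists_sylow_centralizing hKfull
    obtain ⟨g, hg⟩ := MulAction.exists_smul_eq G (Sylow.ofCard P' hP'card) P
    have hPeq : (P : Subgroup G) = P'.map (MulAut.conj g).toMonoidHom := by
      rw [← hg, Sylow.coe_subgroup_smul, Sylow.coe_ofCard, Subgroup.pointwise_smul_def]
      rfl
    have hncent : g * x * g⁻¹ ∈ Subgroup.centralizer ((P : Subgroup G) : Set G) := by
      rw [Subgroup.mem_centralizer_iff]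
      intro u hu
      have hu' : u ∈ P'.map (MulAut.conj g).toMonoidHom := by rw [← hPeq]; exact hu
      obtain ⟨v, hv, rfl⟩ := hu'
      have h1 := (Subgroup.mem_centralizer_iff.mp (hP'x hv)) x (Set.mem_singleton x)
      simp only [MulEquiv.coe_toMonoidHom, MulAut.conj_apply]
      calc g * v * g⁻¹ * (g * x * g⁻¹) = g * (v * x) * g⁻¹ := by group
        _ = g * (x * v) * g⁻¹ := by rw [h1]
        _ = g * x * g⁻¹ * (g * v * g⁻¹) := by group
    have hnN : g * x * g⁻¹ ∈ Subgroup.normalizer ((P : Subgroup G) : Set G) :=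
      Subgroup.centralizer_le_normalizer _ hncent
    have hgoodC : ∀ m : Subgroup.normalizer ((P : Subgroup G) : Set G),
        ConjClasses.mk m = ConjClasses.mk (⟨g * x * g⁻¹, hnN⟩ : Subgroup.normalizer
          ((P : Subgroup G) : Set G)) →
        ¬ p ∣ orderOf m ∧ (m : G) ∈ Subgroup.centralizer ((P : Subgroup G) : Set G) := by
      intro m hm
      have hc : IsConj (⟨g * x * g⁻¹, hnN⟩ : Subgroup.normalizer
          ((P : Subgroup G) : Set G)) m := (ConjClasses.mk_eq_mk_iff_isConj.mp hm).symm
      obtain ⟨h, hh⟩ := isConj_iff.mp hc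
      have hval : (m : G) = (h : G) * (g * x * g⁻¹) * (h : G)⁻¹ := by
        rw [← hh]; simp
      refine ⟨?_, ?_⟩
      · rw [orderOf_eq_of_isConj hc, ← Subgroup.orderOf_coe]
        show ¬ p ∣ orderOf (g * x * g⁻¹)
        rw [orderOf_eq_of_isConj (isConj_iff.mpr ⟨g, rfl⟩)]
        exact hKreg
      · rw [hval]
        exact conj_mem_centralizer_of_normalizer _ h.2 hncent
    refine ⟨⟨ConjClasses.mk ⟨g * x * g⁻¹, hnN⟩, hgoodC⟩, ?_⟩
    apply Subtype.ext
    show ConjClasses.mk ((Quotient.out (ConjClasses.mk (⟨g * x * g⁻¹, hnN⟩ :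
      Subgroup.normalizer ((P : Subgroup G) : Set G))) : Subgroup.normalizer
      ((P : Subgroup G) : Set G)) : G) = K
    have hc : IsConj (Quotient.out (ConjClasses.mk (⟨g * x * g⁻¹, hnN⟩ :
        Subgroup.normalizer ((P : Subgroup G) : Set G)))) (⟨g * x * g⁻¹, hnN⟩ :
        Subgroup.normalizer ((P : Subgroup G) : Set G)) :=
      ConjClasses.mk_eq_mk_iff_isConj.mp (mk_out_conjClasses _)
    obtain ⟨h, hh⟩ := isConj_iff.mp hc
    set q := (Quotient.out (ConjClasses.mk (⟨g * x * g⁻¹, hnN⟩ :
        Subgroup.normalizer ((P : Subgroup G) : Set G)))) with hq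
    rw [← mk_out_conjClasses K, ConjClasses.mk_eq_mk_iff_isConj, isConj_iff]
    refine ⟨g⁻¹ * (h : G), ?_⟩
    have hval : (h : G) * (q : G) * (h : G)⁻¹ = g * x * g⁻¹ := by
      have := congrArg Subtype.val hh
      simpa only [Subgroup.coe_mul, Subgroup.coe_inv] using this
    rw [← hx]
    calc g⁻¹ * (h : G) * (q : G) * (g⁻¹ * (h : G))⁻¹
        = g⁻¹ * ((h : G) * (q : G) * (h : G)⁻¹) * g := by group
      _ = g⁻¹ * (g * x * g⁻¹) * g := by rw [hval]
      _ = x := by group

end classes

end Cfsg.Agent.Helper75.FD
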