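import Mathlib

set_option autoImplicit false
set_option linter.style.haveILetI false
set_option linter.unusedSectionVars false

namespace Cfsg.Agent.Helper75.GP

/-- Weighted fixed-point parity: for a self-map `f` of `2`-power order and an `f`-invariant weight
with values in `ZMod 2`, the total weight equals the weight of the fixed points. -/
theorem sum_zmod2_fixed {α : Type*} [Fintype α] [DecidableEq α] :
    ∀ (e : ℕ) (f : α → α) (_ : ∀ a, f^[2 ^ e] a = a) (w : α → ZMod 2)
      (_ : ∀ a, w (f a) = w a),
      ∑ a, w a = ∑ a ∈ Finset.univ.filter (fun a => f a = a), w a := by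
  intro e
  induction e with
  | zero =>
    intro f hf w _
    have h1 : ∀ a, f a = a := by
      intro a
      simpa using hf a
    rw [Finset.filter_true_of_mem (fun a _ => h1 a)]
  | succ e ih =>
    intro f hf w hw
    have hg : ∀ a, (f^[2])^[2 ^ e] a = a := by
      intro a
      rw [← Function.iterate_mul, ← pow_succ']
      exact hf a
    have hwg : ∀ a, w (f^[2] a) = w a := by
      intro a
      show w (f (f a)) = w a
      rw [hw, hw]
    rw [ih (f^[2]) hg w hwg]
    rw [← Finset.sum_filter_add_sum_filter_not (Finset.univ.filter (fun a => f^[2] a = a))
      (fun a => f a = a)]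
    have h2 : (Finset.univ.filter (fun a => f^[2] a = a)).filter (fun a => f a = a)
        = Finset.univ.filter (fun a => f a = a) := by
      ext a
      simp only [Finset.mem_filter, Finset.mem_univ, true_and]
      constructor
      · intro h; exact h.2
      · intro h
        refine ⟨?_, h⟩
        show f (f a) = a
        rw [h, h]
    rw [h2]
    have h3 : ∑ a ∈ (Finset.univ.filter (fun a => f^[2] a = a)).filter (fun a => ¬ f a = a), w a
        = 0 := by
      refine Finset.sum_involution (fun a _ => f a) ?_ ?_ ?_ ?_
      · intro a _
        rw [hw]
        exact CharTwo.add_self_eq_zero _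
      · intro a ha _
        rw [Finset.mem_filter] at ha
        exact ha.2
      · intro a ha
        simp only [Finset.mem_filter, Finset.mem_univ, true_and] at ha ⊢
        have h4 : f (f a) = a := ha.1
        refine ⟨?_, ?_⟩
        · show f (f (f a)) = f a
          rw [h4]
        · rw [h4]
          exact fun h => ha.2 h.symm
      · intro a ha
        simp only [Finset.mem_filter, Finset.mem_univ, true_and] at ha
        exact ha.1
    rw [h3, add_zero]

end Cfsg.Agent.Helper75.GP
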