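import Cfsg.Agent.Lib.Helper75.GaloisTwist
import Cfsg.Agent.Lib.Helper81.CharInd

set_option autoImplicit false

namespace Cfsg.Agent.Helper75

open Cfsg

universe u

/-- Galois twist of an arbitrary character is a character. -/
theorem galois_twist_char {G : Type u} [Group G] [Finite G] {ψ : G → ℂ} (hψ : IsCharacter G ψ)
    (k : ℕ) (hk : k.Coprime (Nat.card G)) : IsCharacter G (fun g => ψ (g ^ k)) := by
  classical
  have : Fintype (IrrCharacter G) := Fintype.ofFinite _
  obtain ⟨m, hm⟩ := Cfsg.Agent.Helper81.exists_nat_decomp hψ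
  have h1 : (fun g => ψ (g ^ k)) =
      ∑ χ : IrrCharacter G, m χ • (fun g => (χ : G → ℂ) (g ^ k)) := by
    funext g
    rw [hm]
    simp only [Finset.sum_apply, Pi.smul_apply, smul_eq_mul, nsmul_eq_mul, Pi.mul_apply,
      Pi.natCast_apply]
  rw [h1]
  apply Cfsg.Agent.Helper81.isCharacter_sum
  intro χ _
  apply Cfsg.Agent.Helper81.isCharacter_nsmul
  exact Cfsg.Agent.Helper81.IsIrrCharacter.isCharacter (galois_twist_irr χ k hk)

end Cfsg.Agent.Helper75
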