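import Cfsg.Agent.Lib.Helper75.GalPrincipalA
import Cfsg.Agent.Lib.Helper81.CharGalOdd
import Cfsg.Agent.Lib.Helper16.BlockConj
import Cfsg.Agent.Lib.Helper16.Regular
import Cfsg.Agent.Lib.Helper74.RealBlock
import Cfsg.Agent.Lib.Helper74.DefectOrder

set_option autoImplicit false
set_option linter.style.haveILetI false
set_option linter.unusedSectionVars false

namespace Cfsg.Agent.Helper75.GP

open Cfsg
open Cfsg.Agent.Helper77 (omega blockCoeff_eq_sum isPrime_of_isPModular ne_top_of_isPModular)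
open Cfsg.Agent.Helper80 (cconjIrr cconjIrr_apply cconjIrr_cconjIrr)
open Cfsg.Agent.Helper81 (tw tw_apply tw_irr classInner_tw tw_restrict tw_iterate_per GalPow)
open scoped ComplexConjugate

universe u

section twirr

variable {G : Type u} [Group G] [Fintype G]

/-- The Galois twist by the `k`-th power map on irreducible characters. -/
noncomputable def twIrr {k : ℕ} (hk : Nat.Coprime k (Nat.card G)) (ψ : IrrCharacter G) :
    IrrCharacter G :=
  ⟨tw k (ψ : G → ℂ), tw_irr hk ψ.2⟩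

theorem twIrr_apply {k : ℕ} (hk : Nat.Coprime k (Nat.card G)) (ψ : IrrCharacter G) (g : G) :
    (twIrr hk ψ : G → ℂ) g = (ψ : G → ℂ) (g ^ k) := rfl

theorem twIrr_coe {k : ℕ} (hk : Nat.Coprime k (Nat.card G)) (ψ : IrrCharacter G) :
    (twIrr hk ψ : G → ℂ) = tw k (ψ : G → ℂ) := rfl

theorem twIrr_iterate {k : ℕ} (hk : Nat.Coprime k (Nat.card G)) (j : ℕ) (ψ : IrrCharacter G) :
    (((twIrr hk)^[j] ψ : IrrCharacter G) : G → ℂ) = (tw k)^[j] (ψ : G → ℂ) := by
  induction j generalizing ψ with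
  | zero => rfl
  | succ j ih =>
    rw [Function.iterate_succ_apply, ih, Function.iterate_succ_apply]
    rfl

theorem twIrr_iterate_per {k e : ℕ} (hG : GalPow G k e) (ψ : IrrCharacter G) :
    (twIrr hG.cop)^[2 ^ e] ψ = ψ := by
  apply Subtype.ext
  rw [twIrr_iterate, tw_iterate_per hG]

end twirr

section blocks

variable {G : Type u} [Group G] [Fintype G] {M : Ideal AlgInt}

/-- On `2`-regular elements the twist agrees with complex conjugation, so the twisted character
and the conjugate character lie in the same `2`-block. -/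
theorem sameBlock_cconj_twIrr (hM : IsPModular 2 M) {k : ℕ} (hk : Nat.Coprime k (Nat.card G))
    (hk₂ : ∀ g : G, Odd (orderOf g) → g ^ k = g⁻¹) (ψ : IrrCharacter G) :
    SameBlock M (cconjIrr ψ : G → ℂ) (twIrr hk ψ : G → ℂ) := by
  apply Cfsg.Agent.Helper16.sameBlock_of_regular hM
  intro g hg
  have hodd : Odd (orderOf g) := Nat.odd_iff.mpr (Nat.two_dvd_ne_zero.mp hg)
  have h1 : centralChar (cconjIrr ψ : G → ℂ) g = centralChar (twIrr hk ψ : G → ℂ) g := by
    unfold centralChar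
    rw [cconjIrr_apply, cconjIrr_apply, twIrr_apply, twIrr_apply, hk₂ g hodd, one_pow,
      Cfsg.Agent.Helper79.irr_inv, ← Cfsg.Agent.Helper79.irr_inv ψ 1, inv_one]
  rw [h1, sub_self]
  exact Cfsg.Agent.Helper77.memLocalIdeal_zero (ne_top_of_isPModular hM)

theorem sameBlock_cconj {χ ψ : IrrCharacter G}
    (h : SameBlock M (χ : G → ℂ) (ψ : G → ℂ)) :
    SameBlock M (cconjIrr χ : G → ℂ) (cconjIrr ψ : G → ℂ) := by
  intro g
  rw [← Cfsg.Agent.Helper74.RB.centralChar_inv, ← Cfsg.Agent.Helper74.RB.centralChar_inv]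
  exact h g⁻¹

variable (hM : IsPModular 2 M) {k : ℕ} (hk : Nat.Coprime k (Nat.card G))
  (hk₂ : ∀ g : G, Odd (orderOf g) → g ^ k = g⁻¹)

include hM hk₂ in
/-- The block of a twist-fixed irreducible character is closed under complex conjugation. -/
theorem cconj_mem_blockOf {χ : IrrCharacter G} (hχ : twIrr hk χ = χ) {ψ : IrrCharacter G}
    (hψ : ψ ∈ blockOf M (χ : G → ℂ)) : cconjIrr ψ ∈ blockOf M (χ : G → ℂ) := by
  haveI := isPrime_of_isPModular hM
  have h1 : SameBlock M (cconjIrr χ : G → ℂ) (χ : G → ℂ) := by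
    have := sameBlock_cconj_twIrr hM hk hk₂ χ
    rwa [hχ] at this
  exact Cfsg.Agent.Helper77.sameBlock_trans (Cfsg.Agent.Helper77.sameBlock_symm h1)
    (sameBlock_cconj hψ)

include hM hk₂ in
theorem twIrr_mem_blockOf {χ : IrrCharacter G} (hχ : twIrr hk χ = χ) {ψ : IrrCharacter G}
    (hψ : ψ ∈ blockOf M (χ : G → ℂ)) : twIrr hk ψ ∈ blockOf M (χ : G → ℂ) := by
  haveI := isPrime_of_isPModular hM
  exact Cfsg.Agent.Helper77.sameBlock_trans (cconj_mem_blockOf hM hk hk₂ hχ hψ)
    (sameBlock_cconj_twIrr hM hk hk₂ ψ)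

include hM hk₂ in
theorem twIrr_mem_blockOf_iff {χ : IrrCharacter G} (hχ : twIrr hk χ = χ) (ψ : IrrCharacter G) :
    twIrr hk ψ ∈ blockOf M (χ : G → ℂ) ↔ ψ ∈ blockOf M (χ : G → ℂ) := by
  haveI := isPrime_of_isPModular hM
  constructor
  · intro h
    have h1 : cconjIrr ψ ∈ blockOf M (χ : G → ℂ) :=
      Cfsg.Agent.Helper77.sameBlock_trans h
        (Cfsg.Agent.Helper77.sameBlock_symm (sameBlock_cconj_twIrr hM hk hk₂ ψ))
    have h2 := cconj_mem_blockOf hM hk hk₂ hχ h1
    rwa [cconjIrr_cconjIrr] at h2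
  · exact twIrr_mem_blockOf hM hk hk₂ hχ

end blocks

end Cfsg.Agent.Helper75.GP
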