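import Cfsg.Agent.Lib.Helper75.GalPrincipalB

set_option autoImplicit false
set_option linter.style.haveILetI false
set_option linter.unusedSectionVars false

namespace Cfsg.Agent.Helper75.GP

open Cfsg
open Cfsg.Agent.Helper77 (omega blockCoeff_eq_sum isPrime_of_isPModular ne_top_of_isPModular)
open Cfsg.Agent.Helper80 (cconjIrr cconjIrr_apply cconjIrr_cconjIrr)
open Cfsg.Agent.Helper81 (tw tw_apply tw_irr classInner_tw tw_restrict tw_iterate_per GalPow
  conjSet conjSet_finite clifford conjFun conjFun_apply exists_nat_classInner isCharacter_restrict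
  frobenius_reciprocity class_function_expansion indFun_isClassFunction indFun_apply
  extendByZero_apply_coe classInner_conj_symm isClassFunction_of_isCharacter)
open scoped ComplexConjugate

universe u

section weights

variable {G : Type u} [Group G] [Fintype G] (N : Subgroup G) [hN : N.Normal] [Fintype N]

/-- The weight `(ψ(1)/θ(1)) · [ψ_N, θ]` (equal to `e² t` by Clifford theory). -/
noncomputable def wt (ψ : IrrCharacter G) (θ : IrrCharacter N) : ℂ :=
  ((ψ : G → ℂ) 1 / (θ : N → ℂ) 1) * classInner (fun n : N => (ψ : G → ℂ) n) (θ : N → ℂ)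

theorem wt_eq_zero_of_not_over (ψ : IrrCharacter G) (θ : IrrCharacter N)
    (h : classInner (fun n : N => (ψ : G → ℂ) n) (θ : N → ℂ) = 0) : wt N ψ θ = 0 := by
  unfold wt
  rw [h, mul_zero]

theorem irrN_one_ne_zero (θ : IrrCharacter N) : (θ : N → ℂ) 1 ≠ 0 :=
  Cfsg.Agent.Helper79.irr_one_ne_zero θ

/-- The weight is a natural number. -/
theorem exists_nat_wt (ψ : IrrCharacter G) (θ : IrrCharacter N) :
    ∃ m : ℕ, wt N ψ θ = (m : ℂ) := by
  classical
  obtain ⟨e, he⟩ := exists_nat_classInner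
    (isCharacter_restrict N (Cfsg.Agent.Helper81.IsIrrCharacter.isCharacter ψ.2)) θ.2
  by_cases h0 : classInner (fun n : N => (ψ : G → ℂ) n) (θ : N → ℂ) = 0
  · exact ⟨0, by rw [wt_eq_zero_of_not_over N ψ θ h0, Nat.cast_zero]⟩
  · have hcl := clifford N hN ψ.2 θ.2 h0
    have hS := conjSet_finite N hN (θ : N → ℂ)
    rw [finsum_mem_eq_finite_toFinset_sum _ hS] at hcl
    have h1 := congrFun hcl 1
    simp only [Pi.smul_apply, Finset.sum_apply, smul_eq_mul] at h1
    have h2 : ∀ φ ∈ hS.toFinset, φ 1 = (θ : N → ℂ) 1 := by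
      intro φ hφ
      rw [Set.Finite.mem_toFinset] at hφ
      obtain ⟨g, rfl⟩ := hφ
      rw [conjFun_apply]
      exact congrArg (θ : N → ℂ) (Subtype.ext (by simp))
    rw [Finset.sum_congr rfl h2, Finset.sum_const, nsmul_eq_mul, he] at h1
    refine ⟨e * hS.toFinset.card * e, ?_⟩
    unfold wt
    have hθ1 := irrN_one_ne_zero N θ
    have h3 : (ψ : G → ℂ) 1 = (e : ℂ) * ((hS.toFinset.card : ℂ) * (θ : N → ℂ) 1) := by
      rw [← h1]
      simp
    rw [h3, he]
    push_cast
    field_simp

/-- The inner product of `θ` with the restriction equals that of the restriction with `θ`. -/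
theorem classInner_restrict_symm (ψ : IrrCharacter G) (θ : IrrCharacter N) :
    classInner (θ : N → ℂ) (fun n : N => (ψ : G → ℂ) n)
      = classInner (fun n : N => (ψ : G → ℂ) n) (θ : N → ℂ) := by
  obtain ⟨e, he⟩ := exists_nat_classInner
    (isCharacter_restrict N (Cfsg.Agent.Helper81.IsIrrCharacter.isCharacter ψ.2)) θ.2
  rw [classInner_conj_symm, he, Complex.conj_natCast]

/-- The weights over all irreducible characters of `G` add up to the index. -/
theorem sum_wt [Fintype (IrrCharacter G)] (θ : IrrCharacter N) :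
    ∑ ψ : IrrCharacter G, wt N ψ θ = (N.index : ℂ) := by
  classical
  have hcf : IsClassFunction G (indFun N (θ : N → ℂ)) := indFun_isClassFunction N _
  have hexp := class_function_expansion hcf
  have h1 := congrFun hexp 1
  simp only [Finset.sum_apply, Pi.smul_apply, smul_eq_mul] at h1
  have hN0 : (Nat.card N : ℂ) ≠ 0 := by exact_mod_cast (Nat.card_pos (α := N)).ne'
  have hθ1 := irrN_one_ne_zero N θ
  have hind : indFun N (θ : N → ℂ) 1 = (N.index : ℂ) * (θ : N → ℂ) 1 := by
    rw [indFun_apply]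
    have h2 : ∀ x : G, extendByZero N (θ : N → ℂ) (x⁻¹ * 1 * x) = (θ : N → ℂ) 1 := by
      intro x
      have h3 : x⁻¹ * 1 * x = ((1 : N) : G) := by simp
      rw [h3, extendByZero_apply_coe]
    simp only [h2, Finset.sum_const, Finset.card_univ, nsmul_eq_mul]
    rw [← Nat.card_eq_fintype_card, ← Subgroup.card_mul_index N]
    push_cast
    field_simp
  have hco : ∀ ψ : IrrCharacter G, classInner (indFun N (θ : N → ℂ)) (ψ : G → ℂ)
      = classInner (fun n : N => (ψ : G → ℂ) n) (θ : N → ℂ) := by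
    intro ψ
    rw [frobenius_reciprocity N _
      (isClassFunction_of_isCharacter (Cfsg.Agent.Helper81.IsIrrCharacter.isCharacter ψ.2))]
    exact classInner_restrict_symm N ψ θ
  rw [hind] at h1
  simp only [hco] at h1
  have h4 : ∑ ψ : IrrCharacter G, wt N ψ θ
      = (∑ ψ : IrrCharacter G, classInner (fun n : N => (ψ : G → ℂ) n) (θ : N → ℂ)
          * (ψ : G → ℂ) 1) / (θ : N → ℂ) 1 := by
    rw [Finset.sum_div]
    refine Finset.sum_congr rfl fun ψ _ => ?_
    unfold wt
    ring
  rw [h4, ← h1]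
  field_simp

/-- Invariance of the weight under the twist, when `θ` is twist-fixed. -/
theorem wt_twIrr {k : ℕ} (hk : Nat.Coprime k (Nat.card G)) (ψ : IrrCharacter G)
    (θ : IrrCharacter N) (hθ : tw k (θ : N → ℂ) = (θ : N → ℂ)) :
    wt N (twIrr hk ψ) θ = wt N ψ θ := by
  unfold wt
  have h1 : (twIrr hk ψ : G → ℂ) 1 = (ψ : G → ℂ) 1 := by rw [twIrr_apply, one_pow]
  have hkN : Nat.Coprime k (Nat.card N) :=
    Nat.Coprime.coprime_dvd_right (Subgroup.card_subgroup_dvd_card N) hk
  have h2 : (fun n : N => (twIrr hk ψ : G → ℂ) n) = tw k (fun n : N => (ψ : G → ℂ) n) :=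
    tw_restrict N k _
  have h3 : classInner (tw k (fun n : N => (ψ : G → ℂ) n)) (θ : N → ℂ)
      = classInner (fun n : N => (ψ : G → ℂ) n) (θ : N → ℂ) := by
    have := classInner_tw hkN (fun n : N => (ψ : G → ℂ) n) (θ : N → ℂ)
    rwa [hθ] at this
  rw [h1, h2, h3]

/-- The central character of `θ` on the restriction to `N` of the idempotent coefficients of a
set `B` of irreducible characters of `G`. -/
theorem omega_restrict_blockCoeff (B : Set (IrrCharacter G)) (θ : IrrCharacter N) :
    omega (θ : N → ℂ) (fun n : N => blockCoeff B (n : G)) =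
      (N.index : ℂ)⁻¹ * ∑ ψ ∈ (Set.toFinite B).toFinset, wt N ψ θ := by
  classical
  have hθ1 := irrN_one_ne_zero N θ
  have hG0 : (Nat.card G : ℂ) ≠ 0 := by exact_mod_cast (Nat.card_pos (α := G)).ne'
  have hN0 : (Nat.card N : ℂ) ≠ 0 := by exact_mod_cast (Nat.card_pos (α := N)).ne'
  have hI0 : (N.index : ℂ) ≠ 0 := by
    have : N.index ≠ 0 := Subgroup.index_ne_zero_of_finite
    exact_mod_cast this
  have hsum : ∀ ψ : IrrCharacter G, ∑ n : N, conj ((ψ : G → ℂ) n) * (θ : N → ℂ) n
      = (Nat.card N : ℂ) * classInner (fun n : N => (ψ : G → ℂ) n) (θ : N → ℂ) := by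
    intro ψ
    rw [← classInner_restrict_symm N ψ θ]
    unfold classInner
    rw [← mul_assoc, mul_inv_cancel₀ hN0, one_mul]
    refine Finset.sum_congr rfl fun n _ => ?_
    ring
  unfold omega
  have key : ∑ n : N, blockCoeff B (n : G) * (θ : N → ℂ) n
      = (Nat.card G : ℂ)⁻¹ * ∑ ψ ∈ (Set.toFinite B).toFinset, (ψ : G → ℂ) 1 *
          ((Nat.card N : ℂ) * classInner (fun n : N => (ψ : G → ℂ) n) (θ : N → ℂ)) := by
    simp_rw [blockCoeff_eq_sum, Finset.mul_sum, Finset.sum_mul]
    rw [Finset.sum_comm]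
    refine Finset.sum_congr rfl fun ψ _ => ?_
    rw [← hsum ψ, Finset.mul_sum, Finset.mul_sum]
    refine Finset.sum_congr rfl fun n _ => ?_
    ring
  rw [key]
  have hcard : (Nat.card G : ℂ) = (Nat.card N : ℂ) * (N.index : ℂ) := by
    rw [← Subgroup.card_mul_index N]
    push_cast
    rfl
  rw [hcard, Finset.mul_sum, Finset.mul_sum, Finset.sum_div]
  refine Finset.sum_congr rfl fun ψ _ => ?_
  unfold wt
  field_simp

end weights

end Cfsg.Agent.Helper75.GP
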