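import Cfsg.Agent.Lib.Helper75.GalPrincipalC
import Cfsg.Agent.Lib.Helper16.Cover
import Cfsg.Agent.S4517

set_option autoImplicit false
set_option linter.style.haveILetI false
set_option linter.unusedSectionVars false

namespace Cfsg.Agent.Helper75.GP

open Cfsg
open Cfsg.Agent.Helper77 (omega blockCoeff_eq_sum isPrime_of_isPModular ne_top_of_isPModular
  trivIrr trivIrr_apply isPBlock_blockOf mem_blockOf_self isPBlock_principalBlock
  trivIrr_mem_principalBlock)
open Cfsg.Agent.Helper80 (cconjIrr cconjIrr_apply cconjIrr_cconjIrr)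
open Cfsg.Agent.Helper81 (tw tw_apply tw_irr classInner_tw tw_restrict tw_iterate_per GalPow
  tw_over_unique exists_nat_classInner isCharacter_restrict)
open scoped ComplexConjugate

universe u

section secUnder

variable {G : Type u} [Group G] [Fintype G] (N : Subgroup G) [hN : N.Normal] [Fintype N]
  {p : ℕ} {M : Ideal AlgInt}

/-- Characters of a normal subgroup lying under a character of the principal block lie in the
principal block. -/
theorem mem_principal_of_under (hM : IsPModular p M) (χ : IrrCharacter G) (θ : IrrCharacter N)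
    (hover : classInner (fun n : N => (χ : G → ℂ) n) (θ : N → ℂ) ≠ 0)
    (hχ : χ ∈ principalBlock M G) : θ ∈ principalBlock M N := by
  haveI := isPrime_of_isPModular hM
  have hb : IsPBlock M (principalBlock M N) := isPBlock_principalBlock M
  have h1 : classInner (fun n : N => (trivIrr G : G → ℂ) n) (trivIrr N : N → ℂ) ≠ 0 :=
    Cfsg.Agent.Helper16.classInner_trivIrr_ne_zero N (trivIrr G) (fun n => rfl)
  have hmem := Cfsg.Agent.Helper16.mem_conjClosure_of_sameBlock N hM hb (trivIrr G) χ hχ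
    (trivIrr N) θ (trivIrr_mem_principalBlock M) h1 hover
  rw [Cfsg.Agent.Helper16.mem_conjClosure] at hmem
  obtain ⟨g, hg⟩ := hmem
  have h2 := Cfsg.Agent.Helper16.sameBlock_conjIrr N g⁻¹ (trivIrr N)
    (Cfsg.Agent.Helper16.conjIrr N g θ) hg
  rw [Cfsg.Agent.Helper16.conjIrr_trivIrr, Cfsg.Agent.Helper16.conjIrr_inv_conjIrr] at h2
  exact h2

end secUnder

section secOver

variable {G : Type u} [Group G] [Fintype G] (N : Subgroup G) [hN : N.Normal] [Fintype N]
  {M : Ideal AlgInt}

/-- **Key step**: a twist-fixed irreducible character of `G` lying over a twist-fixed character in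
the principal `2`-block of a normal subgroup of odd index lies in the principal `2`-block. -/
theorem mem_principal_of_over (hM : IsPModular 2 M) (hidx : Odd N.index) {k e : ℕ}
    (hG : GalPow G k e) (θ : IrrCharacter N) (hθ : tw k (θ : N → ℂ) = (θ : N → ℂ))
    (χ : IrrCharacter G) (hχ : twIrr hG.cop χ = χ)
    (hover : classInner (fun n : N => (χ : G → ℂ) n) (θ : N → ℂ) ≠ 0)
    (hθB : θ ∈ principalBlock M N) : χ ∈ principalBlock M G := by
  classical
  haveI := isPrime_of_isPModular hM
  haveI : Fact (Nat.Prime 2) := ⟨Nat.prime_two⟩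
  haveI : Fintype (IrrCharacter G) := @Fintype.ofFinite _ Cfsg.Agent.Helper81.irr_finite
  have hne := ne_top_of_isPModular hM
  set B := blockOf M (χ : G → ℂ) with hBdef
  have hB : IsPBlock M B := isPBlock_blockOf χ
  have hχB : χ ∈ B := mem_blockOf_self χ
  -- weights
  choose m hm using fun ψ : IrrCharacter G => exists_nat_wt N ψ θ
  have hmσ : ∀ ψ, m (twIrr hG.cop ψ) = m ψ := by
    intro ψ
    have h1 := wt_twIrr N hG.cop ψ θ hθ
    rw [hm, hm] at h1
    exact_mod_cast h1
  have hper : ∀ ψ, (twIrr hG.cop)^[2 ^ e] ψ = ψ := twIrr_iterate_per hG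
  have hfix : ∀ ψ, twIrr hG.cop ψ = ψ → ψ ≠ χ → m ψ = 0 := by
    intro ψ hψ hne'
    by_contra h0
    apply hne'
    have hov : classInner (fun n : N => (ψ : G → ℂ) n) (θ : N → ℂ) ≠ 0 := by
      intro h
      apply h0
      have h1 := wt_eq_zero_of_not_over N ψ θ h
      rw [hm] at h1
      exact_mod_cast h1
    apply Subtype.ext
    exact tw_over_unique N hG hidx θ.2 ψ.2 χ.2 (congrArg Subtype.val hψ)
      (congrArg Subtype.val hχ) hov hover
  have hpar : ∀ (S : Set (IrrCharacter G)), (∀ ψ, twIrr hG.cop ψ ∈ S ↔ ψ ∈ S) → χ ∈ S →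
      (∑ ψ : IrrCharacter G, if ψ ∈ S then (m ψ : ZMod 2) else 0) = (m χ : ZMod 2) := by
    intro S hS hχS
    rw [sum_zmod2_fixed e (twIrr hG.cop) hper (fun ψ => if ψ ∈ S then (m ψ : ZMod 2) else 0)
      (by intro ψ; simp only [hS, hmσ])]
    rw [Finset.sum_eq_single χ]
    · rw [if_pos hχS]
    · intro ψ hψ hne'
      rw [Finset.mem_filter] at hψ
      rw [hfix ψ hψ.2 hne']
      simp
    · intro h
      exfalso
      apply h
      rw [Finset.mem_filter]
      exact ⟨Finset.mem_univ _, hχ⟩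
  -- the total
  have hmχ : (m χ : ZMod 2) = 1 := by
    have h0 := hpar Set.univ (fun ψ => by simp) (Set.mem_univ _)
    simp only [Set.mem_univ, if_true] at h0
    have h1 := sum_wt N θ (G := G)
    simp only [hm] at h1
    have h2 : ∑ ψ : IrrCharacter G, m ψ = N.index := by exact_mod_cast h1
    rw [← h0, ← Nat.cast_sum, h2]
    obtain ⟨j, hj⟩ := hidx
    rw [hj]
    push_cast
    have : (2 : ZMod 2) = 0 := rfl
    rw [this, zero_mul, zero_add]
  set SB : ℕ := ∑ ψ ∈ (Set.toFinite B).toFinset, m ψ with hSB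
  have hBodd : ((SB : ℕ) : ZMod 2) = 1 := by
    rw [← hmχ, ← hpar B (twIrr_mem_blockOf_iff hM hG.cop hG.inv hχ) hχB, hSB, Nat.cast_sum,
      ← Finset.sum_filter]
    congr 1
    ext ψ
    simp
  have hSBodd : ¬ 2 ∣ SB := by
    intro h
    have : ((SB : ℕ) : ZMod 2) = 0 := (ZMod.natCast_eq_zero_iff SB 2).mpr h
    rw [hBodd] at this
    exact one_ne_zero this
  have hidx2 : ¬ 2 ∣ N.index := by
    rw [← Nat.not_even_iff_odd] at hidx
    exact fun h => hidx (even_iff_two_dvd.mpr h)
  have hI0 : (N.index : ℂ) ≠ 0 := by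
    have : N.index ≠ 0 := Subgroup.index_ne_zero_of_finite
    exact_mod_cast this
  have hInot : ¬ MemLocalIdeal M ((N.index : ℕ) : ℂ) := by
    rw [Cfsg.Agent.Helper77.memLocalIdeal_natCast_iff hM]
    exact hidx2
  -- c_θ is a local unit
  set a : N → ℂ := fun n : N => blockCoeff B (n : G) with ha
  have hcθ : omega (θ : N → ℂ) a = (N.index : ℂ)⁻¹ * (SB : ℂ) := by
    rw [ha, omega_restrict_blockCoeff N B θ, hSB]
    push_cast
    simp only [hm]
  have hcθnot : ¬ MemLocalIdeal M (omega (θ : N → ℂ) a) := by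
    intro h
    rw [hcθ] at h
    have h1 := Cfsg.Agent.Helper77.memLocalIdeal_mul_left
      (Cfsg.Agent.Helper77.memLocalRing_natCast (M := M) N.index) h
    rw [← mul_assoc, mul_inv_cancel₀ hI0, one_mul,
      Cfsg.Agent.Helper77.memLocalIdeal_natCast_iff hM] at h1
    exact hSBodd h1
  -- compare with the trivial character
  have hecl := Cfsg.Agent.Helper77.isClassFunction_blockCoeff B
  have hacl : IsClassFunction N a := fun y x => hecl (y : G) (x : G)
  have haR : Cfsg.Agent.Helper77.IsRValued M a := fun n =>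
    Cfsg.Agent.Helper77.memLocalRing_blockCoeff hB _
  have hsb : SameBlock M (θ : N → ℂ) (trivIrr N : N → ℂ) :=
    Cfsg.Agent.Helper77.sameBlock_symm hθB
  have hdiff := Cfsg.Agent.Helper77.memLocalIdeal_omega_sub θ.2 (trivIrr N).2 hsb hacl haR
  have hc1not : ¬ MemLocalIdeal M (omega (trivIrr N : N → ℂ) a) := by
    intro h
    apply hcθnot
    have := Cfsg.Agent.Helper77.memLocalIdeal_add hdiff h
    rwa [sub_add_cancel] at this
  -- hence an odd-degree character in B
  have hex : ∃ ψ ∈ B, ¬ 2 ∣ charDegree (ψ : G → ℂ) := by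
    by_contra hcon
    push Not at hcon
    apply hc1not
    rw [ha, omega_restrict_blockCoeff N B (trivIrr N)]
    apply Cfsg.Agent.Helper77.memLocalIdeal_mul_left
    · exact Cfsg.Agent.Helper77.memLocalRing_inv
        (Cfsg.Agent.Helper77.memLocalRing_natCast N.index) hInot
    · apply Cfsg.Agent.Helper77.memLocalIdeal_sum
      intro ψ hψ
      rw [Set.Finite.mem_toFinset] at hψ
      obtain ⟨e', he'⟩ := exists_nat_classInner
        (isCharacter_restrict N (Cfsg.Agent.Helper81.IsIrrCharacter.isCharacter ψ.2)) (trivIrr N).2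
      unfold wt
      rw [he', trivIrr_apply, div_one, Cfsg.Agent.Helper80.irr_one ψ]
      have h2 : ((charDegree (ψ : G → ℂ) : ℂ) * (e' : ℂ)) = ((charDegree (ψ : G → ℂ) * e' : ℕ) : ℂ) := by
        push_cast; rfl
      rw [h2, Cfsg.Agent.Helper77.memLocalIdeal_natCast_iff hM]
      exact dvd_mul_of_dvd_left (hcon ψ hψ) _
  obtain ⟨ψ₀, hψ₀B, hψ₀⟩ := hex
  have hdef : blockDefect 2 B = (Nat.card G).factorization 2 := by
    rw [Cfsg.Agent.Helper74.DO.blockDefect_eq]
    have h1 := Cfsg.Agent.Helper74.DO.minVal_le (p := 2) hψ₀B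
    rw [Nat.factorization_eq_zero_of_not_dvd hψ₀] at h1
    have h2 : Cfsg.Agent.Helper74.DO.minVal 2 B = 0 := Nat.le_zero.mp h1
    rw [h2, Nat.sub_zero]
  have hprin := Cfsg.Agent.S4517.result M hM k hG.cop hG.inv B hB hdef (by
    intro χ' hχ'
    exact ⟨twIrr hG.cop χ', twIrr_mem_blockOf hM hG.cop hG.inv hχ hχ', fun g => rfl⟩)
  rw [← hprin]
  exact hχB

end secOver

end Cfsg.Agent.Helper75.GP
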