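import Cfsg.Agent.Lib.Helper75.GalPrincipalC

set_option autoImplicit false
set_option linter.style.haveILetI false
set_option linter.unusedSectionVars false

namespace Cfsg.Agent.Helper75.GP

open Cfsg
open Cfsg.Agent.Helper77 (omega isPrime_of_isPModular ne_top_of_isPModular)
open Cfsg.Agent.Helper81 (conjSet conjSet_finite clifford conjFun conjFun_apply
  exists_nat_classInner isCharacter_restrict)
open scoped ComplexConjugate

universe u

section weights2

variable {G : Type u} [Group G] [Fintype G] (N : Subgroup G) [hN : N.Normal] [Fintype N]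

/-- The number of `G`-conjugates of a function on the normal subgroup `N`. -/
noncomputable def conjCount (θ : IrrCharacter N) : ℕ :=
  (conjSet_finite N hN (θ : N → ℂ)).toFinset.card

/-- Explicit Clifford form of the weight and the degree of a character over `θ`. -/
theorem wt_eq_of_over (ψ : IrrCharacter G) (θ : IrrCharacter N) (e : ℕ)
    (he : classInner (fun n : N => (ψ : G → ℂ) n) (θ : N → ℂ) = (e : ℂ)) (h0 : e ≠ 0) :
    wt N ψ θ = ((e * conjCount N θ * e : ℕ) : ℂ) ∧
      charDegree (ψ : G → ℂ) = e * conjCount N θ * charDegree (θ : N → ℂ) := by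
  classical
  have h0' : classInner (fun n : N => (ψ : G → ℂ) n) (θ : N → ℂ) ≠ 0 := by
    rw [he]
    exact_mod_cast h0
  have hcl := clifford N hN ψ.2 θ.2 h0'
  have hS := conjSet_finite N hN (θ : N → ℂ)
  rw [finsum_mem_eq_finite_toFinset_sum _ hS] at hcl
  have h1 := congrFun hcl 1
  simp only [Pi.smul_apply, Finset.sum_apply, smul_eq_mul] at h1
  have h2 : ∀ φ ∈ hS.toFinset, φ 1 = (θ : N → ℂ) 1 := by
    intro φ hφ
    rw [Set.Finite.mem_toFinset] at hφ
    obtain ⟨g, rfl⟩ := hφ
    rw [conjFun_apply]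
    exact congrArg (θ : N → ℂ) (Subtype.ext (by simp))
  rw [Finset.sum_congr rfl h2, Finset.sum_const, nsmul_eq_mul, he] at h1
  have hθ1 := irrN_one_ne_zero N θ
  have h3 : (ψ : G → ℂ) 1 = (e : ℂ) * ((conjCount N θ : ℂ) * (θ : N → ℂ) 1) := by
    have h5 : (ψ : G → ℂ) ((1 : N) : G) = (ψ : G → ℂ) 1 := by rw [Subgroup.coe_one]
    rw [← h5, h1]
    rfl
  constructor
  · unfold wt
    rw [h3, he]
    push_cast
    field_simp
  · have h4 : ((charDegree (ψ : G → ℂ) : ℕ) : ℂ)
        = ((e * conjCount N θ * charDegree (θ : N → ℂ) : ℕ) : ℂ) := by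
      rw [← Cfsg.Agent.Helper80.irr_one ψ, h3, Cfsg.Agent.Helper80.irr_one θ]
      push_cast
      ring
    exact_mod_cast h4

end weights2

end Cfsg.Agent.Helper75.GP
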