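import Cfsg.Agent.Lib.Helper75.ThreePrimes

set_option autoImplicit false

/-! JPC server (helper35, S4150): pieces (N1) `three_primes_large` and (N2) `exists_primes_gap`,
statements verbatim from `tools/jpc_sigs_helper35.lean.txt`. -/

namespace Cfsg.Agent.Helper75.JPC

open Equiv Equiv.Perm MulAction Subgroup

universe u

/-- (N1) THREE primes in (n, 2n] for n ≥ 512. -/
theorem three_primes_large (n : ℕ) (hn : 512 ≤ n) :
    ∃ p₁ p₂ p₃ : ℕ, p₁.Prime ∧ p₂.Prime ∧ p₃.Prime ∧ n < p₁ ∧ p₁ < p₂ ∧ p₂ < p₃ ∧ p₃ ≤ 2 * n :=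
  Cfsg.Agent.Helper75.ThreePrimes.exists_three_primes_large n hn

/-- (N2) primes `p < q` in `(m/2, m]` with `p + 4 ≤ q`, for `m ≥ 17`. -/
theorem exists_primes_gap (m : ℕ) (hm : 17 ≤ m) :
    ∃ p q : ℕ, p.Prime ∧ q.Prime ∧ m < 2 * p ∧ p + 4 ≤ q ∧ q ≤ m :=
  Cfsg.Agent.Helper75.ThreePrimes.exists_two_primes_gap m hm

end Cfsg.Agent.Helper75.JPC
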