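import Mathlib
import Cfsg.Prelude.Def_Local
import Cfsg.Agent.Lib.Helper24.PLength
import Cfsg.Agent.Lib.Helper9.WielandtBasic
import Cfsg.Agent.Lib.Helper76.SolvPSolv
import Cfsg.Agent.Lib.Helper1.Hall
import Cfsg.Agent.Lib.Helper1.SysNorm
import Cfsg.Agent.Lib.Helper1.Carter
import Cfsg.Agent.S4602

/-!
# Fusion in nilpotent Hall subgroups (towards Bender–Glauberman, statement S1384)

* `fusion_of_plength_one`  (Lemma A): in a finite solvable group `L` having `r`-length one for every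
  prime `r` dividing the order of a nilpotent Hall subgroup `K`, the normalizer of `K` controls
  fusion of elements of `K`.
-/

set_option autoImplicit false
open Cfsg

namespace Cfsg.Agent.Helper75.NHF

open Subgroup
open scoped Pointwise
open Cfsg.Agent.Helper9.Wielandt

universe u

section LemmaA

variable {L : Type u} [Group L] [Finite L]

/-- **Lemma A.** Let `K` be a nilpotent Hall subgroup of the finite solvable group `L`, and assume
`L` has `r`-length at most one for each prime divisor `r` of `|K|`. Then `N_L(K)` controls fusion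
in `K`. -/
theorem fusion_of_plength_one [Group.IsSolvable L] (K : Subgroup L) (hKn : Group.IsNilpotent K)
    (hHall : (Nat.card K).Coprime K.index)
    (hpl : ∀ (r : ℕ) [Fact r.Prime], r ∣ Nat.card K → PLengthLE r 1 L) :
    ∀ x ∈ K, ∀ c : L, c * x * c⁻¹ ∈ K →
      ∃ n ∈ normalizer (K : Set L), n * x * n⁻¹ = c * x * c⁻¹ := by
  classical
  -- the intersection of the `r'`-cores
  set O : Subgroup L := ⨅ r : {r : ℕ // r.Prime ∧ r ∣ Nat.card K}, pPrimeCore r.1 L with hO
  have hOn : O.Normal := Subgroup.normal_iInf_normal (fun r => inferInstance)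
  have hO_le : ∀ (r : ℕ), r.Prime → r ∣ Nat.card K → O ≤ pPrimeCore r L := by
    intro r hr hrK
    exact iInf_le (fun r : {r : ℕ // r.Prime ∧ r ∣ Nat.card K} => pPrimeCore r.1 L) ⟨r, hr, hrK⟩
  have hO_mem : ∀ z : L, (∀ r : ℕ, r.Prime → r ∣ Nat.card K → z ∈ pPrimeCore r L) → z ∈ O := by
    intro z hz
    rw [hO, Subgroup.mem_iInf]
    rintro ⟨r, hr, hrK⟩
    exact hz r hr hrK
  -- `K ∩ O = 1`
  have hKO : K ⊓ O = ⊥ := by
    rw [← disjoint_iff]
    apply Subgroup.disjoint_of_coprime_natCard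
    apply Nat.Coprime.symm
    apply Nat.coprime_of_dvd
    intro r hr hrO hrK
    have h1 : Nat.card O ∣ Nat.card (pPrimeCore r L) := Subgroup.card_dvd_of_le (hO_le r hr hrK)
    have h2 : (Nat.card (pPrimeCore r L)).Coprime r := Helper55.pPrimeCore_coprime r
    have h3 : r ∣ Nat.gcd (Nat.card (pPrimeCore r L)) r := Nat.dvd_gcd (hrO.trans h1) dvd_rfl
    rw [h2] at h3
    exact hr.one_lt.ne' (Nat.dvd_one.mp h3)
  -- Sylow subgroups of `K` of a different prime lie in the `r'`-core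
  have hcross : ∀ (r s : ℕ) [Fact r.Prime] [Fact s.Prime], r ≠ s → r ∣ Nat.card K →
      s ∣ Nat.card K → sylOf K s ≤ pPrimeCore r L := by
    intro r s _ _ hrs hrK hsK
    have hSr := card_sylOf_of_hall hHall hrK
    have hSs := card_sylOf_of_hall hHall hsK
    have := S4602.sylow_le_pPrimeCore r s hrs (Helper76.isPSolvable_of_isSolvable' r)
      (Sylow.ofCard (sylOf K r) hSr) (Sylow.ofCard (sylOf K s) hSs)
      ((sylOf_le K r).trans (le_normalizer_sylOf hKn s))
    exact this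
  -- conjugates of the Sylow subgroups of `K` stay inside `O K`
  have hconjS : ∀ (r : ℕ) [Fact r.Prime], r ∣ Nat.card K → ∀ c : L, ∀ z ∈ sylOf K r,
      c * z * c⁻¹ ∈ O ⊔ K := by
    intro r hr hrK c z hz
    have hSr := card_sylOf_of_hall hHall hrK
    obtain ⟨-, hnorm, -, -, -⟩ := Helper24.plength_one_structure r (hpl r hrK)
      (Sylow.ofCard (sylOf K r) hSr)
    have hz1 : c * z * c⁻¹ ∈ pPrimeCore r L ⊔ sylOf K r :=
      hnorm.conj_mem z (Subgroup.mem_sup_right hz) c
    have hz2 : c * z * c⁻¹ ∈ ((pPrimeCore r L ⊔ sylOf K r : Subgroup L) : Set L) := hz1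
    rw [Subgroup.normal_mul] at hz2
    obtain ⟨o, ho, s, hs, hos⟩ := Set.mem_mul.mp hz2
    have hoO : o ∈ O := by
      apply hO_mem
      intro t ht htK
      by_cases hrt : t = r
      · subst hrt; exact ho
      · have : Fact t.Prime := ⟨ht⟩
        have hle := hcross t r hrt htK hrK
        have h1 : c * z * c⁻¹ ∈ pPrimeCore t L :=
          (inferInstance : (pPrimeCore t L).Normal).conj_mem z (hle hz) c
        have h2 : o = c * z * c⁻¹ * s⁻¹ := by rw [← hos]; group
        rw [h2]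
        exact Subgroup.mul_mem _ h1 (Subgroup.inv_mem _ (hle hs))
    rw [← hos]
    exact Subgroup.mul_mem _ (Subgroup.mem_sup_left hoO)
      (Subgroup.mem_sup_right (sylOf_le K r hs))
  -- conjugates of `K` stay inside `O K`
  have hconjK : ∀ c : L, MulAut.conj c • K ≤ O ⊔ K := by
    intro c
    have h1 : K ≤ (O ⊔ K).comap (MulAut.conj c).toMonoidHom := by
      apply le_of_sylOf_le
      intro r hr hrK z hz
      exact hconjS r hrK c z hz
    intro z hz
    obtain ⟨w, hw, rfl⟩ := Helper19.mem_cj.1 hz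
    exact h1 hw
  intro x hx c hcx
  -- Hall conjugacy in `O K`
  have hKM : K ≤ O ⊔ K := le_sup_right
  obtain ⟨y, hyM, hy⟩ := Helper1.SysNorm.hall_conj_in (Y := O ⊔ K) (X := K)
    (X' := MulAut.conj c • K) hKM (hconjK c) (Nat.card K) (K.relIndex (O ⊔ K))
    (by
      rw [← (K.subgroupOf (O ⊔ K)).card_mul_index]
      congr 1
      exact (Nat.card_congr (Subgroup.subgroupOfEquivOfLe hKM).toEquiv))
    (Nat.Coprime.coprime_dvd_right (Subgroup.relIndex_dvd_index_of_le hKM) hHall) rfl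
    (Nat.card_congr (Subgroup.equivSMul (MulAut.conj c) K).toEquiv).symm
  have hyM' : y ∈ ((O ⊔ K : Subgroup L) : Set L) := hyM
  rw [Subgroup.normal_mul] at hyM'
  obtain ⟨o, ho, k, hk, hok⟩ := Set.mem_mul.mp hyM'
  have hn0 : y⁻¹ * c ∈ normalizer (K : Set L) := by
    apply mem_normalizer_of_cj_eq
    rw [map_mul, mul_smul, ← hy, ← mul_smul, ← map_mul, inv_mul_cancel, map_one, one_smul]
  set n := k * (y⁻¹ * c) with hn
  have hnN : n ∈ normalizer (K : Set L) :=
    Subgroup.mul_mem _ (Subgroup.le_normalizer hk) hn0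
  have hc : c = o * n := by rw [hn, ← hok]; group
  refine ⟨n, hnN, ?_⟩
  set x' := n * x * n⁻¹ with hx'
  have hx'K : x' ∈ K := (Subgroup.mem_normalizer_iff.mp hnN x).mp hx
  have hcx' : c * x * c⁻¹ = o * x' * o⁻¹ := by rw [hc, hx']; group
  have hw : o * x' * o⁻¹ * x'⁻¹ ∈ K ⊓ O := by
    refine ⟨?_, ?_⟩
    · rw [← hcx']; exact Subgroup.mul_mem _ hcx (Subgroup.inv_mem _ hx'K)
    · have : o * x' * o⁻¹ * x'⁻¹ = o * (x' * o⁻¹ * x'⁻¹) := by group
      rw [this]
      exact Subgroup.mul_mem _ ho (hOn.conj_mem _ (Subgroup.inv_mem _ ho) _)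
  rw [hKO, Subgroup.mem_bot] at hw
  rw [hcx']
  have : o * x' * o⁻¹ = (o * x' * o⁻¹ * x'⁻¹) * x' := by group
  rw [this, hw, one_mul]

end LemmaA

section Relative

variable {G : Type u} [Group G] [Finite G]

/-- **Lemma A, relative form.** -/
theorem fusion_rel (L K : Subgroup G) (hKL : K ≤ L) (hKn : Group.IsNilpotent K)
    (hHall : (Nat.card K).Coprime (K.relIndex L)) (hsolv : Group.IsSolvable L)
    (hpl : ∀ (r : ℕ) [Fact r.Prime], PLengthLE r 1 L) :
    ∀ x ∈ K, ∀ c ∈ L, c * x * c⁻¹ ∈ K →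
      ∃ n ∈ L, n ∈ normalizer (K : Set G) ∧ n * x * n⁻¹ = c * x * c⁻¹ := by
  intro x hx c hc hcx
  have hKn' : Group.IsNilpotent (K.subgroupOf L) :=
    Group.nilpotent_of_mulEquiv (Subgroup.subgroupOfEquivOfLe hKL).symm
  have hcard : Nat.card (K.subgroupOf L) = Nat.card K :=
    Nat.card_congr (Subgroup.subgroupOfEquivOfLe hKL).toEquiv
  obtain ⟨n, hn, hnx⟩ := fusion_of_plength_one (K.subgroupOf L) hKn'
    (by rw [hcard]; exact hHall) (fun r _ _ => hpl r) ⟨x, hKL hx⟩
    (by rw [Subgroup.mem_subgroupOf]; exact hx) ⟨c, hc⟩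
    (by rw [Subgroup.mem_subgroupOf]; exact hcx)
  refine ⟨(n : G), n.2, ?_, ?_⟩
  · rw [Subgroup.mem_normalizer_iff]
    intro k
    constructor
    · intro hk
      have h1 : (⟨k, hKL hk⟩ : L) ∈ K.subgroupOf L := by
        rw [Subgroup.mem_subgroupOf]; exact hk
      have h2 := (Subgroup.mem_normalizer_iff.mp hn ⟨k, hKL hk⟩).mp h1
      rw [Subgroup.mem_subgroupOf] at h2
      exact h2
    · intro hk
      have hkL : k ∈ L := by
        have h1 : k = (n : G)⁻¹ * ((n : G) * k * (n : G)⁻¹) * (n : G) := by group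
        rw [h1]
        exact L.mul_mem (L.mul_mem (L.inv_mem n.2) (hKL hk)) n.2
      have h2 : n * (⟨k, hkL⟩ : L) * n⁻¹ ∈ K.subgroupOf L := by
        rw [Subgroup.mem_subgroupOf]; exact hk
      have h3 := (Subgroup.mem_normalizer_iff.mp hn ⟨k, hkL⟩).mpr h2
      rw [Subgroup.mem_subgroupOf] at h3
      exact h3
  · have := congrArg (fun z : L => (z : G)) hnx
    exact this

/-- Hall conjugacy inside a solvable subgroup. -/
theorem hall_conj_rel (N A B : Subgroup G) (hsolv : Group.IsSolvable N) (hA : A ≤ N)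
    (hB : B ≤ N) (hcard : Nat.card B = Nat.card A)
    (hcop : (Nat.card A).Coprime (A.relIndex N)) :
    ∃ c ∈ N, MulAut.conj c • B = A := by
  obtain ⟨y, hy⟩ := Helper1.hall_conj (G := N) (Nat.card A) (A.relIndex N)
    (by
      rw [← (A.subgroupOf N).card_mul_index]
      congr 1
      exact (Nat.card_congr (Subgroup.subgroupOfEquivOfLe hA).toEquiv))
    hcop (B.subgroupOf N) (A.subgroupOf N)
    (by rw [Helper1.card_subgroupOf_of_le hB]; exact hcard)
    (Helper1.card_subgroupOf_of_le hA)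
  refine ⟨y, y.2, ?_⟩
  have := congrArg (Subgroup.map N.subtype) hy
  rw [Helper1.conj_smul_map_subtype, Subgroup.map_subgroupOf_eq_of_le hB,
    Subgroup.map_subgroupOf_eq_of_le hA] at this
  exact this

/-- Decomposition of an element into its `p`-part and `p'`-part, both powers of it. -/
theorem exists_ppart_pows {p : ℕ} (hp : p.Prime) (g : G) :
    ∃ k k' a : ℕ, g ^ k * g ^ k' = g ∧ orderOf (g ^ k) = p ^ a ∧ ¬ p ∣ orderOf (g ^ k') := by
  obtain ⟨a, m, hm, hn⟩ := Nat.exists_eq_pow_mul_and_not_dvd (orderOf_pos g).ne' p hp.ne_one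
  have hcop : Nat.Coprime (p ^ a) m := ((Nat.Prime.coprime_iff_not_dvd hp).2 hm).pow_left a
  obtain ⟨k, hk1, hk2⟩ := Nat.chineseRemainder hcop 1 0
  obtain ⟨k', hk'1, hk'2⟩ := Nat.chineseRemainder hcop 0 1
  have h1 : (g ^ k) ^ (p ^ a) = 1 := by
    rw [← pow_mul, ← orderOf_dvd_iff_pow_eq_one, hn, mul_comm k]
    exact Nat.mul_dvd_mul_left _ ((Nat.modEq_zero_iff_dvd).1 hk2)
  obtain ⟨j, _, hj⟩ := (Nat.dvd_prime_pow hp).1 (orderOf_dvd_of_pow_eq_one h1)
  refine ⟨k, k', j, ?_, hj, ?_⟩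
  · rw [← pow_add]
    conv_rhs => rw [← pow_one g]
    rw [pow_eq_pow_iff_modEq, hn]
    apply (Nat.modEq_and_modEq_iff_modEq_mul hcop).1
    constructor
    · have := hk1.add hk'1
      simpa using this
    · have := hk2.add hk'2
      simpa using this
  · have h1 : (g ^ k') ^ m = 1 := by
      rw [← pow_mul, ← orderOf_dvd_iff_pow_eq_one, hn]
      exact Nat.mul_dvd_mul ((Nat.modEq_zero_iff_dvd).1 hk'1) dvd_rfl
    have h2 := orderOf_dvd_of_pow_eq_one h1
    intro h3
    exact hm (h3.trans h2)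

/-- A normal `p`-complement `T` of `H` contains every `p'`-element of `H`. -/
theorem mem_hallCompl {p : ℕ} [hp : Fact p.Prime] {H T : Subgroup G} (hTH : T ≤ H)
    (hHT : H ≤ normalizer (T : Set G)) {j : ℕ} (hidx : T.index = p ^ j * H.index)
    {h : G} (hh : h ∈ H) (hord : ¬ p ∣ orderOf h) : h ∈ T := by
  have : (T.subgroupOf H).Normal :=
    (Subgroup.normal_subgroupOf_iff_le_normalizer hTH).mpr hHT
  have hrel : T.relIndex H = p ^ j := by
    have h1 := Subgroup.relIndex_mul_index hTH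
    rw [hidx] at h1
    exact Nat.eq_of_mul_eq_mul_right (Nat.pos_of_ne_zero Subgroup.index_ne_zero_of_finite) h1
  have h1 : (⟨h, hh⟩ : H) ^ (T.subgroupOf H).index ∈ T.subgroupOf H :=
    Subgroup.pow_index_mem _ _
  rw [Subgroup.mem_subgroupOf] at h1
  have h2 : h ^ (p ^ j) ∈ T := by
    have : (T.subgroupOf H).index = p ^ j := hrel
    rw [this] at h1
    simpa using h1
  have hcop : (p ^ j).Coprime (orderOf h) :=
    ((Nat.Prime.coprime_iff_not_dvd hp.out).2 hord).pow_left j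
  obtain ⟨m, hm⟩ := exists_pow_eq_self_of_coprime hcop
  rw [← hm]
  exact Subgroup.pow_mem _ h2 m

/-- The Sylow `p`-subgroup of `H` commutes with a normal `p'`-subgroup of `H`. -/
theorem commute_sylOf_compl {p : ℕ} [hp : Fact p.Prime] {H T : Subgroup G}
    (hHn : Group.IsNilpotent H) (hTH : T ≤ H)
    (hHT : H ≤ normalizer (T : Set G)) (hTp : (Nat.card T).Coprime p)
    {s t : G} (hs : s ∈ sylOf H p) (ht : t ∈ T) : s * t = t * s := by
  have hdisj : Disjoint (sylOf H p) T := by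
    apply Subgroup.disjoint_of_coprime_natCard
    rw [card_sylOf]
    exact (Nat.Coprime.pow_left _ hTp.symm)
  have hsH : s ∈ H := sylOf_le H p hs
  have htH : t ∈ H := hTH ht
  have h1 : s * t * s⁻¹ * t⁻¹ ∈ T :=
    T.mul_mem ((Subgroup.mem_normalizer_iff.mp (hHT hsH) t).mp ht) (T.inv_mem ht)
  have h2 : s * t * s⁻¹ * t⁻¹ ∈ sylOf H p := by
    have h3 : t * s⁻¹ * t⁻¹ ∈ sylOf H p :=
      (Subgroup.mem_normalizer_iff.mp (le_normalizer_sylOf hHn p htH) s⁻¹).mp
        (Subgroup.inv_mem _ hs)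
    have h4 : s * t * s⁻¹ * t⁻¹ = s * (t * s⁻¹ * t⁻¹) := by group
    rw [h4]
    exact Subgroup.mul_mem _ hs h3
  have h5 : s * t * s⁻¹ * t⁻¹ = 1 := by
    have := hdisj.le_bot ⟨h2, h1⟩
    exact (Subgroup.mem_bot).mp this
  have h6 : s * t = (s * t * s⁻¹ * t⁻¹) * (t * s) := by group
  rw [h6, h5, one_mul]

/-- Normalizers grow in `p`-groups. -/
theorem lt_inf_normalizer {p : ℕ} [hp : Fact p.Prime] (P : Sylow p G) {R : Subgroup G}
    (hRP : R ≤ (P : Subgroup G)) (hne : R ≠ (P : Subgroup G)) :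
    R < (P : Subgroup G) ⊓ normalizer (R : Set G) := by
  have : Group.IsNilpotent (P : Subgroup G) := P.isPGroup'.isNilpotent
  have hnc := Group.normalizerCondition_of_isNilpotent (G := (P : Subgroup G))
  have hlt : R.subgroupOf (P : Subgroup G) < ⊤ := by
    rw [lt_top_iff_ne_top]
    intro h
    apply hne
    apply le_antisymm hRP
    rw [← Subgroup.subgroupOf_eq_top]
    exact h
  have h1 := hnc _ hlt
  rw [← Subgroup.subgroupOf_normalizer_eq hRP] at h1
  refine lt_of_le_of_ne (le_inf hRP Subgroup.le_normalizer) ?_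
  intro heq
  apply h1.ne
  ext z
  rw [Subgroup.mem_subgroupOf, Subgroup.mem_subgroupOf]
  constructor
  · intro hz; exact Subgroup.le_normalizer hz
  · intro hz
    have : (z : G) ∈ (P : Subgroup G) ⊓ normalizer (R : Set G) := ⟨z.2, hz⟩
    rw [← heq] at this
    exact this

end Relative

section MinSimple

variable {G : Type u} [Group G] [Finite G]

/-- Fusion in a Sylow subgroup is controlled by its normalizer (elementwise), in a group all
of whose proper subgroups are solvable of `p`-length one and which satisfies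
Bender–Glauberman 10.1(c),(d). -/
theorem sylow_fusion (hsimple : IsSimpleGroup G)
    (hsolv : ∀ L : Subgroup G, L ≠ ⊤ → Group.IsSolvable L)
    (h1410 : ∀ (r : ℕ) [Fact r.Prime] (L : Subgroup G), L ≠ ⊤ → PLengthLE r 1 L)
    (p : ℕ) [hp : Fact p.Prime] (P : Sylow p G)
    (hc : ∀ (Q : Subgroup G) (x : G), Q ≤ (P : Subgroup G) →
        Q.map (MulAut.conj x).toMonoidHom ≤ (P : Subgroup G) →
        ∃ y ∈ normalizer ((P : Subgroup G) : Set G),
          Q.map (MulAut.conj x).toMonoidHom = Q.map (MulAut.conj y).toMonoidHom)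
    (hd : ∀ Q : Subgroup G, Q ≤ (P : Subgroup G) →
        ¬ p ∣ ((P : Subgroup G) ⊓ normalizer (Q : Set G)).relIndex (normalizer (Q : Set G))) :
    ∀ x ∈ (P : Subgroup G), ∀ g : G, g * x * g⁻¹ ∈ (P : Subgroup G) →
      ∃ n ∈ normalizer ((P : Subgroup G) : Set G), n * x * n⁻¹ = g * x * g⁻¹ := by
  -- upward induction
  have key : ∀ (k : ℕ) (R : Subgroup G), R ≤ (P : Subgroup G) →
      Nat.card (P : Subgroup G) - Nat.card R = k →
      ∀ m ∈ normalizer (R : Set G), ∀ x ∈ R,
        ∃ n ∈ normalizer ((P : Subgroup G) : Set G), n * x * n⁻¹ = m * x * m⁻¹ := by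
    intro k
    induction k using Nat.strong_induction_on with
    | _ k ih =>
      intro R hRP hk m hm x hx
      by_cases hRP' : R = (P : Subgroup G)
      · subst hRP'; exact ⟨m, hm, rfl⟩
      by_cases hR1 : R = ⊥
      · subst hR1
        rw [Subgroup.mem_bot] at hx
        subst hx
        exact ⟨1, Subgroup.one_mem _, by group⟩
      set L := normalizer (R : Set G) with hL
      have hLtop : L ≠ ⊤ := by
        intro h
        have hRn : R.Normal := Subgroup.normalizer_eq_top_iff.mp h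
        rcases hRn.eq_bot_or_eq_top with h1 | h1
        · exact hR1 h1
        · apply hRP'
          apply le_antisymm hRP
          rw [h1]; exact le_top
      set S := (P : Subgroup G) ⊓ L with hS
      have hRS : R < S := lt_inf_normalizer P hRP hRP'
      have hSP : S ≤ (P : Subgroup G) := inf_le_left
      have hSL : S ≤ L := inf_le_right
      have hSp : IsPGroup p S := P.isPGroup'.to_le hSP
      have hSn : Group.IsNilpotent S := hSp.isNilpotent
      have hSHall : (Nat.card S).Coprime (S.relIndex L) := by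
        obtain ⟨j, hj⟩ := IsPGroup.iff_card.mp hSp
        rw [hj]
        exact ((Nat.Prime.coprime_iff_not_dvd hp.out).2 (hd R hRP)).pow_left j
      have hmx : m * x * m⁻¹ ∈ R := (Subgroup.mem_normalizer_iff.mp hm x).mp hx
      obtain ⟨n₂, -, hn₂S, hn₂x⟩ := fusion_rel L S hSL hSn hSHall (hsolv L hLtop)
        (fun r _ => h1410 r L hLtop) x (hRS.le hx) m hm (hRS.le hmx)
      have hcardlt : Nat.card R < Nat.card S := by
        have h1 := Subgroup.card_le_of_le hRS.le
        rcases h1.lt_or_eq with h2 | h2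
        · exact h2
        · exact absurd (Subgroup.eq_of_le_of_card_ge hRS.le h2.ge) hRS.ne
      have hcardle : Nat.card S ≤ Nat.card (P : Subgroup G) := Subgroup.card_le_of_le hSP
      obtain ⟨n, hn, hnx⟩ := ih (Nat.card (P : Subgroup G) - Nat.card S) (by omega) S hSP rfl
        n₂ hn₂S x (hRS.le hx)
      exact ⟨n, hn, hnx.trans hn₂x⟩
  intro x hx g hgx
  set Q := Subgroup.zpowers x with hQ
  have hQP : Q ≤ (P : Subgroup G) := by rw [hQ, Subgroup.zpowers_le]; exact hx
  have hQg : Q.map (MulAut.conj g).toMonoidHom ≤ (P : Subgroup G) := by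
    rw [Subgroup.map_le_iff_le_comap, hQ, Subgroup.zpowers_le]
    exact hgx
  obtain ⟨y, hy, hyQ⟩ := hc Q g hQP hQg
  set m := y⁻¹ * g with hm
  have hmQ : m ∈ normalizer (Q : Set G) := by
    apply mem_normalizer_of_cj_eq
    have h1 : MulAut.conj g • Q = MulAut.conj y • Q := hyQ
    rw [hm, map_mul, mul_smul, h1, ← mul_smul, ← map_mul, inv_mul_cancel, map_one, one_smul]
  obtain ⟨n', hn', hn'x⟩ := key _ Q hQP rfl m hmQ x (Subgroup.mem_zpowers x)
  refine ⟨y * n', Subgroup.mul_mem _ hy hn', ?_⟩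
  have : y * n' * x * (y * n')⁻¹ = y * (n' * x * n'⁻¹) * y⁻¹ := by group
  rw [this, hn'x, hm]
  group

/-- **Fusion in nilpotent Hall subgroups.** In a simple group all of whose proper subgroups are
solvable of `r`-length one for all primes `r`, and which satisfies Bender–Glauberman 10.1(c),(d),
the normalizer of a nilpotent Hall subgroup controls fusion of its elements. -/
theorem nilpotent_hall_fusion (hsimple : IsSimpleGroup G)
    (hsolv : ∀ L : Subgroup G, L ≠ ⊤ → Group.IsSolvable L)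
    (h1410 : ∀ (r : ℕ) [Fact r.Prime] (L : Subgroup G), L ≠ ⊤ → PLengthLE r 1 L)
    (hc : ∀ (p : ℕ) [Fact p.Prime] (P : Sylow p G) (Q : Subgroup G) (x : G),
        Q ≤ (P : Subgroup G) → Q.map (MulAut.conj x).toMonoidHom ≤ (P : Subgroup G) →
        ∃ y ∈ normalizer ((P : Subgroup G) : Set G),
          Q.map (MulAut.conj x).toMonoidHom = Q.map (MulAut.conj y).toMonoidHom)
    (hd : ∀ (p : ℕ) [Fact p.Prime] (P : Sylow p G) (Q : Subgroup G), Q ≤ (P : Subgroup G) →
        ¬ p ∣ ((P : Subgroup G) ⊓ normalizer (Q : Set G)).relIndex (normalizer (Q : Set G)))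
    (H : Subgroup G) (hHn : Group.IsNilpotent H) (hHall : (Nat.card H).Coprime H.index) :
    ∀ x ∈ H, ∀ g : G, g * x * g⁻¹ ∈ H →
      ∃ n ∈ normalizer (H : Set G), n * x * n⁻¹ = g * x * g⁻¹ := by
  intro x hx g hgx
  by_cases hx1 : x = 1
  · subst hx1; exact ⟨1, Subgroup.one_mem _, by group⟩
  -- choose the prime
  have hox : orderOf x ≠ 1 := by rwa [Ne, orderOf_eq_one_iff]
  obtain ⟨p, hp, hpx⟩ := Nat.exists_prime_and_dvd hox
  have hpF : Fact p.Prime := ⟨hp⟩
  obtain ⟨k, k', a, hkk', hxk, hxk'⟩ := exists_ppart_pows hp x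
  set xp := x ^ k with hxp
  set xq := x ^ k' with hxq
  have hxp1 : xp ≠ 1 := by
    intro h
    rw [h, one_mul] at hkk'
    rw [hkk'] at hxk'
    exact hxk' hpx
  have ha : a ≠ 0 := by
    intro ha; rw [ha, pow_zero, orderOf_eq_one_iff] at hxk; exact hxp1 hxk
  have hpH : p ∣ Nat.card H := hpx.trans (H.orderOf_dvd_natCard hx)
  have hPcard := card_sylOf_of_hall hHall hpH
  obtain ⟨P, hPcoe⟩ : ∃ P : Sylow p G, (P : Subgroup G) = sylOf H p :=
    ⟨Sylow.ofCard _ hPcard, Sylow.coe_ofCard _ _⟩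
  have hPH : (P : Subgroup G) ≤ H := by rw [hPcoe]; exact sylOf_le H p
  obtain ⟨T, hTH, hHT, hTp, j, hTidx⟩ := Helper1.Carter.exists_normal_hall_compl_sub p H hHn
  have hnotdvdT : ¬ p ∣ Nat.card T := by
    intro h2
    have h3 := Nat.dvd_gcd h2 dvd_rfl
    rw [hTp] at h3
    exact hp.one_lt.ne' (Nat.dvd_one.mp h3)
  by_cases hT : T = ⊥
  · -- `H` is a Sylow `p`-subgroup
    have hHcard : Nat.card H = p ^ j := by
      rw [hT, Subgroup.index_bot] at hTidx
      have h1 := H.card_mul_index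
      rw [hTidx] at h1
      exact Nat.eq_of_mul_eq_mul_right (Nat.pos_of_ne_zero Subgroup.index_ne_zero_of_finite) h1
    have hHP : H = (P : Subgroup G) := by
      apply le_antisymm _ hPH
      intro z hz
      rw [hPcoe, mem_sylOf_iff hHn]
      refine ⟨hz, j, ?_⟩
      rw [← hHcard]
      exact orderOf_dvd_iff_pow_eq_one.mp (H.orderOf_dvd_natCard hz)
    rw [hHP] at hx hgx ⊢
    exact sylow_fusion hsimple hsolv h1410 p P (hc p P) (hd p P) x hx g hgx
  -- the general case
  have hTtop : T ≠ ⊤ := by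
    intro h
    have h1 : orderOf xp ∣ Nat.card T := T.orderOf_dvd_natCard (by rw [h]; trivial)
    rw [hxk] at h1
    exact hnotdvdT ((dvd_pow_self p ha).trans h1)
  set L₁ := normalizer (T : Set G) with hL₁
  have hL₁top : L₁ ≠ ⊤ := by
    intro h
    have hTn : T.Normal := Subgroup.normalizer_eq_top_iff.mp h
    rcases hTn.eq_bot_or_eq_top with h1 | h1
    · exact hT h1
    · exact hTtop h1
  set y := g * x * g⁻¹ with hy
  have hyk : y ^ k = g * xp * g⁻¹ := by rw [hy, hxp, conj_pow]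
  set yp := g * xp * g⁻¹ with hyp
  have hypH : yp ∈ H := by rw [← hyk]; exact H.pow_mem hgx k
  have hyp1 : yp ≠ 1 := by
    intro h; apply hxp1; exact conj_eq_one_iff.mp h
  have hxpS : xp ∈ sylOf H p := by
    rw [mem_sylOf_iff hHn]
    exact ⟨H.pow_mem hx k, a, by rw [← hxk]; exact pow_orderOf_eq_one xp⟩
  have hypS : yp ∈ sylOf H p := by
    rw [mem_sylOf_iff hHn]
    refine ⟨hypH, a, ?_⟩
    rw [hyp, conj_pow, ← hxk, pow_orderOf_eq_one]; group
  set Q := Subgroup.zpowers yp with hQ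
  have hQP : Q ≤ (P : Subgroup G) := by rw [hQ, Subgroup.zpowers_le, hPcoe]; exact hypS
  set N := normalizer (Q : Set G) with hN
  have hNtop : N ≠ ⊤ := by
    intro h
    have hQn : Q.Normal := Subgroup.normalizer_eq_top_iff.mp h
    rcases hQn.eq_bot_or_eq_top with h1 | h1
    · apply hyp1
      have : yp ∈ Q := Subgroup.mem_zpowers yp
      rw [h1] at this
      exact Subgroup.mem_bot.mp this
    · apply hL₁top
      apply top_le_iff.mp
      refine le_trans ?_ hHT
      rw [← h1]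
      exact hQP.trans hPH
  -- `T` centralizes `xp` and `yp`
  have hTxp : ∀ t ∈ T, xp * t = t * xp :=
    fun t ht => commute_sylOf_compl hHn hTH hHT hTp hxpS ht
  have hTyp : ∀ t ∈ T, yp * t = t * yp :=
    fun t ht => commute_sylOf_compl hHn hTH hHT hTp hypS ht
  have hcommN : ∀ z : G, yp * z = z * yp → z ∈ N := by
    intro z hz
    apply Subgroup.centralizer_le_normalizer
    rw [Subgroup.mem_centralizer_iff]
    intro w hw
    obtain ⟨i, rfl⟩ := Subgroup.mem_zpowers_iff.mp hw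
    exact (Commute.zpow_left (show Commute yp z from hz) i).eq
  have hTN : T ≤ N := fun t ht => hcommN t (hTyp t ht)
  have hgTN : MulAut.conj g • T ≤ N := by
    intro z hz
    obtain ⟨t, ht, rfl⟩ := Helper19.mem_cj.1 hz
    apply hcommN
    have h1 := hTxp t ht
    calc yp * (g * t * g⁻¹) = g * (xp * t) * g⁻¹ := by rw [hyp]; group
      _ = g * (t * xp) * g⁻¹ := by rw [h1]
      _ = g * t * g⁻¹ * yp := by rw [hyp]; group
  have hTidxN : T.relIndex N ∣ p ^ j * H.index := by
    rw [← hTidx]; exact Subgroup.relIndex_dvd_index_of_le hTN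
  have hTrelN : (Nat.card T).Coprime (T.relIndex N) := by
    apply Nat.Coprime.coprime_dvd_right hTidxN
    apply Nat.Coprime.mul_right
    · exact Nat.Coprime.pow_right j hTp
    · exact Nat.Coprime.coprime_dvd_left (Subgroup.card_dvd_of_le hTH) hHall
  obtain ⟨c, hcN, hcT⟩ := hall_conj_rel N T (MulAut.conj g • T) (hsolv N hNtop) hTN hgTN
    (Nat.card_congr (Subgroup.equivSMul (MulAut.conj g) T).toEquiv).symm hTrelN
  set g₁ := c * g with hg₁
  have hg₁T : g₁ ∈ L₁ := by
    apply mem_normalizer_of_cj_eq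
    rw [hg₁, map_mul, mul_smul]; exact hcT
  have hxqH : xq ∈ H := H.pow_mem hx k'
  have hxqT : xq ∈ T := mem_hallCompl hTH hHT hTidx hxqH hxk'
  set y' := g₁ * x * g₁⁻¹ with hy'
  have hy'c : y' = c * y * c⁻¹ := by rw [hy', hg₁, hy]; group
  have hy'H : y' ∈ H := by
    have h1 : y' = (c * yp * c⁻¹) * (g₁ * xq * g₁⁻¹) := by
      have h2 : g₁ * (xp * xq) * g₁⁻¹ = (c * (g * xp * g⁻¹) * c⁻¹) * (g₁ * xq * g₁⁻¹) := by
        rw [hg₁]; group
      rw [hkk'] at h2
      exact h2
    rw [h1]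
    apply H.mul_mem
    · have : c * yp * c⁻¹ ∈ Q :=
        (Subgroup.mem_normalizer_iff.mp hcN yp).mp (Subgroup.mem_zpowers yp)
      exact hPH (hQP this)
    · exact hTH ((Subgroup.mem_normalizer_iff.mp hg₁T xq).mp hxqT)
  -- Lemma A in `N`
  set K := H ⊓ N with hK
  have hKN : K ≤ N := inf_le_right
  have hKn : Group.IsNilpotent K := by
    have : Group.IsNilpotent (K.subgroupOf H) := Subgroup.isNilpotent _
    exact Group.nilpotent_of_mulEquiv (Subgroup.subgroupOfEquivOfLe (inf_le_left : K ≤ H))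
  have hKHall : (Nat.card K).Coprime (K.relIndex N) := by
    apply Nat.coprime_of_dvd
    intro r hr hrK hrI
    have hrH : r ∣ Nat.card H := hrK.trans (Subgroup.card_dvd_of_le inf_le_left)
    by_cases hrp : r = p
    · rw [hrp] at hrI
      have h1 : (P : Subgroup G) ⊓ N ≤ K := inf_le_inf_right N hPH
      have h2 : K.relIndex N ∣ ((P : Subgroup G) ⊓ N).relIndex N :=
        Subgroup.relIndex_dvd_of_le_left N h1
      exact hd p P Q hQP (hrI.trans h2)
    · have h1 : T ≤ K := le_inf hTH hTN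
      have h2 : K.relIndex N ∣ T.relIndex N := Subgroup.relIndex_dvd_of_le_left N h1
      have h4 : r ∣ p ^ j * H.index := (hrI.trans h2).trans hTidxN
      rcases (Nat.Prime.dvd_mul hr).mp h4 with h5 | h5
      · exact hrp ((Nat.prime_dvd_prime_iff_eq hr hp).mp (hr.dvd_of_dvd_pow h5))
      · have h6 := Nat.dvd_gcd hrH h5
        rw [hHall] at h6
        exact hr.one_lt.ne' (Nat.dvd_one.mp h6)
  have hyN : y ∈ N := by
    apply hcommN
    rw [← hyk]
    exact pow_mul_comm' y k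
  have hyK : y ∈ K := ⟨hgx, hyN⟩
  have hy'N : y' ∈ N := by
    rw [hy'c]; exact N.mul_mem (N.mul_mem hcN hyN) (N.inv_mem hcN)
  have hy'K : y' ∈ K := ⟨hy'H, hy'N⟩
  have hcy' : c⁻¹ * y' * c⁻¹⁻¹ = y := by rw [hy'c]; group
  obtain ⟨n₂, hn₂N, hn₂K, hn₂y⟩ := fusion_rel N K hKN hKn hKHall (hsolv N hNtop)
    (fun r _ => h1410 r N hNtop) y' hy'K c⁻¹ (N.inv_mem hcN) (by rw [hcy']; exact hyK)
  have hn₂y' : n₂ * y' * n₂⁻¹ = y := by rw [hn₂y, hcy']
  -- `n₂` normalizes `T`
  have hnormT : ∀ w ∈ normalizer (K : Set G), ∀ t ∈ T, w * t * w⁻¹ ∈ T := by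
    intro w hw t ht
    have htK : t ∈ K := ⟨hTH ht, hTN ht⟩
    have h1 : w * t * w⁻¹ ∈ K := (Subgroup.mem_normalizer_iff.mp hw t).mp htK
    apply mem_hallCompl hTH hHT hTidx h1.1
    have h2 : orderOf (w * t * w⁻¹) = orderOf t := (MulAut.conj w).orderOf_eq t
    rw [h2]
    intro hdiv
    exact hnotdvdT (hdiv.trans (T.orderOf_dvd_natCard ht))
  have hn₂T : n₂ ∈ L₁ := by
    rw [hL₁, Subgroup.mem_normalizer_iff]
    intro t
    constructor
    · exact hnormT n₂ hn₂K t
    · intro ht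
      have h3 := hnormT n₂⁻¹ (Subgroup.inv_mem _ hn₂K) _ ht
      have h4 : n₂⁻¹ * (n₂ * t * n₂⁻¹) * n₂⁻¹⁻¹ = t := by group
      rwa [h4] at h3
  -- Lemma A in `N_G(T)`
  set g₂ := n₂ * g₁ with hg₂
  have hg₂L : g₂ ∈ L₁ := L₁.mul_mem hn₂T hg₁T
  have hg₂x : g₂ * x * g₂⁻¹ = y := by
    have h1 : g₂ * x * g₂⁻¹ = n₂ * (g₁ * x * g₁⁻¹) * n₂⁻¹ := by rw [hg₂]; group
    rw [h1]; exact hn₂y'
  have hHrel : (Nat.card H).Coprime (H.relIndex L₁) :=
    Nat.Coprime.coprime_dvd_right (Subgroup.relIndex_dvd_index_of_le hHT) hHall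
  obtain ⟨n, -, hnH, hnx⟩ := fusion_rel L₁ H hHT hHn hHrel (hsolv L₁ hL₁top)
    (fun r _ => h1410 r L₁ hL₁top) x hx g₂ hg₂L (by rw [hg₂x]; exact hgx)
  exact ⟨n, hnH, hnx.trans hg₂x⟩

end MinSimple

end Cfsg.Agent.Helper75.NHF
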