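import Mathlib
import Cfsg.Agent.Lib.Helper17.Simple
import Cfsg.Agent.Lib.Helper75.FixKill

/-!
# O175560 (N15960): no simple group of order 15960 = 2^3 * 3 * 5 * 7 * 19 (helper24's server, S4274)

One kernel-checked certificate at `p = 19`: `n_19 = 210`, `|N(P)| = 76`, `|C(P)| = 38`; an involution of
`C(P)` has no admissible number of fixed points on `Syl_19`.
-/

set_option autoImplicit false

namespace Cfsg.Agent.Helper75.O175560

open Cfsg.Agent.Helper17.Sieve Cfsg.Agent.Helper75.FixKill

universe u

set_option maxRecDepth 100000 in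
theorem cert_15960 : FixCert 19 840 := by decide +kernel

theorem noSimple_15960 : NoSimple.{u} 15960 :=
  fix_kill (p := 19) (m := 840) (by norm_num) (by norm_num) (by norm_num) cert_15960

/-- (N15960) `15960 = 2^3 * 3 * 5 * 7 * 19`. -/
theorem no_15960 {G : Type u} [Group G] [Finite G] [IsSimpleGroup G] : Nat.card G ≠ 15960 := by
  intro h
  have hna : ¬ IsMulCommutative G :=
    Cfsg.Agent.Helper17.not_comm_of_not_prime (by rw [h]; norm_num)
  exact noSimple_15960.{u} G hna h

end Cfsg.Agent.Helper75.O175560
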