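import Mathlib
import Cfsg.Agent.Lib.Helper17.Simple
import Cfsg.Agent.Lib.Helper75.FixKill3

/-!
# O175560 (N17556): no simple group of order 17556 = 2^2 * 3 * 7 * 11 * 19 (helper24's server, S4274)

One kernel-checked certificate at `p = 11`: `n_11 = 133`, `|N(P)| = 132`, `|C(P)| = 66`; an involution of
`C(P)` fixes only `P` on `Syl_11` and is isolated in a Sylow 2-subgroup of `N(P)` (Glauberman `Z*`).
-/

set_option autoImplicit false

namespace Cfsg.Agent.Helper75.O175560

open Cfsg.Agent.Helper17.Sieve Cfsg.Agent.Helper75.FixKill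

universe u

set_option maxRecDepth 100000 in
theorem cert_17556 : FixCert3 11 1596 := by decide +kernel

theorem noSimple_17556 : NoSimple.{u} 17556 :=
  fix_kill3 (p := 11) (m := 1596) (by norm_num) (by norm_num) (by norm_num) cert_17556

/-- (N17556) `17556 = 2^2 * 3 * 7 * 11 * 19`. -/
theorem no_17556 {G : Type u} [Group G] [Finite G] [IsSimpleGroup G] : Nat.card G ≠ 17556 := by
  intro h
  have hna : ¬ IsMulCommutative G :=
    Cfsg.Agent.Helper17.not_comm_of_not_prime (by rw [h]; norm_num)
  exact noSimple_17556.{u} G hna h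

end Cfsg.Agent.Helper75.O175560
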