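import Mathlib
import Cfsg.Agent.S1017

/-!
# O4320 server (helper50, S0977): piece (C16b) `false_of_sixteen`
-/

set_option autoImplicit false

namespace Cfsg.Agent.Helper75.O4320

open Cfsg MulAction

universe u

section GT

variable {G : Type u} [Group G] [Finite G] [IsSimpleGroup G]

/-- (C16b) `n_5 = 16` is impossible: a subgroup of order 27 of `C(R)` acts semiregularly on the
other 15 Sylow 5-subgroups. -/
theorem false_of_sixteen (hG : Nat.card G = 4320) (h16 : Nat.card (Sylow 5 G) = 16) (R : Sylow 5 G)
    (hC : Nat.card (Subgroup.centralizer ((R : Subgroup G) : Set G)) = 135)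
    (hfix : ∀ x : G, orderOf x = 3 → x ∈ Subgroup.centralizer ((R : Subgroup G) : Set G) →
      Nat.card (fixedBy (Sylow 5 G) x) = 1) : False := by
  have : Fact (Nat.Prime 5) := ⟨by norm_num⟩
  have : Fact (Nat.Prime 3) := ⟨by norm_num⟩
  set C : Subgroup G := Subgroup.centralizer ((R : Subgroup G) : Set G) with hCdef
  -- a subgroup of order 27 in `C`
  obtain ⟨A', hA'⟩ := Sylow.exists_subgroup_card_pow_prime (G := ↥C) 3 (n := 3)
    (by rw [hC]; norm_num)
  set A : Subgroup G := A'.map C.subtype with hA
  have hAcard : Nat.card ↥A = 27 := by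
    rw [hA, Subgroup.card_map_of_injective (Subgroup.subtype_injective C), hA']
    norm_num
  have hAC : A ≤ C := Subgroup.map_subtype_le A'
  -- another Sylow 5-subgroup
  have hnt : Nontrivial (Sylow 5 G) := by
    rw [← Finite.one_lt_card_iff_nontrivial, h16]
    norm_num
  obtain ⟨R', hR'⟩ := exists_ne R
  -- the orbit map is injective
  have hinj : Function.Injective (fun a : ↥A => (a : G) • R') := by
    intro a₁ a₂ h12
    have h12' : (a₁ : G) • R' = (a₂ : G) • R' := h12
    by_contra hne
    set c : G := (a₂ : G)⁻¹ * (a₁ : G) with hc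
    have hcA : c ∈ A := A.mul_mem (A.inv_mem a₂.2) a₁.2
    have hc1 : c ≠ 1 := by
      intro h1
      apply hne
      apply Subtype.ext
      have h2 : (a₂ : G) * c = (a₂ : G) := by rw [h1, mul_one]
      rw [hc, mul_inv_cancel_left] at h2
      exact h2
    have hcfix : c ∈ stabilizer G R' := by
      rw [mem_stabilizer_iff, hc, mul_smul, h12', inv_smul_smul]
    -- the order of `c` is a power of 3
    have hord : orderOf c ∣ 3 ^ 3 := by
      have h0 := Subgroup.orderOf_dvd_natCard A hcA
      rw [hAcard] at h0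
      exact h0
    obtain ⟨k, -, hk⟩ := (Nat.dvd_prime_pow Nat.prime_three).mp hord
    rcases Nat.eq_zero_or_pos k with hk0 | hkpos
    · rw [hk0, pow_zero, orderOf_eq_one_iff] at hk
      exact hc1 hk
    obtain ⟨j, rfl⟩ : ∃ j, k = j + 1 := ⟨k - 1, by omega⟩
    set z : G := c ^ (3 ^ j) with hz
    have hzord : orderOf z = 3 := by
      rw [hz, orderOf_pow_of_dvd (pow_ne_zero _ (by norm_num)) (by rw [hk]; exact pow_dvd_pow 3 (by omega)),
        hk, pow_succ, Nat.mul_div_cancel_left _ (pow_pos (by norm_num) j)]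
    have hzC : z ∈ C := C.pow_mem (hAC hcA) _
    have hzR' : z • R' = R' := by
      have h0 : z ∈ stabilizer G R' := (stabilizer G R').pow_mem hcfix _
      exact mem_stabilizer_iff.mp h0
    have hzR : z • R = R := by
      rw [Sylow.smul_eq_iff_mem_normalizer]
      exact Subgroup.centralizer_le_normalizer _ hzC
    have h1 := hfix z hzord hzC
    have hss : Subsingleton (fixedBy (Sylow 5 G) z) := (Nat.card_eq_one_iff_unique.mp h1).1
    have h2 : (⟨R, hzR⟩ : fixedBy (Sylow 5 G) z) = ⟨R', hzR'⟩ := Subsingleton.elim _ _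
    exact hR' (congrArg Subtype.val h2).symm
  have hle := Nat.card_le_card_of_injective _ hinj
  rw [hAcard, h16] at hle
  omega

end GT

end Cfsg.Agent.Helper75.O4320
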