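import Mathlib
import Cfsg.Agent.S1017
import Cfsg.Agent.Lib.Helper75.O4320N5

/-!
# O4320 server (helper50, S0977): piece (NS) `card_normalizer_centralizer`
-/

set_option autoImplicit false

namespace Cfsg.Agent.Helper75.O4320

open Cfsg MulAction

universe u

section GT

variable {G : Type u} [Group G] [Finite G] [IsSimpleGroup G]

/-- (NS) orders of `N(R)` and `C(R)` in the three cases. -/
theorem card_normalizer_centralizer (hG : Nat.card G = 4320) (R : Sylow 5 G) :
    Nat.card (R : Subgroup G) = 5 ∧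
    (Nat.card (Sylow 5 G) = 16 →
      Nat.card (Subgroup.normalizer ((R : Subgroup G) : Set G)) = 270 ∧
      Nat.card (Subgroup.centralizer ((R : Subgroup G) : Set G)) = 135) ∧
    (Nat.card (Sylow 5 G) = 36 →
      Nat.card (Subgroup.normalizer ((R : Subgroup G) : Set G)) = 120 ∧
      (Nat.card (Subgroup.centralizer ((R : Subgroup G) : Set G)) = 30 ∨
       Nat.card (Subgroup.centralizer ((R : Subgroup G) : Set G)) = 60)) ∧
    (Nat.card (Sylow 5 G) = 216 →
      Nat.card (Subgroup.normalizer ((R : Subgroup G) : Set G)) = 20 ∧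
      (Nat.card (Subgroup.centralizer ((R : Subgroup G) : Set G)) = 5 ∨
       Nat.card (Subgroup.centralizer ((R : Subgroup G) : Set G)) = 10)) := by
  have : Fact (Nat.Prime 5) := ⟨by norm_num⟩
  have hR : Nat.card (R : Subgroup G) = 5 := by
    have h0 := Cfsg.Agent.S1017.sylow_card_eq R 1 864 (by rw [hG]; norm_num) (by norm_num)
    simpa using h0
  obtain ⟨k, c, hk, hk1, hC, hN⟩ :=
    Cfsg.Agent.S1017.normalizer_structure R hR (by rw [hG]; norm_num)
  have hmul := Cfsg.Agent.S1017.card_sylow_mul_card_normalizer R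
  rw [hN, hG] at hmul
  have hmod : Nat.card (Sylow 5 G) % 5 = 1 := Cfsg.Agent.S1017.card_sylow_mod
  obtain ⟨-, hk24, h864⟩ := n5_numerics _ k c hmul hk hk1 hmod
  rw [hC, hN]
  refine ⟨hR, ?_, ?_, ?_⟩
  · intro h16
    rw [h16] at h864
    rcases hk24 with rfl | rfl <;> omega
  · intro h36
    rw [h36] at h864
    rcases hk24 with rfl | rfl <;> omega
  · intro h216
    rw [h216] at h864
    rcases hk24 with rfl | rfl <;> omega

end GT

end Cfsg.Agent.Helper75.O4320
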