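import Mathlib
import Cfsg.Agent.Lib.Helper75.BrauerSep
import Cfsg.Agent.Lib.Helper74.DimBlock
import Cfsg.Agent.Lib.Helper16.Osima

/-!
# Robinson's theorem on the number of blocks with a given defect group (helper75)

The number of `p`-blocks with defect group `D` equals the rank modulo `p` of the matrix of Sylow
counts `#{(y, z) ∈ K_i × K_j : z y⁻¹ ∈ S} / p^(a-d)` over the `p`-regular classes with defect
group `D`.
-/

set_option autoImplicit false
set_option linter.unusedSectionVars false
set_option linter.style.haveILetI false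

namespace Cfsg.Agent.Helper75.Rob

open Cfsg Cfsg.Agent.Helper77 Cfsg.Agent.Helper74.BC Cfsg.Agent.Helper75.BS

universe u

section resfield

variable (M : Ideal AlgInt) [hp : M.IsPrime]

theorem localMax_isMaximal : (localMax M).IsMaximal := by
  rw [Ideal.isMaximal_iff]
  refine ⟨fun h => not_memLocalIdeal_one (M := M) h, fun J x _ hxI hxJ => ?_⟩
  have hxI' : ¬ MemLocalIdeal M (x : ℂ) := hxI
  have hinv : MemLocalRing M ((x : ℂ))⁻¹ := memLocalRing_inv x.2 hxI'
  have hne : (x : ℂ) ≠ 0 := by
    intro h0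
    apply hxI'
    rw [h0]
    exact memLocalIdeal_zero hp.ne_top
  have : (1 : localSubring M) = ⟨(x : ℂ)⁻¹, hinv⟩ * x := by
    apply Subtype.ext
    simp [inv_mul_cancel₀ hne]
  rw [this]
  exact J.mul_mem_left _ hxJ

/-- The residue ring of the local ring at `M` is a field. -/
@[reducible] noncomputable def resField : Field (ResRing M) :=
  @Ideal.Quotient.field _ _ (localMax M) (localMax_isMaximal M)

theorem resRing_natCast_eq_zero {p : ℕ} (hM : IsPModular p M) : ((p : ℕ) : ResRing M) = 0 := by
  have h1 : ((p : ℕ) : ResRing M) = Ideal.Quotient.mk (localMax M) ((p : ℕ) : localSubring M) := by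
    simp
  rw [h1, Ideal.Quotient.eq_zero_iff_mem]
  show MemLocalIdeal M _
  have := (memLocalIdeal_natCast_iff hM p).mpr dvd_rfl
  simpa using this

theorem charP_resRing {p : ℕ} (hM : IsPModular p M) : CharP (ResRing M) p :=
  (CharP.charP_iff_prime_eq_zero hM.1).mpr (resRing_natCast_eq_zero M hM)

end resfield

section rankmap

theorem rank_normal_block (K : Type*) [Field K] {m : Type*} [Fintype m] [DecidableEq m] (r s : ℕ)
    (e : m ≃ Fin r ⊕ Fin s) :
    ((Matrix.fromBlocks (1 : Matrix (Fin r) (Fin r) K) 0 0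
      (0 : Matrix (Fin s) (Fin s) K)).submatrix e e).rank = r := by
  classical
  rw [Matrix.rank_submatrix]
  have h1 : (Matrix.fromBlocks (1 : Matrix (Fin r) (Fin r) K) 0 0
      (0 : Matrix (Fin s) (Fin s) K)) =
      Matrix.diagonal (Sum.elim (fun _ => (1 : K)) (fun _ => 0)) := by
    rw [← Matrix.diagonal_one, ← Matrix.diagonal_zero, Matrix.fromBlocks_diagonal]
  rw [h1, Matrix.rank_diagonal, Fintype.card_subtype]
  have h2 : (Finset.univ.filter fun i : Fin r ⊕ Fin s =>
      Sum.elim (fun _ => (1 : K)) (fun _ => 0) i ≠ 0) =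
      Finset.univ.map ⟨Sum.inl, Sum.inl_injective⟩ := by
    ext i
    rcases i with a | a <;> simp
  rw [h2, Finset.card_map, Finset.card_univ, Fintype.card_fin]

/-- The rank of a square matrix is invariant under field extension. -/
theorem rank_map_field {F k : Type*} [Field F] [Field k] (f : F →+* k) {m : Type*} [Fintype m]
    [DecidableEq m] (A : Matrix m m F) : (A.map f).rank = A.rank := by
  classical
  obtain ⟨V, U, e, hV, hU, h⟩ := Matrix.exists_rank_normal_form A
  have hV' : IsUnit (V.map f) := by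
    have := hV.map f.mapMatrix
    simpa using this
  have hU' : IsUnit (U.map f) := by
    have := hU.map f.mapMatrix
    simpa using this
  have hmap : V.map f * A.map f * U.map f =
      (Matrix.fromBlocks (1 : Matrix (Fin A.rank) (Fin A.rank) k) 0 0
        (0 : Matrix (Fin (Fintype.card m - A.rank)) (Fin (Fintype.card m - A.rank)) k)).submatrix
        e e := by
    have := congrArg (fun X : Matrix m m F => X.map f) h
    simp only [Matrix.map_mul] at this
    rw [this]
    ext i j
    simp only [Matrix.map_apply, Matrix.submatrix_apply]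
    rcases e i with a | a <;> rcases e j with b | b <;>
      simp [Matrix.fromBlocks, Matrix.one_apply, apply_ite f]
  have h1 : (A.map f).rank = (V.map f * A.map f * U.map f).rank := by
    rw [Matrix.rank_mul_eq_left_of_isUnit_det _ _ ((Matrix.isUnit_iff_isUnit_det _).1 hU'),
      Matrix.rank_mul_eq_right_of_isUnit_det _ _ ((Matrix.isUnit_iff_isUnit_det _).1 hV')]
  rw [h1, hmap, rank_normal_block k]

end rankmap

section sylow

variable {G : Type u} [Group G] [Fintype G] {p : ℕ} [hp : Fact p.Prime]

/-- The number of Sylow `p`-subgroups containing `u`. -/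
noncomputable def sylCount (p : ℕ) (u : G) : ℕ := Nat.card {P : Sylow p G // u ∈ P}

theorem mem_smul_sylow_iff (g u : G) (P : Sylow p G) : g * u * g⁻¹ ∈ g • P ↔ u ∈ P := by
  have : g * u * g⁻¹ = MulAut.conj g • u := by simp [MulAut.conj_apply]
  show g * u * g⁻¹ ∈ ((g • P : Sylow p G) : Subgroup G) ↔ u ∈ (P : Subgroup G)
  rw [Sylow.smul_def, Sylow.pointwise_smul_def, this, Subgroup.smul_mem_pointwise_smul_iff]

theorem sylCount_conj (g u : G) : sylCount p (g * u * g⁻¹) = sylCount p u := by
  unfold sylCount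
  apply Nat.card_congr
  symm
  refine (MulAction.toPerm g : Equiv.Perm (Sylow p G)).subtypeEquiv fun P => ?_
  simp only [MulAction.toPerm_apply]
  exact (mem_smul_sylow_iff g u P).symm

theorem sylCount_eq_zero {u : G} (hu : ¬ ∃ j : ℕ, orderOf u = p ^ j) : sylCount p u = 0 := by
  unfold sylCount
  haveI : IsEmpty {P : Sylow p G // u ∈ P} := by
    refine ⟨fun ⟨P, hP⟩ => hu ?_⟩
    obtain ⟨j, hj⟩ := (IsPGroup.iff_orderOf.1 P.isPGroup') ⟨u, hP⟩
    exact ⟨j, by rw [← hj]; exact (Subgroup.orderOf_coe (⟨u, hP⟩ : (P : Subgroup G)))⟩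
  exact Nat.card_of_isEmpty

theorem sylCount_modEq_one {u : G} (hu : ∃ j : ℕ, orderOf u = p ^ j) :
    sylCount p u ≡ 1 [MOD p] := by
  classical
  obtain ⟨j, hj⟩ := hu
  have hQ : IsPGroup p (Subgroup.zpowers u) := by
    apply IsPGroup.of_card (n := j)
    rw [Nat.card_zpowers, hj]
  have h1 := hQ.card_modEq_card_fixedPoints (Sylow p G)
  have h2 : Nat.card (MulAction.fixedPoints (Subgroup.zpowers u) (Sylow p G)) = sylCount p u := by
    unfold sylCount
    apply Nat.card_congr
    refine Equiv.subtypeEquivRight fun P => ?_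
    rw [hQ.sylow_mem_fixedPoints_iff, Subgroup.zpowers_le]
    rfl
  rw [h2] at h1
  exact h1.symm.trans (card_sylow_modEq_one p G)

open scoped Classical in
/-- The sum of `w (u * y)` over the conjugates `y` of `x` and the elements `u` of `S`. -/
noncomputable def NS (S : Subgroup G) (x : G) (w : G → ℂ) : ℂ :=
  ∑ y : G, ∑ u : G, if IsConj x y ∧ u ∈ S then w (u * y) else 0

theorem NS_smul (g : G) (P : Sylow p G) (x : G) {w : G → ℂ} (hw : IsClassFunction G w) :
    NS ((g • P : Sylow p G) : Subgroup G) x w = NS (P : Subgroup G) x w := by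
  classical
  unfold NS
  rw [← Equiv.sum_comp (MulAut.conj g).toEquiv]
  refine Finset.sum_congr rfl fun y _ => ?_
  rw [← Equiv.sum_comp (MulAut.conj g).toEquiv]
  refine Finset.sum_congr rfl fun u _ => ?_
  have h1 : IsConj x (g * y * g⁻¹) ↔ IsConj x y := by
    have hc : IsConj y (g * y * g⁻¹) := isConj_iff.mpr ⟨g, rfl⟩
    exact ⟨fun h => h.trans hc.symm, fun h => h.trans hc⟩
  have h2 : g * u * g⁻¹ ∈ ((g • P : Sylow p G) : Subgroup G) ↔ u ∈ (P : Subgroup G) :=
    mem_smul_sylow_iff g u P
  have h3 : w (g * u * g⁻¹ * (g * y * g⁻¹)) = w (u * y) := by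
    have : g * u * g⁻¹ * (g * y * g⁻¹) = g * (u * y) * g⁻¹ := by group
    rw [this, hw]
  exact if_congr (and_congr h1 h2) h3 rfl

/-- **Sylow double counting**: `n_p * NS S x w = [G : C(x)] * ∑_u s(u) w(u x)`. -/
theorem card_sylow_mul_NS (S : Sylow p G) (x : G) {w : G → ℂ} (hw : IsClassFunction G w) :
    (Nat.card (Sylow p G) : ℂ) * NS (S : Subgroup G) x w =
      ((Subgroup.centralizer ({x} : Set G)).index : ℂ) *
        ∑ u : G, (sylCount p u : ℂ) * w (u * x) := by
  classical
  haveI : Fintype (Sylow p G) := Fintype.ofFinite _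
  -- all Sylow subgroups give the same count
  have hall : ∀ P : Sylow p G, NS (P : Subgroup G) x w = NS (S : Subgroup G) x w := by
    intro P
    obtain ⟨g, hg⟩ := MulAction.exists_smul_eq G S P
    rw [← hg, NS_smul g S x hw]
  have h1 : ∑ P : Sylow p G, NS (P : Subgroup G) x w =
      (Nat.card (Sylow p G) : ℂ) * NS (S : Subgroup G) x w := by
    rw [Finset.sum_congr rfl fun P _ => hall P, Finset.sum_const, Finset.card_univ,
      nsmul_eq_mul, Nat.card_eq_fintype_card]
  rw [← h1]
  -- exchange the sums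
  let F : G → ℂ := fun y => ∑ u : G, (sylCount p u : ℂ) * w (u * y)
  have hcount : ∀ u : G, (sylCount p u : ℂ) =
      ∑ P : Sylow p G, if u ∈ (P : Subgroup G) then (1 : ℂ) else 0 := by
    intro u
    rw [Finset.sum_boole]
    unfold sylCount
    rw [Nat.card_eq_fintype_card, Fintype.card_subtype]
    rfl
  have h2 : ∑ P : Sylow p G, NS (P : Subgroup G) x w =
      ∑ y : G, if IsConj x y then F y else 0 := by
    unfold NS
    rw [Finset.sum_comm]
    refine Finset.sum_congr rfl fun y _ => ?_
    rw [Finset.sum_comm]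
    by_cases hy : IsConj x y
    · rw [if_pos hy]
      simp only [F]
      refine Finset.sum_congr rfl fun u _ => ?_
      rw [hcount u, Finset.sum_mul]
      refine Finset.sum_congr rfl fun P _ => ?_
      by_cases hu : u ∈ (P : Subgroup G)
      · rw [if_pos ⟨hy, hu⟩, if_pos hu, one_mul]
      · rw [if_neg (fun h => hu h.2), if_neg hu, zero_mul]
    · rw [if_neg hy]
      refine Finset.sum_eq_zero fun u _ => Finset.sum_eq_zero fun P _ => ?_
      rw [if_neg (fun h => hy h.1)]
  have hF : ∀ g y : G, F (g * y * g⁻¹) = F y := by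
    intro g y
    simp only [F]
    rw [← Equiv.sum_comp (MulAut.conj g).toEquiv]
    refine Finset.sum_congr rfl fun u _ => ?_
    simp only [MulEquiv.toEquiv_eq_coe, EquivLike.coe_coe, MulAut.conj_apply]
    rw [sylCount_conj]
    have : g * u * g⁻¹ * (g * y * g⁻¹) = g * (u * y) * g⁻¹ := by group
    rw [this, hw]
  have h3 : ∑ y : G, (if IsConj x y then F y else 0) =
      ((Subgroup.centralizer ({x} : Set G)).index : ℂ) * F x := by
    have : ∀ y : G, (if IsConj x y then F y else 0) = if IsConj x y then F x else 0 := by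
      intro y
      by_cases hy : IsConj x y
      · rw [if_pos hy, if_pos hy]
        obtain ⟨g, rfl⟩ := isConj_iff.mp hy
        exact hF g x
      · rw [if_neg hy, if_neg hy]
    rw [Finset.sum_congr rfl fun y _ => this y, Finset.sum_ite, Finset.sum_const_zero, add_zero,
      Finset.sum_const, nsmul_eq_mul, ← card_isConj_eq_index, Nat.card_eq_fintype_card,
      Fintype.card_subtype]
  rw [h2, h3]

end sylow

section modM

variable {G : Type u} [Group G] [Fintype G] {p : ℕ} [hp : Fact p.Prime] {M : Ideal AlgInt}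

/-- Modulo the local ideal, the normalized Sylow count is the `p`-element functional. -/
theorem memLocalIdeal_NS_sub_tau (hM : IsPModular p M) (S : Sylow p G) (x : G) {w : G → ℂ}
    (hw : IsClassFunction G w) (hwR : IsRValued M w) (e m : ℕ)
    (hidx : (Subgroup.centralizer ({x} : Set G)).index = p ^ e * m) :
    MemLocalIdeal M (NS (S : Subgroup G) x w / (p : ℂ) ^ e - (m : ℂ) * tau p x w) := by
  classical
  haveI hpr := isPrime_of_isPModular hM
  have hp' : p.Prime := hp.out
  set n := Nat.card (Sylow p G) with hn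
  have hnmod : n ≡ 1 [MOD p] := card_sylow_modEq_one p G
  have hnp : ¬ p ∣ n := by
    intro h
    have h0 : n ≡ 0 [MOD p] := (Nat.modEq_zero_iff_dvd).2 h
    have h01 : (0 : ℕ) ≡ 1 [MOD p] := h0.symm.trans hnmod
    have := (Nat.modEq_iff_dvd' (by omega)).1 h01
    simp at this
    exact hp'.one_lt.ne' this
  have hn0 : (n : ℂ) ≠ 0 := by
    have : n ≠ 0 := fun h0 => hnp (by rw [h0]; exact dvd_zero p)
    exact_mod_cast this
  have hp0 : ((p : ℂ) ^ e) ≠ 0 := pow_ne_zero _ (by exact_mod_cast hp'.ne_zero)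
  have hnR : MemLocalRing M ((n : ℂ))⁻¹ :=
    memLocalRing_inv (memLocalRing_natCast n) (fun h => hnp ((memLocalIdeal_natCast_iff hM n).mp h))
  have hstar := card_sylow_mul_NS S x hw
  rw [hidx] at hstar
  set Sg := ∑ u : G, (sylCount p u : ℂ) * w (u * x) with hSgdef
  have hNS : NS (S : Subgroup G) x w = (p : ℂ) ^ e * m * Sg / n := by
    rw [eq_div_iff hn0, mul_comm]
    rw [hstar]
    push_cast
    ring
  -- the difference of the two sums
  have hdiff : MemLocalIdeal M (Sg - tau p x w) := by
    rw [hSgdef]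
    unfold tau
    rw [← Finset.sum_sub_distrib]
    refine memLocalIdeal_sum _ _ fun u _ => ?_
    by_cases hu : ∃ j : ℕ, orderOf u = p ^ j
    · rw [if_pos hu]
      have h1 := sylCount_modEq_one (p := p) hu
      have hpos : 1 ≤ sylCount p u := by
        by_contra hlt
        have h0 : sylCount p u = 0 := by omega
        rw [h0] at h1
        have := (Nat.modEq_iff_dvd' (by omega)).1 h1
        simp at this
        exact hp'.one_lt.ne' this
      have hdvd : p ∣ sylCount p u - 1 := (Nat.modEq_iff_dvd' hpos).1 h1.symm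
      have e1 : (sylCount p u : ℂ) * w (u * x) - w (u * x) =
          ((sylCount p u - 1 : ℕ) : ℂ) * w (u * x) := by
        rw [Nat.cast_sub hpos]
        push_cast
        ring
      rw [e1]
      exact memLocalIdeal_mul_right ((memLocalIdeal_natCast_iff hM _).mpr hdvd) (hwR _)
    · rw [if_neg hu, sylCount_eq_zero hu]
      simp only [Nat.cast_zero, zero_mul, sub_zero]
      exact memLocalIdeal_zero hpr.ne_top
  have hone : MemLocalIdeal M ((1 : ℂ) - n) := by
    have hpos : 1 ≤ n := by
      by_contra hlt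
      exact hnp (by rw [show n = 0 by omega]; exact dvd_zero p)
    have hdvd : p ∣ n - 1 := (Nat.modEq_iff_dvd' hpos).1 hnmod.symm
    have e1 : (1 : ℂ) - n = -((n - 1 : ℕ) : ℂ) := by
      rw [Nat.cast_sub hpos]
      push_cast
      ring
    rw [e1]
    exact memLocalIdeal_neg ((memLocalIdeal_natCast_iff hM _).mpr hdvd)
  have hτR : MemLocalRing M (tau p x w) := memLocalRing_tau x hwR
  have key : NS (S : Subgroup G) x w / (p : ℂ) ^ e - (m : ℂ) * tau p x w =
      (m : ℂ) * (n : ℂ)⁻¹ * (Sg - tau p x w) + (m : ℂ) * (n : ℂ)⁻¹ * ((1 - n) * tau p x w) := by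
    rw [hNS]
    field_simp
    ring
  rw [key]
  exact memLocalIdeal_add
    (memLocalIdeal_mul_left (memLocalRing_mul (memLocalRing_natCast m) hnR) hdiff)
    (memLocalIdeal_mul_left (memLocalRing_mul (memLocalRing_natCast m) hnR)
      (memLocalIdeal_mul_right hone hτR))

end modM

section TS

open Cfsg.Agent.Helper74.DO

variable {G : Type u} [Group G] [Fintype G] {p : ℕ} [hp : Fact p.Prime] {M : Ideal AlgInt}

open scoped Classical in
/-- The sum of the values of `f` over the subgroup `S`. -/
noncomputable def TS (S : Subgroup G) (f : G → ℂ) : ℂ := ∑ u : G, if u ∈ S then f u else 0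

theorem TS_smul (S : Subgroup G) (c : ℂ) (f : G → ℂ) : TS S (c • f) = c * TS S f := by
  classical
  unfold TS
  rw [Finset.mul_sum]
  refine Finset.sum_congr rfl fun u _ => ?_
  split_ifs <;> simp

theorem TS_sum (S : Subgroup G) {ι : Type*} (s : Finset ι) (f : ι → G → ℂ) :
    TS S (∑ i ∈ s, f i) = ∑ i ∈ s, TS S (f i) := by
  classical
  unfold TS
  rw [Finset.sum_comm]
  refine Finset.sum_congr rfl fun u _ => ?_
  split_ifs
  · rw [Finset.sum_apply]
  · rw [Finset.sum_const_zero]

/-- The Sylow count as the value of `TS` at a convolution. -/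
theorem NS_eq_TS_conv (S : Subgroup G) (x : G) {w : G → ℂ} (hw : IsClassFunction G w) :
    NS S x w = TS S (conv (classInd x⁻¹) w) := by
  classical
  unfold NS TS
  rw [Finset.sum_comm]
  refine Finset.sum_congr rfl fun u _ => ?_
  by_cases hu : u ∈ S
  · rw [if_pos hu]
    unfold conv
    rw [← Equiv.sum_comp (Equiv.inv G)]
    refine Finset.sum_congr rfl fun y _ => ?_
    simp only [Equiv.inv_apply, inv_inv]
    unfold classInd
    have h1 : IsConj x⁻¹ y ↔ IsConj x y⁻¹ := by
      constructor
      · intro h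
        obtain ⟨c, hc⟩ := isConj_iff.mp h
        refine isConj_iff.mpr ⟨c, ?_⟩
        rw [← hc]; group
      · intro h
        obtain ⟨c, hc⟩ := isConj_iff.mp h
        refine isConj_iff.mpr ⟨c, ?_⟩
        have := congrArg (fun t => t⁻¹) hc
        simp only [mul_inv_rev, inv_inv] at this
        rw [← this]; group
    have h2 : w (y⁻¹ * u) = w (u * y⁻¹) := by
      have : u * y⁻¹ = u * (y⁻¹ * u) * u⁻¹ := by group
      rw [this, hw]
    by_cases hy : IsConj x y⁻¹
    · rw [if_pos ⟨hy, hu⟩, if_pos (h1.mpr hy), one_mul, h2]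
    · rw [if_neg (fun h => hy h.1), if_neg (fun h => hy (h1.mp h)), zero_mul]
  · rw [if_neg hu]
    exact Finset.sum_eq_zero fun y _ => if_neg (fun h => hu h.2)

/-- The block idempotent is the sum of the idempotents of its characters. -/
theorem blockCoeff_eq_sum_singleton (B : Set (IrrCharacter G)) :
    blockCoeff B = ∑ χ ∈ (Set.toFinite B).toFinset, blockCoeff ({χ} : Set (IrrCharacter G)) := by
  classical
  have hcl : IsClassFunction G
      (∑ χ ∈ (Set.toFinite B).toFinset, blockCoeff ({χ} : Set (IrrCharacter G))) := by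
    intro g h
    simp only [Finset.sum_apply]
    exact Finset.sum_congr rfl fun χ _ => isClassFunction_blockCoeff _ g h
  apply eq_of_omega_eq (isClassFunction_blockCoeff B) hcl
  intro ψ
  rw [omega_sum, omega_blockCoeff]
  simp_rw [omega_blockCoeff, Set.mem_singleton_iff]
  rw [Finset.sum_ite_eq]
  simp only [Set.Finite.mem_toFinset]

/-- Multiplying the block idempotent by a class sum. -/
theorem conv_classInd_blockCoeff (B : Set (IrrCharacter G)) (g : G) :
    conv (classInd g) (blockCoeff B) = ∑ χ ∈ (Set.toFinite B).toFinset,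
      centralChar (χ : G → ℂ) g • blockCoeff ({χ} : Set (IrrCharacter G)) := by
  classical
  have hcl : IsClassFunction G (∑ χ ∈ (Set.toFinite B).toFinset,
      centralChar (χ : G → ℂ) g • blockCoeff ({χ} : Set (IrrCharacter G))) := by
    intro y h
    simp only [Finset.sum_apply, Pi.smul_apply]
    exact Finset.sum_congr rfl fun χ _ => by rw [isClassFunction_blockCoeff _ y h]
  apply eq_of_omega_eq
    (isClassFunction_conv (isClassFunction_classInd g) (isClassFunction_blockCoeff B)) hcl
  intro ψ
  rw [omega_conv ψ.2 (isClassFunction_classInd g) (isClassFunction_blockCoeff B), omega_sum,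
    omega_blockCoeff, omega_classInd_of_irr ψ.2]
  simp_rw [omega_smul, omega_blockCoeff, Set.mem_singleton_iff]
  simp only [mul_ite, mul_one, mul_zero]
  rw [Finset.sum_ite_eq]
  simp only [Set.Finite.mem_toFinset]

end TS

section TSblock

open Cfsg.Agent.Helper74.DO Cfsg.Agent.Helper74.BF
open scoped ComplexConjugate

variable {G : Type u} [Group G] [Fintype G] {p : ℕ} [hp : Fact p.Prime] {M : Ideal AlgInt}

theorem blockCoeff_singleton (χ : IrrCharacter G) (g : G) :
    blockCoeff ({χ} : Set (IrrCharacter G)) g =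
      (Nat.card G : ℂ)⁻¹ * ((χ : G → ℂ) 1 * conj ((χ : G → ℂ) g)) := by
  unfold blockCoeff
  rw [finsum_mem_singleton]

/-- The Sylow sum of the idempotent of a character whose degree is divisible by `p ^ e`,
divided by `p ^ e`, is a local integer. -/
theorem memLocalRing_TS_singleton (hM : IsPModular p M) (S : Sylow p G) (χ : IrrCharacter G)
    (e : ℕ) (he : p ^ e ∣ charDegree (χ : G → ℂ)) :
    MemLocalRing M (TS (S : Subgroup G) (blockCoeff ({χ} : Set (IrrCharacter G))) /
      (p : ℂ) ^ e) := by
  classical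
  haveI hpr := isPrime_of_isPModular hM
  have hp' : p.Prime := hp.out
  haveI : Fintype (S : Subgroup G) := Fintype.ofFinite _
  obtain ⟨w, hw, hsum⟩ := exists_isIntegral_sum_conj χ (S : Subgroup G)
  obtain ⟨c, hc⟩ := he
  have h1 := (Cfsg.Agent.Helper79.irr_one_eq χ).1
  set a := (Nat.card G).factorization p with ha
  have hS : Nat.card (S : Subgroup G) = p ^ a := S.card_eq_multiplicity
  have hG := Nat.ordProj_mul_ordCompl_eq_self (Nat.card G) p
  set g' := Nat.card G / p ^ a with hg'
  have hg'p : ¬ p ∣ g' := Nat.not_dvd_ordCompl hp' Nat.card_pos.ne'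
  have hTS : TS (S : Subgroup G) (blockCoeff ({χ} : Set (IrrCharacter G))) =
      (Nat.card G : ℂ)⁻¹ * ((χ : G → ℂ) 1 * ((Nat.card (S : Subgroup G) : ℂ) * w)) := by
    unfold TS
    rw [← hsum, Finset.mul_sum, Finset.mul_sum]
    rw [← Finset.sum_filter]
    rw [Finset.sum_subtype (Finset.univ.filter fun u : G => u ∈ (S : Subgroup G))
      (p := fun u => u ∈ (S : Subgroup G)) (by simp)]
    refine Finset.sum_congr rfl fun u _ => ?_
    rw [blockCoeff_singleton]
  have hp0 : ((p : ℂ) ^ e) ≠ 0 := pow_ne_zero _ (by exact_mod_cast hp'.ne_zero)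
  have hpa0 : ((p : ℂ) ^ a) ≠ 0 := pow_ne_zero _ (by exact_mod_cast hp'.ne_zero)
  have hg0 : (g' : ℂ) ≠ 0 := by
    have : g' ≠ 0 := fun h0 => hg'p (by rw [h0]; exact dvd_zero p)
    exact_mod_cast this
  have hGc : (Nat.card G : ℂ) = (p : ℂ) ^ a * g' := by exact_mod_cast hG.symm
  have key : TS (S : Subgroup G) (blockCoeff ({χ} : Set (IrrCharacter G))) / (p : ℂ) ^ e =
      (c : ℂ) * w * (g' : ℂ)⁻¹ := by
    rw [hTS, h1, hc, hS, hGc]
    push_cast
    field_simp
  rw [key]
  exact memLocalRing_mul (memLocalRing_mul (memLocalRing_natCast c) (memLocalRing_of_isIntegral hw))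
    (memLocalRing_inv (memLocalRing_natCast g')
      (fun h => hg'p ((memLocalIdeal_natCast_iff hM g').mp h)))

/-- Osima: the Sylow sum of a block idempotent is its coefficient at the identity. -/
theorem TS_blockCoeff (hM : IsPModular p M) (S : Sylow p G) {B : Set (IrrCharacter G)}
    (hB : IsPBlock M B) : TS (S : Subgroup G) (blockCoeff B) = blockCoeff B 1 := by
  classical
  unfold TS
  rw [Finset.sum_eq_single (1 : G)]
  · rw [if_pos (one_mem _)]
  · intro u _ hu
    by_cases huS : u ∈ (S : Subgroup G)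
    · rw [if_pos huS]
      exact Cfsg.Agent.Helper16.blockCoeff_eq_zero_of_singular hM hB u
        (dvd_orderOf_of_mem_pGroup S.isPGroup' huS hu)
    · rw [if_neg huS]
  · intro h
    exact absurd (Finset.mem_univ _) h

/-- Modulo the local ideal, the normalized Sylow count of a block idempotent is the central
character at the inverse class times the normalized coefficient at the identity. -/
theorem memLocalIdeal_NS_blockCoeff (hM : IsPModular p M) (S : Sylow p G)
    {B : Set (IrrCharacter G)} (hB : IsPBlock M B) (x : G) (e : ℕ)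
    (he : ∀ χ ∈ B, p ^ e ∣ charDegree (χ : G → ℂ)) {χ₀ : IrrCharacter G} (hχ₀ : χ₀ ∈ B) :
    MemLocalIdeal M (NS (S : Subgroup G) x (blockCoeff B) / (p : ℂ) ^ e -
      centralChar (χ₀ : G → ℂ) x⁻¹ * (blockCoeff B 1 / (p : ℂ) ^ e)) := by
  classical
  haveI hpr := isPrime_of_isPModular hM
  have h1 : NS (S : Subgroup G) x (blockCoeff B) = ∑ χ ∈ (Set.toFinite B).toFinset,
      centralChar (χ : G → ℂ) x⁻¹ * TS (S : Subgroup G) (blockCoeff ({χ} : Set (IrrCharacter G))) := by
    rw [NS_eq_TS_conv _ _ (isClassFunction_blockCoeff B), conv_classInd_blockCoeff, TS_sum]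
    exact Finset.sum_congr rfl fun χ _ => TS_smul _ _ _
  have h2 : blockCoeff B 1 = ∑ χ ∈ (Set.toFinite B).toFinset,
      TS (S : Subgroup G) (blockCoeff ({χ} : Set (IrrCharacter G))) := by
    rw [← TS_blockCoeff hM S hB]
    conv_lhs => rw [blockCoeff_eq_sum_singleton B]
    rw [TS_sum]
  have h3 : NS (S : Subgroup G) x (blockCoeff B) / (p : ℂ) ^ e -
      centralChar (χ₀ : G → ℂ) x⁻¹ * (blockCoeff B 1 / (p : ℂ) ^ e) =
      ∑ χ ∈ (Set.toFinite B).toFinset,
        (centralChar (χ : G → ℂ) x⁻¹ - centralChar (χ₀ : G → ℂ) x⁻¹) *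
          (TS (S : Subgroup G) (blockCoeff ({χ} : Set (IrrCharacter G))) / (p : ℂ) ^ e) := by
    rw [h1, h2, Finset.sum_div, Finset.sum_div, Finset.mul_sum, ← Finset.sum_sub_distrib]
    refine Finset.sum_congr rfl fun χ _ => ?_
    ring
  rw [h3]
  refine memLocalIdeal_sum _ _ fun χ hχ => ?_
  have hχB : χ ∈ B := (Set.Finite.mem_toFinset _).mp hχ
  exact memLocalIdeal_mul_right (sameBlock_of_mem hB hχB hχ₀ x⁻¹)
    (memLocalRing_TS_singleton hM S χ e (he χ hχB))

end TSblock

end Cfsg.Agent.Helper75.Rob
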