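import Mathlib
import Cfsg.Agent.Lib.Helper75.Robinson

/-!
# Robinson's count of blocks with a normal defect group (helper75), part 2

* `res_*` : a small API for the reduction map `res M`.
* `rank_eq_card_of_factor` : a matrix `Ωsᵀ * diag t * Ω` with both outer factors one-sided
  invertible and `t` nowhere zero has rank the size of the middle index.
* `HasSyl p D g` : `g` is `p`-regular and `D` is a Sylow `p`-subgroup of `C(g)`.
* `memLocalIdeal_blockCoeff_mul_centralChar`, `dual_system` : the orthogonality between block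
  idempotents and central characters is supported on the classes with `HasSyl`.
-/

set_option autoImplicit false
set_option linter.unusedSectionVars false
set_option linter.style.haveILetI false

namespace Cfsg.Agent.Helper75.Rob

open Cfsg Cfsg.Agent.Helper77 Cfsg.Agent.Helper74.BC Cfsg.Agent.Helper75.BS

universe u

section resapi

variable (M : Ideal AlgInt) [hp : M.IsPrime]

theorem res_eq_res_iff {z w : ℂ} (hz : MemLocalRing M z) (hw : MemLocalRing M w) :
    res M z hz = res M w hw ↔ MemLocalIdeal M (z - w) := by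
  unfold res
  rw [Ideal.Quotient.eq]
  rfl

theorem res_congr {z w : ℂ} (h : z = w) (hz : MemLocalRing M z) (hw : MemLocalRing M w) :
    res M z hz = res M w hw := by
  subst h; rfl

theorem res_mul {z w : ℂ} (hz : MemLocalRing M z) (hw : MemLocalRing M w)
    (h : MemLocalRing M (z * w)) : res M (z * w) h = res M z hz * res M w hw :=
  map_mul (Ideal.Quotient.mk (localMax M)) ⟨z, hz⟩ ⟨w, hw⟩

theorem res_add {z w : ℂ} (hz : MemLocalRing M z) (hw : MemLocalRing M w)
    (h : MemLocalRing M (z + w)) : res M (z + w) h = res M z hz + res M w hw :=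
  map_add (Ideal.Quotient.mk (localMax M)) ⟨z, hz⟩ ⟨w, hw⟩

theorem res_one (h : MemLocalRing M (1 : ℂ)) : res M 1 h = 1 :=
  map_one (Ideal.Quotient.mk (localMax M))

theorem res_zero (h : MemLocalRing M (0 : ℂ)) : res M 0 h = 0 :=
  map_zero (Ideal.Quotient.mk (localMax M))

theorem res_natCast (n : ℕ) (h : MemLocalRing M (n : ℂ)) : res M (n : ℂ) h = (n : ResRing M) := by
  have : (⟨(n : ℂ), h⟩ : localSubring M) = ((n : ℕ) : localSubring M) := Subtype.ext (by simp)
  unfold res
  rw [this, map_natCast]

theorem res_sum {ι : Type*} (s : Finset ι) (f : ι → ℂ) (hf : ∀ i, MemLocalRing M (f i))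
    (h : MemLocalRing M (∑ i ∈ s, f i)) :
    res M (∑ i ∈ s, f i) h = ∑ i ∈ s, res M (f i) (hf i) := by
  classical
  have : (⟨∑ i ∈ s, f i, h⟩ : localSubring M) = ∑ i ∈ s, (⟨f i, hf i⟩ : localSubring M) := by
    apply Subtype.ext
    rw [← Subring.coe_subtype, map_sum]
    rfl
  unfold res
  rw [this, map_sum]

end resapi

section rank

theorem rank_eq_card_of_factor {k : Type*} [Field k] {ι β : Type*} [Fintype ι] [Fintype β]
    [DecidableEq ι] [DecidableEq β] (Z : Matrix ι ι k) (Ω Ωs A As : Matrix β ι k) (t : β → k)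
    (ht : ∀ b, t b ≠ 0) (hZ : Z = Ωs.transpose * Matrix.diagonal t * Ω)
    (h1 : Ω * A.transpose = 1) (h2 : As * Ωs.transpose = 1) : Z.rank = Fintype.card β := by
  classical
  apply le_antisymm
  · rw [hZ]
    exact (Matrix.rank_mul_le_right _ _).trans (Matrix.rank_le_card_height _)
  · have hd : As * Z * A.transpose = Matrix.diagonal t := by
      rw [hZ]
      calc As * (Ωs.transpose * Matrix.diagonal t * Ω) * A.transpose
          = (As * Ωs.transpose) * Matrix.diagonal t * (Ω * A.transpose) := by
            simp only [Matrix.mul_assoc]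
        _ = Matrix.diagonal t := by rw [h1, h2, Matrix.one_mul, Matrix.mul_one]
    have hr : (Matrix.diagonal t).rank = Fintype.card β := by
      rw [Matrix.rank_diagonal]
      exact Fintype.card_congr (Equiv.subtypeUnivEquiv ht)
    rw [← hr, ← hd]
    exact (Matrix.rank_mul_le_left _ _).trans (Matrix.rank_mul_le_right _ _)

end rank

section hassyl

variable {G : Type u} [Group G] [Fintype G] {p : ℕ} [hp : Fact p.Prime] {M : Ideal AlgInt}

/-- `g` is `p`-regular and `D` is a Sylow `p`-subgroup of the centralizer of `g`. -/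
def HasSyl (p : ℕ) (D : Subgroup G) (g : G) : Prop :=
  ¬ p ∣ orderOf g ∧ ∃ Q : Sylow p (Subgroup.centralizer ({g} : Set G)),
    (Q : Subgroup (Subgroup.centralizer ({g} : Set G))).map
      (Subgroup.centralizer ({g} : Set G)).subtype = D

theorem exists_sylow_map_of_eq (D : Subgroup G) (H H' : Subgroup G) (h : H = H')
    (hQ : ∃ Q : Sylow p H, (Q : Subgroup H).map H.subtype = D) :
    ∃ Q : Sylow p H', (Q : Subgroup H').map H'.subtype = D := by
  subst h; exact hQ

theorem centralizer_inv (g : G) :
    Subgroup.centralizer ({g⁻¹} : Set G) = Subgroup.centralizer ({g} : Set G) := by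
  ext z
  simp only [Subgroup.mem_centralizer_iff, Set.mem_singleton_iff, forall_eq]
  constructor
  · intro h
    calc g * z = g * (z * g⁻¹) * g := by group
      _ = g * (g⁻¹ * z) * g := by rw [h]
      _ = z * g := by group
  · intro h
    calc g⁻¹ * z = g⁻¹ * (z * g) * g⁻¹ := by group
      _ = g⁻¹ * (g * z) * g⁻¹ := by rw [h]
      _ = z * g⁻¹ := by group

theorem HasSyl.inv {D : Subgroup G} {g : G} (h : HasSyl p D g) : HasSyl p D g⁻¹ := by
  refine ⟨by rw [orderOf_inv]; exact h.1, ?_⟩
  exact exists_sylow_map_of_eq D _ _ (centralizer_inv g).symm h.2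

/-- On a class without `HasSyl`, the product of a block idempotent and a central character of
blocks with the normal defect group `D` vanishes modulo the local ideal. -/
theorem memLocalIdeal_blockCoeff_mul_centralChar (hM : IsPModular p M) (D : Subgroup G)
    [hDn : D.Normal] {B B' : Set (IrrCharacter G)} (hB : IsPBlock M B)
    (hDB : IsDefectGroup p M B D) (hB' : IsPBlock M B') (hDB' : IsDefectGroup p M B' D)
    {χ : IrrCharacter G} (hχ : χ ∈ B) (g : G) (hg : ¬ HasSyl p D g) :
    MemLocalIdeal M (blockCoeff B' g * centralChar (χ : G → ℂ) g) := by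
  classical
  haveI hpr := isPrime_of_isPModular hM
  by_contra hcon
  have h1 : ¬ MemLocalIdeal M (blockCoeff B' g) := fun h =>
    hcon (memLocalIdeal_mul_right h (memLocalRing_centralChar χ.2 g))
  have h2 : ¬ MemLocalIdeal M (centralChar (χ : G → ℂ) g) := fun h =>
    hcon (memLocalIdeal_mul_left (isRValued_blockCoeff hB' g) h)
  apply hg
  refine ⟨fun hdvd => h1 ?_, ?_⟩
  · rw [Cfsg.Agent.Helper16.blockCoeff_eq_zero_of_singular hM hB' g hdvd]
    exact memLocalIdeal_zero hpr.ne_top
  · obtain ⟨Q⟩ : Nonempty (Sylow p (Subgroup.centralizer ({g} : Set G))) := inferInstance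
    refine ⟨Q, ?_⟩
    obtain ⟨y, hy⟩ := BS.defectLE_of_isDefectGroup hM hB' hDB' g h1 _ (sylow_map_isPGroup g Q)
      (sylow_map_le_centralizer g Q)
    have hle2 : ∃ y : G, D.map (MulAut.conj y).toMonoidHom ≤
        (Q : Subgroup (Subgroup.centralizer ({g} : Set G))).map
          (Subgroup.centralizer ({g} : Set G)).subtype := by
      by_contra hnot
      exact h2 (memLocalIdeal_centralChar_of_not_le hM hB hDB g Q hnot hχ)
    obtain ⟨y', hy'⟩ := hle2
    apply le_antisymm
    · intro u hu
      have h3 : (MulAut.conj y).toMonoidHom u ∈ D := hy (Subgroup.mem_map_of_mem _ hu)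
      have h4 : y * u * y⁻¹ ∈ D := h3
      have h5 := hDn.conj_mem _ h4 y⁻¹
      have e : y⁻¹ * (y * u * y⁻¹) * y⁻¹⁻¹ = u := by group
      rwa [e] at h5
    · intro d hd
      have h3 : y'⁻¹ * d * y'⁻¹⁻¹ ∈ D := hDn.conj_mem _ hd y'⁻¹
      have h4 := hy' (Subgroup.mem_map_of_mem (MulAut.conj y').toMonoidHom h3)
      have e : (MulAut.conj y').toMonoidHom (y'⁻¹ * d * y'⁻¹⁻¹) = d := by
        show y' * (y'⁻¹ * d * y'⁻¹⁻¹) * y'⁻¹ = d
        group
      rwa [e] at h4

/-- **Dual system**: for a family `y` representing exactly once the classes with `HasSyl`, the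
block idempotents and the central characters of the blocks with defect group `D` are dual modulo
the local ideal. -/
theorem dual_system (hM : IsPModular p M) (D : Subgroup G) [hDn : D.Normal] {ι : Type*}
    [Fintype ι] [DecidableEq ι] (y : ι → G) (hy2 : ∀ i j, IsConj (y i) (y j) → i = j)
    (hy3 : ∀ g, HasSyl p D g → ∃ i, IsConj g (y i)) {B B' : Set (IrrCharacter G)}
    (hB : IsPBlock M B) (hDB : IsDefectGroup p M B D) (hB' : IsPBlock M B')
    (hDB' : IsDefectGroup p M B' D) {χ : IrrCharacter G} (hχ : χ ∈ B) :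
    MemLocalIdeal M (∑ i, blockCoeff B' (y i) * centralChar (χ : G → ℂ) (y i) -
      if B = B' then 1 else 0) := by
  classical
  haveI hpr := isPrime_of_isPModular hM
  haveI : Fintype (ConjClasses G) := Fintype.ofFinite _
  have hom := omega_blockCoeff B' χ
  rw [omega_eq_sum_conjClasses (isClassFunction_of_isIrrCharacter χ.2)
    (isClassFunction_blockCoeff B')] at hom
  have hiff : χ ∈ B' ↔ B = B' :=
    ⟨fun h => eq_of_isPBlock_of_mem hB hB' hχ h, fun h => h ▸ hχ⟩
  set F : ConjClasses G → ℂ := fun C =>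
    blockCoeff B' (Quotient.out C) * centralChar (χ : G → ℂ) (Quotient.out C) with hF
  set T : Finset (ConjClasses G) := Finset.univ.image (fun i => ConjClasses.mk (y i)) with hT
  have hsplit := Finset.sum_filter_add_sum_filter_not (Finset.univ : Finset (ConjClasses G))
    (fun C => C ∈ T) F
  have hinj : Function.Injective (fun i => ConjClasses.mk (y i)) := fun i j hij =>
    hy2 i j (ConjClasses.mk_eq_mk_iff_isConj.mp hij)
  have hFmk : ∀ g : G, F (ConjClasses.mk g) = blockCoeff B' g * centralChar (χ : G → ℂ) g := by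
    intro g
    have hc : IsConj g (Quotient.out (ConjClasses.mk g)) := by
      rw [← ConjClasses.mk_eq_mk_iff_isConj]
      exact (Quotient.out_eq _).symm
    obtain ⟨c, hc⟩ := isConj_iff.mp hc
    simp only [hF]
    rw [← hc, isClassFunction_blockCoeff B',
      centralChar_conj (isClassFunction_of_isIrrCharacter χ.2)]
  have hin : ∑ C ∈ Finset.univ.filter (fun C => C ∈ T), F C =
      ∑ i, blockCoeff B' (y i) * centralChar (χ : G → ℂ) (y i) := by
    have : Finset.univ.filter (fun C => C ∈ T) = T := by
      ext C; simp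
    rw [this, hT, Finset.sum_image (fun i _ j _ hij => hinj hij)]
    exact Finset.sum_congr rfl fun i _ => hFmk (y i)
  have hout : MemLocalIdeal M (∑ C ∈ Finset.univ.filter (fun C => ¬ C ∈ T), F C) := by
    refine memLocalIdeal_sum _ _ fun C hC => ?_
    have hCT : C ∉ T := (Finset.mem_filter.mp hC).2
    apply memLocalIdeal_blockCoeff_mul_centralChar hM D hB hDB hB' hDB' hχ
    intro hs
    obtain ⟨i, hi⟩ := hy3 _ hs
    apply hCT
    rw [hT, Finset.mem_image]
    refine ⟨i, Finset.mem_univ _, ?_⟩
    rw [← ConjClasses.mk_eq_mk_iff_isConj.mpr hi]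
    exact Quotient.out_eq C
  have e : (∑ i, blockCoeff B' (y i) * centralChar (χ : G → ℂ) (y i) -
      if B = B' then 1 else 0) = -(∑ C ∈ Finset.univ.filter (fun C => ¬ C ∈ T), F C) := by
    rw [← hin]
    have h5 : (if B = B' then (1 : ℂ) else 0) = if χ ∈ B' then 1 else 0 :=
      if_congr hiff.symm rfl rfl
    rw [h5, ← hom, ← hsplit]
    ring
  rw [e]
  exact memLocalIdeal_neg hout

end hassyl

section counting

open Cfsg.Agent.Helper74.DO Cfsg.Agent.Helper74.BF
open scoped ComplexConjugate

variable {G : Type u} [Group G] [Fintype G] {p : ℕ} [hp : Fact p.Prime] {M : Ideal AlgInt}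

theorem natCast_ite_eq {P Q R : Prop} [Decidable P] [Decidable Q] [Decidable R] (h : P ↔ Q ∧ R) :
    (((if P then 1 else 0 : ℕ)) : ℂ) = if Q then (if R then (1 : ℂ) else 0) else 0 := by
  by_cases hQ : Q <;> by_cases hR : R <;> simp [h, hQ, hR]

/-- The number of pairs in two classes whose quotient lies in `S` is a Sylow count. -/
theorem card_pairs_eq_NS (S : Subgroup G) (x x' : G) :
    (Nat.card {yz : G × G // yz.1 ∈ (ConjClasses.mk x).carrier ∧
      yz.2 ∈ (ConjClasses.mk x').carrier ∧ yz.2 * yz.1⁻¹ ∈ S} : ℂ) = NS S x (classInd x') := by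
  classical
  rw [Nat.card_eq_fintype_card, Fintype.card_subtype, Finset.card_filter, Nat.cast_sum,
    Fintype.sum_prod_type]
  unfold NS
  refine Finset.sum_congr rfl fun y _ => ?_
  rw [← Equiv.sum_comp (Equiv.mulRight y)]
  refine Finset.sum_congr rfl fun u _ => ?_
  have h1 : y ∈ (ConjClasses.mk x).carrier ↔ IsConj x y := by
    rw [ConjClasses.mem_carrier_iff_mk_eq, ConjClasses.mk_eq_mk_iff_isConj]
    exact ⟨fun h => h.symm, fun h => h.symm⟩
  have h2 : u * y ∈ (ConjClasses.mk x').carrier ↔ IsConj x' (u * y) := by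
    rw [ConjClasses.mem_carrier_iff_mk_eq, ConjClasses.mk_eq_mk_iff_isConj]
    exact ⟨fun h => h.symm, fun h => h.symm⟩
  have h3 : u * y * y⁻¹ = u := by group
  unfold classInd
  apply natCast_ite_eq
  show (y ∈ (ConjClasses.mk x).carrier ∧ u * y ∈ (ConjClasses.mk x').carrier ∧
    u * y * y⁻¹ ∈ S) ↔ _
  rw [h1, h2, h3]
  tauto

/-- A natural number whose quotient by `p ^ e` is a local integer is divisible by `p ^ e`. -/
theorem pow_dvd_of_memLocalRing_div (hM : IsPModular p M) (N e : ℕ)
    (h : MemLocalRing M ((N : ℂ) / (p : ℂ) ^ e)) : p ^ e ∣ N := by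
  have hp' : p.Prime := hp.out
  rcases Nat.eq_zero_or_pos N with h0 | h0
  · rw [h0]; exact dvd_zero _
  · have hpe0 : p ^ e ≠ 0 := pow_ne_zero _ hp'.ne_zero
    have hfac : (p ^ e).factorization p = e := by
      rw [Nat.Prime.factorization_pow hp', Finsupp.single_eq_same]
    have hle : e ≤ N.factorization p := by
      by_contra hlt
      have hlt' : N.factorization p < (p ^ e).factorization p := by rw [hfac]; omega
      apply not_memLocalRing_natCast_div hM N (p ^ e) h0.ne' hpe0 hlt'
      have : ((p ^ e : ℕ) : ℂ) = (p : ℂ) ^ e := by push_cast; rfl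
      rw [this]
      exact h
    exact (pow_dvd_pow p hle).trans (Nat.ordProj_dvd N p)

/-- The index of the centralizer of an element with `HasSyl` is divisible by `p ^ (a - d)`. -/
theorem HasSyl.index_eq {D : Subgroup G} {x : G} (h : HasSyl p D x) :
    ∃ m : ℕ, (Subgroup.centralizer ({x} : Set G)).index =
      p ^ ((Nat.card G).factorization p - (Nat.card D).factorization p) * m := by
  have hp' : p.Prime := hp.out
  obtain ⟨-, Q, hQ⟩ := h
  have hcQ : Nat.card D = p ^ (Nat.card (Subgroup.centralizer ({x} : Set G))).factorization p := by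
    rw [← hQ, Subgroup.card_map_of_injective (Subgroup.subtype_injective _)]
    exact Q.card_eq_multiplicity
  have hd : (Nat.card D).factorization p =
      (Nat.card (Subgroup.centralizer ({x} : Set G))).factorization p := by
    rw [hcQ, Nat.Prime.factorization_pow hp', Finsupp.single_eq_same]
  have hmul := Subgroup.index_mul_card (Subgroup.centralizer ({x} : Set G))
  have hidx0 : (Subgroup.centralizer ({x} : Set G)).index ≠ 0 := Subgroup.index_ne_zero_of_finite
  have hc0 : Nat.card (Subgroup.centralizer ({x} : Set G)) ≠ 0 := Nat.card_pos.ne'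
  have hfac : (Nat.card G).factorization p =
      (Subgroup.centralizer ({x} : Set G)).index.factorization p +
        (Nat.card (Subgroup.centralizer ({x} : Set G))).factorization p := by
    rw [← hmul, Nat.factorization_mul hidx0 hc0]
    rfl
  have he : (Nat.card G).factorization p - (Nat.card D).factorization p =
      (Subgroup.centralizer ({x} : Set G)).index.factorization p := by
    rw [hd, hfac]; omega
  rw [he]
  exact Nat.ordProj_dvd _ p

/-- For a block with defect group `D`, the exponent `a - d` is the least valuation of a degree. -/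
theorem blockExp_eq (hM : IsPModular p M) {B : Set (IrrCharacter G)} (hB : IsPBlock M B)
    {D : Subgroup G} (hDB : IsDefectGroup p M B D) :
    (Nat.card G).factorization p - (Nat.card D).factorization p = minVal p B := by
  haveI hpr := isPrime_of_isPModular hM
  have hp' : p.Prime := hp.out
  have h1 := card_defectGroup hM hB D hDB
  have h2 : (Nat.card D).factorization p = blockDefect p B := by
    rw [h1, Nat.Prime.factorization_pow hp', Finsupp.single_eq_same]
  have h3 := minVal_le_card (p := p) (nonempty_of_isPBlock hB)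
  rw [h2, blockDefect_eq]
  omega

theorem pow_minVal_dvd {B : Set (IrrCharacter G)} {χ : IrrCharacter G} (hχ : χ ∈ B) :
    p ^ minVal p B ∣ charDegree (χ : G → ℂ) :=
  (pow_dvd_pow p (minVal_le hχ)).trans (Nat.ordProj_dvd _ p)

theorem blockCoeff_one_eq (B : Set (IrrCharacter G)) :
    blockCoeff B 1 = (Nat.card G : ℂ)⁻¹ * (dimBlock B : ℂ) := by
  classical
  rw [blockCoeff_eq_sum_singleton B, Finset.sum_apply]
  unfold dimBlock
  rw [Nat.cast_sum, Finset.mul_sum]
  refine Finset.sum_congr rfl fun χ _ => ?_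
  rw [blockCoeff_singleton, (Cfsg.Agent.Helper79.irr_one_eq χ).1, Complex.conj_natCast]
  push_cast
  ring

/-- The normalized coefficient at the identity of a block idempotent is a local unit. -/
theorem blockCoeff_one_unit (hM : IsPModular p M) {B : Set (IrrCharacter G)} (hB : IsPBlock M B) :
    MemLocalRing M (blockCoeff B 1 / (p : ℂ) ^ minVal p B) ∧
      ¬ MemLocalIdeal M (blockCoeff B 1 / (p : ℂ) ^ minVal p B) := by
  haveI hpr := isPrime_of_isPModular hM
  have hp' : p.Prime := hp.out
  obtain ⟨h1, h2⟩ := dimBlock_unit hM hB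
  set a := (Nat.card G).factorization p with ha
  have hG := Nat.ordProj_mul_ordCompl_eq_self (Nat.card G) p
  set g' := Nat.card G / p ^ a with hg'
  have hg'p : ¬ p ∣ g' := Nat.not_dvd_ordCompl hp' Nat.card_pos.ne'
  have hg0 : (g' : ℂ) ≠ 0 := by
    have : g' ≠ 0 := fun h0 => hg'p (by rw [h0]; exact dvd_zero p)
    exact_mod_cast this
  have hGc : (Nat.card G : ℂ) = (p : ℂ) ^ a * g' := by exact_mod_cast hG.symm
  have hp0 : (p : ℂ) ≠ 0 := by exact_mod_cast hp'.ne_zero
  have hg'R : MemLocalRing M ((g' : ℂ))⁻¹ :=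
    memLocalRing_inv (memLocalRing_natCast g')
      (fun h => hg'p ((memLocalIdeal_natCast_iff hM g').mp h))
  have key : blockCoeff B 1 / (p : ℂ) ^ minVal p B =
      ((dimBlock B : ℂ) / ((p ^ (a + minVal p B) : ℕ) : ℂ)) * (g' : ℂ)⁻¹ := by
    rw [blockCoeff_one_eq, hGc]
    push_cast
    rw [pow_add]
    field_simp
  rw [key]
  refine ⟨memLocalRing_mul h1 hg'R, fun h => h2 ?_⟩
  have e : (dimBlock B : ℂ) / ((p ^ (a + minVal p B) : ℕ) : ℂ) =
      (g' : ℂ) * ((dimBlock B : ℂ) / ((p ^ (a + minVal p B) : ℕ) : ℂ) * (g' : ℂ)⁻¹) := by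
    field_simp
  rw [e]
  exact memLocalIdeal_mul_left (memLocalRing_natCast g') h

end counting

section congruence

open Cfsg.Agent.Helper74.DO Cfsg.Agent.Helper74.BF

variable {G : Type u} [Group G] [Fintype G] {p : ℕ} [hp : Fact p.Prime] {M : Ideal AlgInt}

open scoped Classical in
/-- **Robinson's congruence**: modulo the local ideal, the normalized count of pairs in two
classes with `HasSyl` is the bilinear form of the central characters of the blocks with defect
group `D`, weighted by the normalized coefficients at the identity. -/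
theorem memLocalIdeal_NS_classInd (hM : IsPModular p M) (D : Subgroup G) [hDn : D.Normal]
    (S : Sylow p G) {x x' : G} (hx : HasSyl p D x) (hx' : HasSyl p D x') :
    MemLocalIdeal M (NS (S : Subgroup G) x (classInd x') /
        (p : ℂ) ^ ((Nat.card G).factorization p - (Nat.card D).factorization p) -
      ∑ B ∈ (allBlocks M G).filter (fun B => IsDefectGroup p M B D),
        blockOmega B (classInd x⁻¹) *
          (blockCoeff B 1 /
            (p : ℂ) ^ ((Nat.card G).factorization p - (Nat.card D).factorization p)) *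
          blockOmega B (classInd x')) := by
  classical
  haveI hpr := isPrime_of_isPModular hM
  obtain ⟨m, hidx⟩ := hx.index_eq
  set e := (Nat.card G).factorization p - (Nat.card D).factorization p with he
  have hcl := isClassFunction_classInd x'
  have hR := isRValued_classInd (M := M) x'
  have h1 := memLocalIdeal_NS_sub_tau hM S x hcl hR e m hidx
  have h2 := memLocalIdeal_tau_sub_sum hM x hcl hR
  set F : Set (IrrCharacter G) → ℂ := fun B =>
    blockOmega B (classInd x') * tau p x (blockCoeff B) with hF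
  set Gf : Set (IrrCharacter G) → ℂ := fun B =>
    blockOmega B (classInd x⁻¹) * (blockCoeff B 1 / (p : ℂ) ^ e) *
      blockOmega B (classInd x') with hGf
  have hsplit := Finset.sum_filter_add_sum_filter_not (allBlocks M G)
    (fun B => IsDefectGroup p M B D) F
  have hWeq : ∀ B, IsPBlock M B → ∃ χ₀ : IrrCharacter G, χ₀ ∈ B ∧
      ∀ g : G, blockOmega B (classInd g) = centralChar (χ₀ : G → ℂ) g := by
    intro B hB
    obtain ⟨χ₀, hχ₀, hspec⟩ := blockOmega_spec (nonempty_of_isPBlock hB)
    exact ⟨χ₀, hχ₀, fun g => by rw [hspec, omega_classInd_of_irr χ₀.2]⟩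
  have hbad : MemLocalIdeal M (∑ B ∈ (allBlocks M G).filter
      (fun B => ¬ IsDefectGroup p M B D), F B) := by
    refine memLocalIdeal_sum _ _ fun B hB => ?_
    obtain ⟨hBa, hBn⟩ := Finset.mem_filter.mp hB
    have hBb : IsPBlock M B := mem_allBlocks.mp hBa
    obtain ⟨DB, hDB⟩ := exists_isDefectGroup p hBb
    obtain ⟨Si, hSi⟩ := hx.2
    obtain ⟨Sj, hSj⟩ := hx'.2
    obtain ⟨χ₀, hχ₀, hev⟩ := hWeq B hBb
    have hτR : MemLocalRing M (tau p x (blockCoeff B)) :=
      memLocalRing_tau x (isRValued_blockCoeff hBb)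
    have hωR : MemLocalRing M (blockOmega B (classInd x')) := by
      rw [hev]; exact memLocalRing_centralChar χ₀.2 _
    simp only [hF]
    by_cases c1 : ∃ y : G, D.map (MulAut.conj y).toMonoidHom ≤ DB
    · by_cases c2 : ∃ y : G, DB.map (MulAut.conj y).toMonoidHom ≤ D
      · exact absurd (isDefectGroup_of_le_le hDB c1 c2) hBn
      · apply memLocalIdeal_mul_right _ hτR
        rw [hev]
        apply memLocalIdeal_centralChar_of_not_le hM hBb hDB x' Sj _ hχ₀
        rw [hSj]
        exact c2
    · apply memLocalIdeal_mul_left hωR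
      apply memLocalIdeal_tau_blockCoeff hM hBb hDB D _ x _ c1
      · rw [← hSi]; exact sylow_map_isPGroup x Si
      · rw [← hSi]; exact sylow_map_le_centralizer x Si
  have hgood : MemLocalIdeal M (∑ B ∈ (allBlocks M G).filter (fun B => IsDefectGroup p M B D),
      ((m : ℂ) * F B - Gf B)) := by
    refine memLocalIdeal_sum _ _ fun B hB => ?_
    obtain ⟨hBa, hBD⟩ := Finset.mem_filter.mp hB
    have hBb : IsPBlock M B := mem_allBlocks.mp hBa
    obtain ⟨χ₀, hχ₀, hev⟩ := hWeq B hBb
    have he' : e = minVal p B := blockExp_eq hM hBb hBD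
    have hdeg : ∀ χ ∈ B, p ^ e ∣ charDegree (χ : G → ℂ) := fun χ hχ => by
      rw [he']; exact pow_minVal_dvd hχ
    have a1 := memLocalIdeal_NS_sub_tau hM S x (isClassFunction_blockCoeff B)
      (isRValued_blockCoeff hBb) e m hidx
    have a2 := memLocalIdeal_NS_blockCoeff hM S hBb x e hdeg hχ₀
    have hωR : MemLocalRing M (blockOmega B (classInd x')) := by
      rw [hev]; exact memLocalRing_centralChar χ₀.2 _
    have e1 : (m : ℂ) * F B - Gf B = blockOmega B (classInd x') *
        (-(NS (S : Subgroup G) x (blockCoeff B) / (p : ℂ) ^ e -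
            (m : ℂ) * tau p x (blockCoeff B)) +
          (NS (S : Subgroup G) x (blockCoeff B) / (p : ℂ) ^ e -
            centralChar (χ₀ : G → ℂ) x⁻¹ * (blockCoeff B 1 / (p : ℂ) ^ e))) := by
      simp only [hF, hGf]
      rw [hev x⁻¹]
      ring
    rw [e1]
    exact memLocalIdeal_mul_left hωR (memLocalIdeal_add (memLocalIdeal_neg a1) a2)
  have key : NS (S : Subgroup G) x (classInd x') / (p : ℂ) ^ e -
      ∑ B ∈ (allBlocks M G).filter (fun B => IsDefectGroup p M B D), Gf B =
      (NS (S : Subgroup G) x (classInd x') / (p : ℂ) ^ e - (m : ℂ) * tau p x (classInd x')) +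
      (m : ℂ) * (tau p x (classInd x') - ∑ B ∈ allBlocks M G, F B) +
      (m : ℂ) * (∑ B ∈ (allBlocks M G).filter (fun B => ¬ IsDefectGroup p M B D), F B) +
      ∑ B ∈ (allBlocks M G).filter (fun B => IsDefectGroup p M B D),
        ((m : ℂ) * F B - Gf B) := by
    rw [Finset.sum_sub_distrib, ← Finset.mul_sum, ← hsplit]
    ring
  rw [key]
  exact memLocalIdeal_add (memLocalIdeal_add (memLocalIdeal_add h1
    (memLocalIdeal_mul_left (memLocalRing_natCast m) h2))
    (memLocalIdeal_mul_left (memLocalRing_natCast m) hbad)) hgood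

end congruence

section assembly

open Cfsg.Agent.Helper74.DO Cfsg.Agent.Helper74.BF

variable {G : Type u} [Group G] [Fintype G] {p : ℕ} [hp : Fact p.Prime] {M : Ideal AlgInt}

open scoped Classical in
/-- **Robinson**: the rank modulo `p` of the normalized matrix of pair counts is the number of
blocks with the normal defect group `D`. -/
theorem robinson_rank (hM : IsPModular p M) (D : Subgroup G) [hDn : D.Normal] (S : Sylow p G)
    {ι : Type*} [Fintype ι] [DecidableEq ι] (x : ι → G) (hx1 : ∀ i, HasSyl p D (x i))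
    (hx2 : ∀ i j, IsConj (x i) (x j) → i = j) (hx3 : ∀ g, HasSyl p D g → ∃ i, IsConj g (x i))
    (N : ι → ι → ℕ) (hN : ∀ i j, (N i j : ℂ) = NS (S : Subgroup G) (x i) (classInd (x j))) :
    (Matrix.of fun i j : ι => ((N i j /
      p ^ ((Nat.card G).factorization p - (Nat.card D).factorization p) : ℕ) : ZMod p)).rank =
      ((allBlocks M G).filter (fun B => IsDefectGroup p M B D)).card := by
  haveI hpr := isPrime_of_isPModular hM
  have hp' : p.Prime := hp.out
  letI := resField M
  haveI := charP_resRing M hM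
  set e := (Nat.card G).factorization p - (Nat.card D).factorization p with he
  set Good := (allBlocks M G).filter (fun B => IsDefectGroup p M B D) with hGood
  have memGood : ∀ B, B ∈ Good ↔ IsPBlock M B ∧ IsDefectGroup p M B D := fun B => by
    rw [hGood, Finset.mem_filter, mem_allBlocks]
  have hblk : ∀ b : ↥Good, IsPBlock M b.1 := fun b => ((memGood _).mp b.2).1
  have hdef : ∀ b : ↥Good, IsDefectGroup p M b.1 D := fun b => ((memGood _).mp b.2).2
  have hWeq : ∀ b : ↥Good, ∃ χ₀ : IrrCharacter G, χ₀ ∈ b.1 ∧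
      ∀ g : G, blockOmega b.1 (classInd g) = centralChar (χ₀ : G → ℂ) g := by
    intro b
    obtain ⟨χ₀, hχ₀, hspec⟩ := blockOmega_spec (nonempty_of_isPBlock (hblk b))
    exact ⟨χ₀, hχ₀, fun g => by rw [hspec, omega_classInd_of_irr χ₀.2]⟩
  choose χ hχmem hχev using hWeq
  have hccR : ∀ (b : ↥Good) (g : G), MemLocalRing M (centralChar (χ b : G → ℂ) g) :=
    fun b g => memLocalRing_centralChar (χ b).2 g
  have hbcR : ∀ (b : ↥Good) (g : G), MemLocalRing M (blockCoeff b.1 g) :=
    fun b g => isRValued_blockCoeff (hblk b) g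
  have htU : ∀ b : ↥Good, MemLocalRing M (blockCoeff b.1 1 / (p : ℂ) ^ e) ∧
      ¬ MemLocalIdeal M (blockCoeff b.1 1 / (p : ℂ) ^ e) := by
    intro b
    have he' : e = minVal p b.1 := blockExp_eq hM (hblk b) (hdef b)
    rw [he']
    exact blockCoeff_one_unit hM (hblk b)
  let Ω : Matrix ↥Good ι (ResRing M) := Matrix.of fun b j =>
    res M (centralChar (χ b : G → ℂ) (x j)) (hccR b _)
  let Ωs : Matrix ↥Good ι (ResRing M) := Matrix.of fun b i =>
    res M (centralChar (χ b : G → ℂ) (x i)⁻¹) (hccR b _)
  let A : Matrix ↥Good ι (ResRing M) := Matrix.of fun b j =>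
    res M (blockCoeff b.1 (x j)) (hbcR b _)
  let As : Matrix ↥Good ι (ResRing M) := Matrix.of fun b i =>
    res M (blockCoeff b.1 (x i)⁻¹) (hbcR b _)
  let t : ↥Good → ResRing M := fun b => res M (blockCoeff b.1 1 / (p : ℂ) ^ e) (htU b).1
  have ht : ∀ b, t b ≠ 0 := by
    intro b h0
    exact (htU b).2 ((res_eq_zero_iff M _ _).mp h0)
  let f : ZMod p →+* ResRing M := ZMod.castHom (dvd_refl p) (ResRing M)
  rw [← rank_map_field f, ← Fintype.card_coe Good]
  -- the congruence
  have hcong : ∀ i j, MemLocalIdeal M ((N i j : ℂ) / (p : ℂ) ^ e -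
      ∑ b : ↥Good, centralChar (χ b : G → ℂ) (x i)⁻¹ * (blockCoeff b.1 1 / (p : ℂ) ^ e) *
        centralChar (χ b : G → ℂ) (x j)) := by
    intro i j
    have := memLocalIdeal_NS_classInd hM D S (hx1 i) (hx1 j)
    rw [← hN i j, ← Finset.sum_coe_sort] at this
    convert this using 2
    refine Finset.sum_congr rfl fun b _ => ?_
    rw [hχev b, hχev b]
  have hsumR : ∀ i j, MemLocalRing M (∑ b : ↥Good, centralChar (χ b : G → ℂ) (x i)⁻¹ *
      (blockCoeff b.1 1 / (p : ℂ) ^ e) * centralChar (χ b : G → ℂ) (x j)) := fun i j =>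
    memLocalRing_sum _ _ fun b _ =>
      memLocalRing_mul (memLocalRing_mul (hccR b _) (htU b).1) (hccR b _)
  have hNR : ∀ i j, MemLocalRing M ((N i j : ℂ) / (p : ℂ) ^ e) := by
    intro i j
    have h1 := memLocalRing_add (memLocalRing_of_memLocalIdeal (hcong i j)) (hsumR i j)
    rwa [sub_add_cancel] at h1
  have hdvd : ∀ i j, p ^ e ∣ N i j := fun i j => pow_dvd_of_memLocalRing_div hM _ _ (hNR i j)
  have hp0 : (p : ℂ) ≠ 0 := by exact_mod_cast hp'.ne_zero
  have hcast : ∀ i j, ((N i j / p ^ e : ℕ) : ℂ) = (N i j : ℂ) / (p : ℂ) ^ e := by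
    intro i j
    rw [Nat.cast_div (hdvd i j) (by push_cast; exact pow_ne_zero _ hp0)]
    push_cast
    rfl
  refine rank_eq_card_of_factor _ Ω Ωs A As t ht ?_ ?_ ?_
  · ext i j
    rw [Matrix.map_apply, Matrix.of_apply, map_natCast, Matrix.mul_apply]
    simp only [Matrix.mul_diagonal, Matrix.transpose_apply]
    rw [← res_natCast M _ (memLocalRing_natCast _)]
    rw [res_congr M (hcast i j) (memLocalRing_natCast _) (hNR i j)]
    rw [(res_eq_res_iff M (hNR i j) (hsumR i j)).mpr (hcong i j)]
    rw [res_sum M Finset.univ _ (fun b =>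
      memLocalRing_mul (memLocalRing_mul (hccR b _) (htU b).1) (hccR b _))]
    refine Finset.sum_congr rfl fun b _ => ?_
    rw [res_mul M (memLocalRing_mul (hccR b _) (htU b).1) (hccR b _),
      res_mul M (hccR b _) (htU b).1]
    rfl
  · ext b b'
    rw [Matrix.mul_apply, Matrix.one_apply]
    simp only [Matrix.transpose_apply]
    have hds := dual_system hM D x hx2 hx3 (hblk b) (hdef b) (hblk b') (hdef b') (hχmem b)
    have hsR : MemLocalRing M (∑ i, blockCoeff b'.1 (x i) * centralChar (χ b : G → ℂ) (x i)) :=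
      memLocalRing_sum _ _ fun i _ => memLocalRing_mul (hbcR b' _) (hccR b _)
    have hiR : MemLocalRing M (if b.1 = b'.1 then (1 : ℂ) else 0) := by
      split_ifs
      · exact memLocalRing_one hpr.ne_top
      · exact memLocalRing_zero hpr.ne_top
    have h3 := (res_eq_res_iff M hsR hiR).mpr hds
    rw [res_sum M Finset.univ _ (fun i => memLocalRing_mul (hbcR b' _) (hccR b _))] at h3
    have h4 : ∑ j, Ω b j * A b' j = res M (if b.1 = b'.1 then (1 : ℂ) else 0) hiR := by
      rw [← h3]
      refine Finset.sum_congr rfl fun i _ => ?_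
      rw [res_mul M (hbcR b' _) (hccR b _), mul_comm]
      rfl
    rw [h4]
    by_cases hbb : b = b'
    · rw [if_pos hbb]
      rw [res_congr M (if_pos (congrArg Subtype.val hbb)) hiR (memLocalRing_one hpr.ne_top)]
      exact res_one M _
    · rw [if_neg hbb]
      rw [res_congr M (if_neg (fun h => hbb (Subtype.ext h))) hiR (memLocalRing_zero hpr.ne_top)]
      exact res_zero M _
  · ext b' b
    rw [Matrix.mul_apply, Matrix.one_apply]
    simp only [Matrix.transpose_apply]
    have hy2 : ∀ i j, IsConj (x i)⁻¹ (x j)⁻¹ → i = j := by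
      intro i j h
      apply hx2
      obtain ⟨c, hc⟩ := isConj_iff.mp h
      refine isConj_iff.mpr ⟨c, ?_⟩
      have := congrArg (fun t => t⁻¹) hc
      simp only [mul_inv_rev, inv_inv] at this
      rw [← this]; group
    have hy3 : ∀ g, HasSyl p D g → ∃ i, IsConj g (x i)⁻¹ := by
      intro g hg
      obtain ⟨i, hi⟩ := hx3 g⁻¹ hg.inv
      refine ⟨i, ?_⟩
      obtain ⟨c, hc⟩ := isConj_iff.mp hi
      refine isConj_iff.mpr ⟨c, ?_⟩
      rw [← hc]; group
    have hds := dual_system hM D (fun i => (x i)⁻¹) hy2 hy3 (hblk b) (hdef b) (hblk b')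
      (hdef b') (hχmem b)
    have hsR : MemLocalRing M
        (∑ i, blockCoeff b'.1 (x i)⁻¹ * centralChar (χ b : G → ℂ) (x i)⁻¹) :=
      memLocalRing_sum _ _ fun i _ => memLocalRing_mul (hbcR b' _) (hccR b _)
    have hiR : MemLocalRing M (if b.1 = b'.1 then (1 : ℂ) else 0) := by
      split_ifs
      · exact memLocalRing_one hpr.ne_top
      · exact memLocalRing_zero hpr.ne_top
    have h3 := (res_eq_res_iff M hsR hiR).mpr hds
    rw [res_sum M Finset.univ _ (fun i => memLocalRing_mul (hbcR b' _) (hccR b _))] at h3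
    have h4 : ∑ i, As b' i * Ωs b i = res M (if b.1 = b'.1 then (1 : ℂ) else 0) hiR := by
      rw [← h3]
      refine Finset.sum_congr rfl fun i _ => ?_
      rw [res_mul M (hbcR b' _) (hccR b _)]
      rfl
    rw [h4]
    by_cases hbb : b' = b
    · rw [if_pos hbb]
      rw [res_congr M (if_pos (congrArg Subtype.val hbb.symm)) hiR (memLocalRing_one hpr.ne_top)]
      exact res_one M _
    · rw [if_neg hbb]
      rw [res_congr M (if_neg (fun h => hbb (Subtype.ext h).symm)) hiR
        (memLocalRing_zero hpr.ne_top)]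
      exact res_zero M _

end assembly

end Cfsg.Agent.Helper75.Rob
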