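import Mathlib
import Cfsg.Agent.Lib.Helper17.Sieve
import Cfsg.Agent.Lib.Helper17.SelfCent
import Cfsg.Agent.Lib.Helper17.ConjCount
import Cfsg.Agent.Lib.Helper17.IndexNormalizer

/-!
# No simple group of order 5104 = 2^4 * 11 * 29 (exercise order for S0983, helper75)

`n_11 = 232`, `n_29 = 88`, both Sylow subgroups self-centralising: 4784 elements of order 11 or 29.
The remaining 319 nonidentity elements are 2-elements with 2-group centralisers, so each of their
classes has at least 319 elements: they are all involutions, the Sylow 2-subgroups are elementary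
abelian and pairwise disjoint, and `15 * n_2 = 319` is absurd.
-/

set_option autoImplicit false

namespace Cfsg.Agent.Helper75.SV

open Cfsg.Agent.Helper17 Cfsg.Agent.Helper17.Sieve

section Generic

variable {G : Type*} [Group G] [Finite G]

/-- four distinct orders -/
theorem four_orders_le (a b c d : ℕ) (hab : a ≠ b) (hac : a ≠ c) (had : a ≠ d) (hbc : b ≠ c)
    (hbd : b ≠ d) (hcd : c ≠ d) :
    Nat.card {g : G // orderOf g = a} + Nat.card {g : G // orderOf g = b} +
      Nat.card {g : G // orderOf g = c} + Nat.card {g : G // orderOf g = d} ≤ Nat.card G := by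
  have h := sum_card_orderOf_le (G := G) ({a, b, c, d} : Finset ℕ)
  rw [Finset.sum_insert (by simp [hab, hac, had]), Finset.sum_insert (by simp [hbc, hbd]),
    Finset.sum_insert (by simp [hcd]), Finset.sum_singleton] at h
  omega

/-- the class of `x` is not larger than the set of elements of the same order -/
theorem card_class_le_card_orderOf (x : G) :
    Nat.card (ConjClasses.mk x).carrier ≤ Nat.card {g : G // orderOf g = orderOf x} := by
  apply Nat.card_le_card_of_injective
    (fun g : (ConjClasses.mk x).carrier => (⟨g.1, by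
      have h1 : ConjClasses.mk g.1 = ConjClasses.mk x := ConjClasses.mem_carrier_iff_mk_eq.1 g.2
      rw [ConjClasses.mk_eq_mk_iff_isConj] at h1
      exact orderOf_eq_of_isConj h1⟩ : {g : G // orderOf g = orderOf x}))
  intro a b hab
  have h1 : (a : G) = b := congrArg (fun z : {g : G // orderOf g = orderOf x} => (z : G)) hab
  exact Subtype.ext h1

/-- a prime `p` with self-centralising elements of order `p` does not divide the order of the
centraliser of a nonidentity element of order prime to `p`. -/
theorem not_dvd_card_centralizer {p : ℕ} [hp : Fact p.Prime]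
    (hC : ∀ y : G, orderOf y = p → Subgroup.centralizer ({y} : Set G) = Subgroup.zpowers y)
    (x : G) (hx1 : x ≠ 1) (k : ℕ) (hxo : orderOf x ∣ k) (hcop : Nat.Coprime k p) :
    ¬ p ∣ Nat.card ↥(Subgroup.centralizer ({x} : Set G)) := by
  intro hdvd
  obtain ⟨y', hy'⟩ := exists_prime_orderOf_dvd_card' (G := ↥(Subgroup.centralizer ({x} : Set G))) p hdvd
  have hy : orderOf (y' : G) = p := by rw [Subgroup.orderOf_coe]; exact hy'
  have hyC : (y' : G) ∈ Subgroup.centralizer ({x} : Set G) := y'.2
  rw [Subgroup.mem_centralizer_iff] at hyC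
  have hcomm : x * (y' : G) = (y' : G) * x := hyC x (Set.mem_singleton x)
  have hxC : x ∈ Subgroup.centralizer ({(y' : G)} : Set G) := by
    rw [Subgroup.mem_centralizer_iff]
    intro z hz
    rw [Set.mem_singleton_iff] at hz
    rw [hz]
    exact hcomm.symm
  rw [hC _ hy] at hxC
  have h1 : orderOf x ∣ p := by
    have := orderOf_dvd_of_mem_zpowers hxC
    rwa [hy] at this
  have h2 : orderOf x ∣ Nat.gcd k p := Nat.dvd_gcd hxo h1
  rw [hcop.gcd_eq_one, Nat.dvd_one, orderOf_eq_one_iff] at h2
  exact hx1 h2

end Generic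

section O5104

variable {G : Type*} [Group G] [Finite G] [IsSimpleGroup G]

theorem n29_5104 (hn : Nat.card G = 5104) : Nat.card (Sylow 29 G) = 88 := by
  have : Fact (Nat.Prime 29) := ⟨by norm_num⟩
  have hn' : Nat.card G = 29 ^ 1 * 176 := by rw [hn]; norm_num
  obtain ⟨h1, h2⟩ := sylow_count (G := G) (p := 29) hn' (by norm_num)
  have h3 := sylow_count_ne_one (G := G) (p := 29) hn' (by norm_num) one_ne_zero (by norm_num)
  have hle : Nat.card (Sylow 29 G) ≤ 176 := Nat.le_of_dvd (by norm_num) h1
  generalize Nat.card (Sylow 29 G) = d at *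
  obtain ⟨q, rfl⟩ : ∃ q, d = 29 * q + 1 := ⟨d / 29, by omega⟩
  have hq : q ≤ 6 := by omega
  interval_cases q <;> omega

theorem n11_5104 (hn : Nat.card G = 5104) : Nat.card (Sylow 11 G) = 232 := by
  have : Fact (Nat.Prime 11) := ⟨by norm_num⟩
  have hn' : Nat.card G = 11 ^ 1 * 464 := by rw [hn]; norm_num
  obtain ⟨h1, h2⟩ := sylow_count (G := G) (p := 11) hn' (by norm_num)
  have h3 := sylow_count_ne_one (G := G) (p := 11) hn' (by norm_num) one_ne_zero (by norm_num)
  have hle : Nat.card (Sylow 11 G) ≤ 464 := Nat.le_of_dvd (by norm_num) h1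
  generalize Nat.card (Sylow 11 G) = d at *
  obtain ⟨q, rfl⟩ : ∃ q, d = 11 * q + 1 := ⟨d / 11, by omega⟩
  have hq : q ≤ 42 := by omega
  interval_cases q <;> omega

end O5104

/-- no nonabelian simple group of order `5104 = 2^4 * 11 * 29`. -/
theorem no_5104.{u} : NoSimple.{u} 5104 := by
  intro G _ _ _ hna hn
  have : Fact (Nat.Prime 29) := ⟨by norm_num⟩
  have : Fact (Nat.Prime 11) := ⟨by norm_num⟩
  have : Fact (Nat.Prime 2) := ⟨Nat.prime_two⟩
  have h29 : Nat.card (Sylow 29 G) = 88 := n29_5104 hn
  have h11 : Nat.card (Sylow 11 G) = 232 := n11_5104 hn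
  have hP29 : ∀ P : Sylow 29 G, Nat.card (P : Subgroup G) = 29 := fun P => by
    have h0 := sylow_card_eq P (k := 1) (m := 176) (by rw [hn]; norm_num) (by norm_num)
    simpa using h0
  have hP11 : ∀ P : Sylow 11 G, Nat.card (P : Subgroup G) = 11 := fun P => by
    have h0 := sylow_card_eq P (k := 1) (m := 464) (by rw [hn]; norm_num) (by norm_num)
    simpa using h0
  have hP2 : ∀ P : Sylow 2 G, Nat.card (P : Subgroup G) = 16 := fun P => by
    have h0 := sylow_card_eq P (k := 4) (m := 319) (by rw [hn]; norm_num) (by norm_num)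
    simpa using h0
  have hN29 : ∀ P : Sylow 29 G,
      Nat.card ↥(Subgroup.normalizer ((P : Subgroup G) : Set G)) = 29 * 2 := fun P => by
    have h0 := card_normalizer_mul_sylow_count P
    rw [h29, hn] at h0
    omega
  have hN11 : ∀ P : Sylow 11 G,
      Nat.card ↥(Subgroup.normalizer ((P : Subgroup G) : Set G)) = 11 * 2 := fun P => by
    have h0 := card_normalizer_mul_sylow_count P
    rw [h11, hn] at h0
    omega
  have hC29 := centralizer_singleton_eq_of_card_normalizer hP29 (by rw [hn]; norm_num)
    Nat.prime_two hN29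
  have hC11 := centralizer_singleton_eq_of_card_normalizer hP11 (by rw [hn]; norm_num)
    Nat.prime_two hN11
  have c29 : Nat.card {g : G // orderOf g = 29} = 2464 := by
    rw [card_orderOf_eq_prime hP29, h29]
  have c11 : Nat.card {g : G // orderOf g = 11} = 2320 := by
    rw [card_orderOf_eq_prime hP11, h11]
  -- centralisers of nonidentity 2-elements are 2-groups
  have hF1 : ∀ x : G, x ≠ 1 → orderOf x ∣ 16 →
      Nat.card ↥(Subgroup.centralizer ({x} : Set G)) ∣ 16 := by
    intro x hx1 hxo
    have hd : Nat.card ↥(Subgroup.centralizer ({x} : Set G)) ∣ 16 * 11 * 29 := by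
      have := Subgroup.card_subgroup_dvd_card (Subgroup.centralizer ({x} : Set G))
      rwa [hn] at this
    have hn29 := not_dvd_card_centralizer hC29 x hx1 16 hxo (by norm_num)
    have hn11 := not_dvd_card_centralizer hC11 x hx1 16 hxo (by norm_num)
    have hc29 : Nat.Coprime (Nat.card ↥(Subgroup.centralizer ({x} : Set G))) 29 :=
      ((Nat.Prime.coprime_iff_not_dvd (by norm_num)).2 hn29).symm
    have hc11 : Nat.Coprime (Nat.card ↥(Subgroup.centralizer ({x} : Set G))) 11 :=
      ((Nat.Prime.coprime_iff_not_dvd (by norm_num)).2 hn11).symm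
    exact hc11.dvd_of_dvd_mul_right (hc29.dvd_of_dvd_mul_right hd)
  -- so there are at least 319 elements of the same order
  have hF2 : ∀ x : G, x ≠ 1 → orderOf x ∣ 16 →
      319 ≤ Nat.card {g : G // orderOf g = orderOf x} := by
    intro x hx1 hxo
    have h1 := card_carrier_mul_card_centralizer x
    have h2 := hF1 x hx1 hxo
    have h3 : Nat.card ↥(Subgroup.centralizer ({x} : Set G)) ≤ 16 := Nat.le_of_dvd (by norm_num) h2
    have h4 := card_class_le_card_orderOf x
    rw [hn] at h1
    by_contra hlt
    push Not at hlt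
    have h5 : Nat.card (ConjClasses.mk x).carrier ≤ 318 := by omega
    have h6 := Nat.mul_le_mul h5 h3
    omega
  -- there is an involution
  obtain ⟨t, ht⟩ := exists_prime_orderOf_dvd_card' (G := G) 2 (by rw [hn]; norm_num)
  have ht1 : t ≠ 1 := by
    rintro rfl
    rw [orderOf_one] at ht
    omega
  have h2ge : 319 ≤ Nat.card {g : G // orderOf g = 2} := by
    have := hF2 t ht1 (by rw [ht]; norm_num)
    rwa [ht] at this
  have h2le : Nat.card {g : G // orderOf g = 2} ≤ 320 := by
    have := four_orders_le (G := G) 2 11 29 1 (by norm_num) (by norm_num) (by norm_num)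
      (by norm_num) (by norm_num) (by norm_num)
    rw [hn, c11, c29] at this
    omega
  -- every 2-element is an involution
  have hF4 : ∀ y : G, orderOf y ∣ 16 → orderOf y = 1 ∨ orderOf y = 2 := by
    intro y hy
    by_contra hcon
    push Not at hcon
    have hy1 : y ≠ 1 := by
      rintro rfl
      exact hcon.1 orderOf_one
    have h1 := hF2 y hy1 hy
    have hle : orderOf y ≤ 16 := Nat.le_of_dvd (by norm_num) hy
    have hne11 : orderOf y ≠ 11 := by
      intro h; rw [h] at hy; omega
    have hne29 : orderOf y ≠ 29 := by omega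
    have := four_orders_le (G := G) 2 (orderOf y) 11 29 (Ne.symm hcon.2) (by norm_num)
      (by norm_num) hne11 hne29 (by norm_num)
    rw [hn, c11, c29] at this
    omega
  -- Sylow 2-subgroups are abelian
  have hsq : ∀ P : Sylow 2 G, ∀ a ∈ (P : Subgroup G), a * a = 1 := by
    intro P a ha
    have h1 : orderOf a ∣ 16 := by
      rw [← hP2 P]; exact Subgroup.orderOf_dvd_natCard _ ha
    have h2 : orderOf a ∣ 2 := by
      rcases hF4 a h1 with h | h <;> rw [h]
      norm_num
    rw [← pow_two]
    exact orderOf_dvd_iff_pow_eq_one.1 h2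
  have hcomm : ∀ P : Sylow 2 G, ∀ a ∈ (P : Subgroup G), ∀ b ∈ (P : Subgroup G),
      a * b = b * a := by
    intro P a ha b hb
    have ha' : a⁻¹ = a := inv_eq_of_mul_eq_one_left (hsq P a ha)
    have hb' : b⁻¹ = b := inv_eq_of_mul_eq_one_left (hsq P b hb)
    have hab' : (a * b)⁻¹ = a * b :=
      inv_eq_of_mul_eq_one_left (hsq P (a * b) (Subgroup.mul_mem _ ha hb))
    calc a * b = (a * b)⁻¹ := hab'.symm
      _ = b⁻¹ * a⁻¹ := mul_inv_rev a b
      _ = b * a := by rw [ha', hb']
  -- the centraliser of a nonidentity element of a Sylow 2-subgroup is that subgroup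
  have hcent : ∀ P : Sylow 2 G, ∀ s ∈ (P : Subgroup G), s ≠ 1 →
      Subgroup.centralizer ({s} : Set G) = (P : Subgroup G) := by
    intro P s hs hs1
    have hle : (P : Subgroup G) ≤ Subgroup.centralizer ({s} : Set G) := by
      intro a ha
      rw [Subgroup.mem_centralizer_iff]
      intro z hz
      rw [Set.mem_singleton_iff] at hz
      rw [hz]
      exact hcomm P s hs a ha
    have h1 : orderOf s ∣ 16 := by
      rw [← hP2 P]; exact Subgroup.orderOf_dvd_natCard _ hs
    have h2 := hF1 s hs1 h1
    have h3 : Nat.card ↥(Subgroup.centralizer ({s} : Set G)) ≤ 16 := Nat.le_of_dvd (by norm_num) h2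
    exact (Subgroup.eq_of_le_of_card_ge hle (by rw [hP2 P]; exact h3)).symm
  have hTI : ∀ P Q : Sylow 2 G, P ≠ Q → (P : Subgroup G) ⊓ (Q : Subgroup G) = ⊥ := by
    intro P Q hPQ
    rw [Subgroup.eq_bot_iff_forall]
    intro s hs
    by_contra hs1
    apply hPQ
    apply Sylow.ext
    rw [← hcent P s hs.1 hs1, ← hcent Q s hs.2 hs1]
  have hcount := card_nonidentity_of_TI 16 hP2 hTI
  have hequiv : Nat.card {g : G // g ≠ 1 ∧ ∃ P : Sylow 2 G, g ∈ (P : Subgroup G)} =
      Nat.card {g : G // orderOf g = 2} := by
    apply Nat.card_congr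
    apply Equiv.subtypeEquivRight
    intro g
    constructor
    · rintro ⟨hg1, P, hgP⟩
      have h1 : orderOf g ∣ 16 := by
        rw [← hP2 P]; exact Subgroup.orderOf_dvd_natCard _ hgP
      rcases hF4 g h1 with h | h
      · exact absurd (orderOf_eq_one_iff.1 h) hg1
      · exact h
    · intro hg
      refine ⟨?_, exists_sylow_mem_of_orderOf g hg⟩
      rintro rfl
      rw [orderOf_one] at hg
      omega
  rw [hequiv] at hcount
  omega

end Cfsg.Agent.Helper75.SV
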