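import Mathlib
import Cfsg.Agent.Lib.Helper75.FixKill2

/-!
# Exercise orders for S0983 (helper17's sieve), second batch
-/

set_option autoImplicit false

namespace Cfsg.Agent.Helper75.SV

open Cfsg.Agent.Helper17.Sieve Cfsg.Agent.Helper75.FixKill

set_option maxRecDepth 100000 in
theorem cert_4760 : FixCert2 17 280 := by decide +kernel

/-- no nonabelian simple group of order 4760 (`n_17 = 35`; `e = 2, 4` die by fixed points of an
involution of `C(P)`, `e = 8` gives a cyclic Sylow 2-subgroup). -/
theorem no_4760.{u} : NoSimple.{u} 4760 :=
  fix_kill2 (p := 17) (m := 280) (by norm_num) (by norm_num) (by norm_num) cert_4760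

end Cfsg.Agent.Helper75.SV
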