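import Mathlib
import Cfsg.Agent.Lib.Helper75.FixKill3

/-!
# Exercise orders for S0983 (helper17's sieve), third batch: isolated involutions (S0215)
-/

set_option autoImplicit false

namespace Cfsg.Agent.Helper75.SV

open Cfsg.Agent.Helper17.Sieve Cfsg.Agent.Helper75.FixKill

set_option maxRecDepth 100000 in
theorem cert_5940 : FixCert3 11 540 := by decide +kernel

/-- no nonabelian simple group of order 5940 (`n_11 = 45`, `|C(P)| = 66`: an involution of `C(P)`
fixes only `P` on `Syl_11` and is isolated in a Sylow 2-subgroup of `N(P)`; Glauberman `Z*`). -/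
theorem no_5940.{u} : NoSimple.{u} 5940 :=
  fix_kill3 (p := 11) (m := 540) (by norm_num) (by norm_num) (by norm_num) cert_5940

set_option maxRecDepth 100000 in
theorem cert_5460 : FixCert3 13 420 := by decide +kernel

/-- no nonabelian simple group of order 5460 (`n_13 = 105`; `e = 4` cyclic Sylow 2, `e = 2`
isolated involution). -/
theorem no_5460.{u} : NoSimple.{u} 5460 :=
  fix_kill3 (p := 13) (m := 420) (by norm_num) (by norm_num) (by norm_num) cert_5460

end Cfsg.Agent.Helper75.SV
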