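import Cfsg.Agent.Lib.Helper74.DimBlock
import Cfsg.Agent.Lib.Helper75.WeightedOrbit
import Cfsg.Agent.Lib.Helper16.BlockConj
import Cfsg.Agent.Lib.Helper81.CharInd
import Cfsg.Agent.Lib.Helper77.Principal

set_option autoImplicit false
set_option linter.style.haveILetI false
set_option linter.unusedSectionVars false

namespace Cfsg.Agent.Helper75.SHZ

open Cfsg
open Cfsg.Agent.Helper16 (conjIrr conjIrr_apply conjIrr_one conjIrr_mul conjIrr_one_apply)
open scoped ComplexConjugate Pointwise

universe u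

section sylowsum

variable {K : Type u} [Group K] [Finite K] {p : ℕ} [Fact p.Prime]

/-- The sum of a class function over a Sylow subgroup is invariant under automorphisms. -/
theorem sum_sylow_comp_aut (P : Sylow p K) [Fintype (P : Subgroup K)] (φ : MulAut K) (f : K → ℂ)
    (hf : IsClassFunction K f) :
    ∑ y : (P : Subgroup K), f (φ (y : K)) = ∑ y : (P : Subgroup K), f (y : K) := by
  classical
  obtain ⟨h, hh⟩ := MulAction.exists_smul_eq K P (φ • P)
  have hsub : MulAut.conj h • (P : Subgroup K) = φ • (P : Subgroup K) := by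
    have := congrArg (fun Q : Sylow p K => (Q : Subgroup K)) hh
    simpa [Sylow.smul_def, Sylow.pointwise_smul_def] using this
  have hmem : ∀ y : (P : Subgroup K), h⁻¹ * φ (y : K) * h ∈ (P : Subgroup K) := by
    intro y
    have h1 : φ • (y : K) ∈ φ • (P : Subgroup K) := Subgroup.smul_mem_pointwise_smul _ _ _ y.2
    rw [← hsub, Subgroup.mem_pointwise_smul_iff_inv_smul_mem] at h1
    have h2 : (MulAut.conj h)⁻¹ • (φ • (y : K)) = h⁻¹ * φ (y : K) * h := by
      rw [MulAut.smul_def, MulAut.smul_def, MulAut.conj_inv_apply]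
    rwa [h2] at h1
  let e : ↥(P : Subgroup K) → ↥(P : Subgroup K) := fun y => ⟨h⁻¹ * φ (y : K) * h, hmem y⟩
  have hinj : Function.Injective e := by
    intro y y' hyy
    have h1 : h⁻¹ * φ (y : K) * h = h⁻¹ * φ (y' : K) * h := congrArg Subtype.val hyy
    have h2 : φ (y : K) = φ (y' : K) := by
      have := congrArg (fun z => h * z * h⁻¹) h1
      simpa [mul_assoc] using this
    exact Subtype.ext (φ.injective h2)
  have hbij : Function.Bijective e := Finite.injective_iff_bijective.mp hinj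
  have h3 : ∀ y : (P : Subgroup K), f (φ (y : K)) = f ((e y : (P : Subgroup K)) : K) := by
    intro y
    have h4 := hf (φ (y : K)) h⁻¹
    rw [inv_inv] at h4
    exact h4.symm
  simp only [h3]
  exact (Equiv.ofBijective e hbij).sum_comp (fun y : (P : Subgroup K) => f (y : K))

end sylowsum

section main

variable {G : Type u} [Group G] [Finite G] {p : ℕ} [hpf : Fact p.Prime] {M : Ideal AlgInt}
  (H : Subgroup G) [hH : H.Normal]

/-- The conjugation action of a subgroup of `G` on the irreducible characters of `H`. -/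
@[reducible] noncomputable def conjAction (Q : Subgroup G) : MulAction Q (IrrCharacter H) where
  smul x θ := conjIrr H (x : G) θ
  one_smul θ := conjIrr_one H θ
  mul_smul x y θ := conjIrr_mul H x y θ

/-- A `p`-subgroup of `G` stabilizing a block `b` of the normal subgroup `H` fixes a character of
height zero of `b`. -/
theorem exists_fixed_height_zero (hM : IsPModular p M) {b : Set (IrrCharacter H)}
    (hb : IsPBlock M b) (Q : Subgroup G) (hQ : IsPGroup p Q)
    (hstab : ∀ x ∈ Q, ∀ θ ∈ b, conjIrr H x θ ∈ b) :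
    ∃ θ ∈ b, blockHeight p b (θ : H → ℂ) = 0 ∧ ∀ x ∈ Q, conjIrr H x θ = θ := by
  classical
  haveI : Fintype H := Fintype.ofFinite H
  haveI : Fintype (IrrCharacter H) := @Fintype.ofFinite _ Cfsg.Agent.Helper81.irr_finite
  haveI := Cfsg.Agent.Helper77.isPrime_of_isPModular hM
  have hp : p.Prime := Fact.out
  obtain ⟨P⟩ : Nonempty (Sylow p H) := inferInstance
  haveI : Fintype (P : Subgroup H) := Fintype.ofFinite _
  set a := (Nat.card H).factorization p with ha
  set mv := Cfsg.Agent.Helper74.DO.minVal p b with hmv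
  have hPcard : Nat.card (P : Subgroup H) = p ^ a := P.card_eq_multiplicity
  have hP0 : (Nat.card (P : Subgroup H) : ℂ) ≠ 0 := by
    exact_mod_cast (Nat.card_pos (α := (P : Subgroup H))).ne'
  -- the multiplicity of the trivial character of `P`
  have hwex : ∀ ψ : IrrCharacter H, ∃ n : ℕ,
      ∑ y : (P : Subgroup H), conj ((ψ : H → ℂ) (y : H))
        = (Nat.card (P : Subgroup H) : ℂ) * (n : ℂ) := by
    intro ψ
    obtain ⟨n, hn⟩ := Cfsg.Agent.Helper81.exists_nat_classInner_char
      (α := fun _ : (P : Subgroup H) => (1 : ℂ))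
      (β := fun y : (P : Subgroup H) => (ψ : H → ℂ) (y : H))
      (Cfsg.Agent.Helper81.IsIrrCharacter.isCharacter
        (Cfsg.Agent.Helper77.trivIrr (P : Subgroup H)).2)
      (Cfsg.Agent.Helper81.isCharacter_restrict _
        (Cfsg.Agent.Helper81.IsIrrCharacter.isCharacter ψ.2))
    refine ⟨n, ?_⟩
    unfold classInner at hn
    simp only [one_mul] at hn
    rw [← hn, ← mul_assoc, mul_inv_cancel₀ hP0, one_mul]
  choose w hw using hwex
  -- invariance of `w`
  have hwinv : ∀ (x : G) (ψ : IrrCharacter H), w (conjIrr H x ψ) = w ψ := by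
    intro x ψ
    have hcl : IsClassFunction H (fun y : H => conj ((ψ : H → ℂ) y)) := by
      intro g h
      show conj ((ψ : H → ℂ) (h * g * h⁻¹)) = conj ((ψ : H → ℂ) g)
      rw [Cfsg.Agent.Helper16.isClassFunction_of_isIrrCharacter' ψ.2 g h]
    have h1 := sum_sylow_comp_aut P (MulAut.conjNormal x⁻¹ : MulAut H)
      (fun y : H => conj ((ψ : H → ℂ) y)) hcl
    have h2 : ∑ y : (P : Subgroup H), conj ((conjIrr H x ψ : H → ℂ) (y : H))
        = ∑ y : (P : Subgroup H), conj ((ψ : H → ℂ) (y : H)) := h1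
    rw [hw, hw] at h2
    have h3 := mul_left_cancel₀ hP0 h2
    exact_mod_cast h3
  -- the reduced degrees
  set c : IrrCharacter H → ℕ := fun ψ => charDegree (ψ : H → ℂ) / p ^ mv with hc
  have hcdeg : ∀ ψ ∈ b, charDegree (ψ : H → ℂ) = p ^ mv * c ψ := by
    intro ψ hψ
    have h1 : p ^ mv ∣ charDegree (ψ : H → ℂ) :=
      (pow_dvd_pow p (Cfsg.Agent.Helper74.DO.minVal_le hψ)).trans (Nat.ordProj_dvd _ p)
    rw [hc]
    exact (Nat.mul_div_cancel' h1).symm
  have hcinv : ∀ (x : G) (ψ : IrrCharacter H), c (conjIrr H x ψ) = c ψ := by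
    intro x ψ
    have h1 : charDegree (conjIrr H x ψ : H → ℂ) = charDegree (ψ : H → ℂ) := by
      unfold charDegree
      rw [conjIrr_one_apply]
    simp only [hc, h1]
  -- total weight
  set Tot : ℕ := ∑ ψ ∈ (Set.toFinite b).toFinset, c ψ * w ψ with hTot
  have hdim : (Cfsg.Agent.Helper74.BF.dimBlock b : ℂ)
      = ((p ^ (a + mv) : ℕ) : ℂ) * (Tot : ℂ) := by
    rw [Cfsg.Agent.Helper74.BF.dimBlock_eq_sylow hM hb P (fun ψ => (w ψ : ℂ)) hw, hPcard, hTot]
    push_cast
    rw [pow_add, mul_assoc]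
    congr 1
    rw [Finset.mul_sum]
    refine Finset.sum_congr rfl fun ψ hψ => ?_
    rw [Set.Finite.mem_toFinset] at hψ
    rw [hcdeg ψ hψ]
    push_cast
    ring
  have hTotp : ¬ p ∣ Tot := by
    obtain ⟨-, h2⟩ := Cfsg.Agent.Helper74.BF.dimBlock_unit hM hb
    rw [hdim] at h2
    have hpow0 : ((p ^ (a + mv) : ℕ) : ℂ) ≠ 0 := by
      exact_mod_cast (pow_pos hp.pos _).ne'
    rw [mul_div_assoc, mul_comm, div_mul_cancel₀ _ hpow0,
      Cfsg.Agent.Helper77.memLocalIdeal_natCast_iff hM] at h2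
    exact h2
  -- the action
  letI := conjAction H Q
  have hsmul : ∀ (x : Q) (ψ : IrrCharacter H), x • ψ = conjIrr H (x : G) ψ := fun _ _ => rfl
  have hbiff : ∀ (x : Q) (ψ : IrrCharacter H), x • ψ ∈ b ↔ ψ ∈ b := by
    intro x ψ
    constructor
    · intro h
      have h1 := hstab (x⁻¹ : Q) (x⁻¹ : Q).2 _ h
      rw [hsmul, Subgroup.coe_inv, Cfsg.Agent.Helper16.conjIrr_inv_conjIrr] at h1
      exact h1
    · intro h
      exact hstab x x.2 ψ h
  set W : IrrCharacter H → ℕ := fun ψ => if ψ ∈ b then c ψ * w ψ else 0 with hW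
  have hWinv : ∀ (x : Q) (ψ : IrrCharacter H), W (x • ψ) = W ψ := by
    intro x ψ
    simp only [hW, hbiff]
    rw [hsmul, hcinv, hwinv]
  have hcong := Cfsg.Agent.Helper75.sum_modEq_sum_fixed hQ W hWinv
    (fun ψ => ∀ x : Q, x • ψ = ψ) (fun ψ => Iff.rfl)
  have hWtot : ∑ ψ : IrrCharacter H, W ψ = Tot := by
    rw [hTot]
    simp only [hW]
    rw [← Finset.sum_filter]
    congr 1
    ext ψ
    simp
  rw [hWtot] at hcong
  -- a fixed point with nonzero weight mod `p`
  have hex : ∃ ψ : IrrCharacter H, (∀ x : Q, x • ψ = ψ) ∧ ¬ p ∣ W ψ := by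
    by_contra hcon
    push Not at hcon
    apply hTotp
    have h1 : p ∣ ∑ ψ ∈ Finset.univ.filter (fun ψ : IrrCharacter H => ∀ x : Q, x • ψ = ψ), W ψ := by
      apply Finset.dvd_sum
      intro ψ hψ
      rw [Finset.mem_filter] at hψ
      exact hcon ψ hψ.2
    exact (Nat.modEq_zero_iff_dvd.mp (hcong.trans (Nat.modEq_zero_iff_dvd.mpr h1)))
  obtain ⟨θ, hθfix, hθW⟩ := hex
  have hθb : θ ∈ b := by
    by_contra h
    apply hθW
    simp only [hW, if_neg h]
    exact dvd_zero _
  have hθc : ¬ p ∣ c θ := by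
    intro h
    apply hθW
    simp only [hW, if_pos hθb]
    exact dvd_mul_of_dvd_left h _
  refine ⟨θ, hθb, ?_, ?_⟩
  · unfold blockHeight
    have h1 : (charDegree (θ : H → ℂ)).factorization p = mv := by
      rw [hcdeg θ hθb]
      have hc0 : c θ ≠ 0 := by
        intro h0
        exact hθc (h0 ▸ dvd_zero p)
      rw [Nat.factorization_mul (pow_pos hp.pos _).ne' hc0, Finsupp.add_apply,
        Nat.Prime.factorization_pow hp, Finsupp.single_eq_same,
        Nat.factorization_eq_zero_of_not_dvd hθc, add_zero]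
    rw [h1]
    exact Nat.sub_self _
  · intro x hx
    exact hθfix ⟨x, hx⟩

end main

end Cfsg.Agent.Helper75.SHZ
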