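import Mathlib

/-!
# Three primes in `(m/2, m]` for `m ≥ 17` (a strengthening of Bertrand's postulate)

Adapted from Mathlib's proof of Bertrand's postulate (`Mathlib/NumberTheory/Bertrand.lean`):
if at most two primes lie in `(n, 2n]`, the central binomial coefficient is still bounded by
`(2n)^sqrt(2n) * 4^(2n/3)` (the two extra factors `2n` are paid for by counting the primes
up to `sqrt (2n)` more carefully: `1` and `4` are not prime).
-/

namespace Cfsg.Agent.Helper75.ThreePrimes

open Nat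

/-- The primes in `(n, 2n]`. -/
def bigPrimes (n : ℕ) : Finset ℕ := (Finset.Ioc n (2 * n)).filter Nat.Prime

theorem mem_bigPrimes {n p : ℕ} : p ∈ bigPrimes n ↔ (n < p ∧ p ≤ 2 * n) ∧ p.Prime := by
  simp [bigPrimes]

/-- Part B: the primes above `2n/3` contribute at most `(2n)^2` if there are at most two of them
in `(n, 2n]`. -/
theorem prod_large_le (n : ℕ) (n_large : 2 < n) (few : (bigPrimes n).card ≤ 2) :
    ∏ p ∈ (Finset.range (2 * n + 1)).filter (fun p => ¬ p ≤ 2 * n / 3),
      p ^ (centralBinom n).factorization p ≤ (2 * n) ^ 2 := by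
  have n_pos : 0 < n := by omega
  have h1 : ∏ p ∈ (Finset.range (2 * n + 1)).filter (fun p => ¬ p ≤ 2 * n / 3),
      p ^ (centralBinom n).factorization p
      = ∏ p ∈ bigPrimes n, p ^ (centralBinom n).factorization p := by
    symm
    apply Finset.prod_subset
    · intro p hp
      rw [mem_bigPrimes] at hp
      rw [Finset.mem_filter, Finset.mem_range]
      refine ⟨by omega, ?_⟩
      have : 2 * n / 3 < p := by
        rw [Nat.div_lt_iff_lt_mul three_pos]; omega
      omega
    · intro p hp hnp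
      rw [Finset.mem_filter, Finset.mem_range] at hp
      obtain ⟨hp1, hp2⟩ := hp
      rw [not_le, Nat.div_lt_iff_lt_mul three_pos] at hp2
      rw [mem_bigPrimes] at hnp
      by_cases hpr : p.Prime
      · have hpn : p ≤ n := by
          by_contra h
          exact hnp ⟨⟨by omega, by omega⟩, hpr⟩
        rw [factorization_centralBinom_of_two_mul_self_lt_three_mul n_large hpn (by omega),
          Nat.pow_zero]
      · rw [factorization_eq_zero_of_not_prime n.centralBinom hpr, Nat.pow_zero]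
  rw [h1]
  calc ∏ p ∈ bigPrimes n, p ^ (centralBinom n).factorization p
      ≤ ∏ _p ∈ bigPrimes n, (2 * n) := by
        apply Finset.prod_le_prod'
        intro p _
        exact pow_factorization_choose_le (mul_pos two_pos n_pos)
    _ = (2 * n) ^ (bigPrimes n).card := by rw [Finset.prod_const]
    _ ≤ (2 * n) ^ 2 := Nat.pow_le_pow_right (by omega) few

/-- Part A: the primes up to `2n/3`. -/
theorem prod_small_le (n : ℕ) (n_large : 8 ≤ n) :
    ∏ p ∈ Finset.range (2 * n / 3 + 1), p ^ (centralBinom n).factorization p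
      ≤ (2 * n) ^ (sqrt (2 * n) - 2) * 4 ^ (2 * n / 3) := by
  have n_pos : 0 < n := by omega
  have n2_pos : 1 ≤ 2 * n := by omega
  have hs4 : 4 ≤ sqrt (2 * n) := by
    rw [Nat.le_sqrt]; omega
  let S := {p ∈ Finset.range (2 * n / 3 + 1) | Nat.Prime p}
  let f x := x ^ n.centralBinom.factorization x
  have : ∏ x ∈ S, f x = ∏ x ∈ Finset.range (2 * n / 3 + 1), f x := by
    refine Finset.prod_filter_of_ne fun p _ h => ?_
    contrapose h; dsimp only [f]
    rw [factorization_eq_zero_of_not_prime n.centralBinom h, _root_.pow_zero]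
  change ∏ x ∈ Finset.range (2 * n / 3 + 1), f x ≤ _
  rw [← this, ← Finset.prod_filter_mul_prod_filter_not S (· ≤ sqrt (2 * n))]
  apply mul_le_mul'
  · refine (Finset.prod_le_prod' fun p _ => (?_ : f p ≤ 2 * n)).trans ?_
    · exact pow_factorization_choose_le (mul_pos two_pos n_pos)
    have hc : ((Finset.Icc 2 (sqrt (2 * n))).erase 4).card = sqrt (2 * n) - 2 := by
      rw [Finset.card_erase_of_mem (Finset.mem_Icc.mpr ⟨by norm_num, hs4⟩), card_Icc]
      omega
    rw [Finset.prod_const]
    refine pow_right_mono₀ n2_pos ((Finset.card_le_card fun x hx => ?_).trans hc.le)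
    obtain ⟨h1, h2⟩ := Finset.mem_filter.1 hx
    have hxp : x.Prime := (Finset.mem_filter.1 h1).2
    rw [Finset.mem_erase, Finset.mem_Icc]
    refine ⟨?_, hxp.two_le, h2⟩
    rintro rfl
    exact absurd hxp (by norm_num)
  · refine le_trans ?_ (primorial_le_four_pow (2 * n / 3))
    refine (Finset.prod_le_prod' fun p hp => (?_ : f p ≤ p)).trans ?_
    · obtain ⟨h1, h2⟩ := Finset.mem_filter.1 hp
      refine (pow_right_mono₀ (Finset.mem_filter.1 h1).2.one_lt.le ?_).trans (pow_one p).le
      exact Nat.factorization_choose_le_one (sqrt_lt'.mp <| not_le.1 h2)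
    refine Finset.prod_le_prod_of_subset_of_one_le' (Finset.filter_subset _ _) ?_
    exact fun p hp _ => (Finset.mem_filter.1 hp).2.one_lt.le

theorem centralBinom_le_of_few_primes (n : ℕ) (n_large : 8 ≤ n)
    (few : (bigPrimes n).card ≤ 2) :
    centralBinom n ≤ (2 * n) ^ sqrt (2 * n) * 4 ^ (2 * n / 3) := by
  have hs4 : 4 ≤ sqrt (2 * n) := by
    rw [Nat.le_sqrt]; omega
  have hA := prod_small_le n n_large
  have hB := prod_large_le n (by omega) few
  have hsplit : centralBinom n =
      (∏ p ∈ (Finset.range (2 * n + 1)).filter (fun p => p ≤ 2 * n / 3),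
        p ^ (centralBinom n).factorization p) *
      ∏ p ∈ (Finset.range (2 * n + 1)).filter (fun p => ¬ p ≤ 2 * n / 3),
        p ^ (centralBinom n).factorization p := by
    rw [Finset.prod_filter_mul_prod_filter_not, n.prod_pow_factorization_centralBinom]
  have hrange : (Finset.range (2 * n + 1)).filter (fun p => p ≤ 2 * n / 3)
      = Finset.range (2 * n / 3 + 1) := by
    ext p
    simp only [Finset.mem_filter, Finset.mem_range]
    have : 2 * n / 3 ≤ 2 * n := Nat.div_le_self _ _
    omega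
  rw [hrange] at hsplit
  rw [hsplit]
  calc _ ≤ ((2 * n) ^ (sqrt (2 * n) - 2) * 4 ^ (2 * n / 3)) * (2 * n) ^ 2 :=
        Nat.mul_le_mul hA hB
    _ = (2 * n) ^ sqrt (2 * n) * 4 ^ (2 * n / 3) := by
        have : (2 * n) ^ sqrt (2 * n) = (2 * n) ^ (sqrt (2 * n) - 2) * (2 * n) ^ 2 := by
          rw [← pow_add]; congr 1; omega
        rw [this]; ring

/-- At least three primes in `(n, 2n]` for `n ≥ 512`. -/
theorem three_le_card_bigPrimes (n : ℕ) (n_large : 512 ≤ n) : 3 ≤ (bigPrimes n).card := by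
  by_contra hcon
  have few : (bigPrimes n).card ≤ 2 := by omega
  have no_prime : 4 ^ n < n * n.centralBinom :=
    Nat.four_pow_lt_mul_centralBinom n (le_trans (by norm_num1) n_large)
  have := centralBinom_le_of_few_primes n (by omega) few
  have h2 : n * n.centralBinom ≤ 4 ^ n := by
    calc n * n.centralBinom ≤ n * ((2 * n) ^ sqrt (2 * n) * 4 ^ (2 * n / 3)) :=
          Nat.mul_le_mul_left _ this
      _ = n * (2 * n) ^ sqrt (2 * n) * 4 ^ (2 * n / 3) := by ring
      _ ≤ 4 ^ n := bertrand_main_inequality n_large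
  omega

theorem exists_three_primes_large (n : ℕ) (n_large : 512 ≤ n) :
    ∃ p q r : ℕ, p.Prime ∧ q.Prime ∧ r.Prime ∧ n < p ∧ p < q ∧ q < r ∧ r ≤ 2 * n := by
  have h := three_le_card_bigPrimes n n_large
  have h' : 2 < (bigPrimes n).card := by omega
  rw [Finset.two_lt_card] at h'
  obtain ⟨a, ha, b, hb, c, hc, hab, hac, hbc⟩ := h'
  rw [mem_bigPrimes] at ha hb hc
  obtain ⟨⟨ha1, ha2⟩, ha3⟩ := ha
  obtain ⟨⟨hb1, hb2⟩, hb3⟩ := hb
  obtain ⟨⟨hc1, hc2⟩, hc3⟩ := hc
  rcases lt_or_gt_of_ne hab with h1 | h1 <;> rcases lt_or_gt_of_ne hac with h2 | h2 <;>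
    rcases lt_or_gt_of_ne hbc with h3 | h3
  · exact ⟨a, b, c, ha3, hb3, hc3, ha1, h1, h3, hc2⟩
  · exact ⟨a, c, b, ha3, hc3, hb3, ha1, h2, h3, hb2⟩
  · omega
  · exact ⟨c, a, b, hc3, ha3, hb3, hc1, h2, h1, hb2⟩
  · exact ⟨b, a, c, hb3, ha3, hc3, hb1, h1, h2, hc2⟩
  · omega
  · exact ⟨b, c, a, hb3, hc3, ha3, hb1, h3, h2, ha2⟩
  · exact ⟨c, b, a, hc3, hb3, ha3, hc1, h3, h1, ha2⟩

theorem exists_three_primes_small (m : ℕ) (hlo : 17 ≤ m) (hm : m < 1024) :
    ∃ p q r : ℕ, p.Prime ∧ q.Prime ∧ r.Prime ∧ m < 2 * p ∧ p < q ∧ q < r ∧ r ≤ m := by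
  by_cases h11 : m < 22
  · exact ⟨11, 13, 17, by norm_num, by norm_num, by norm_num, by omega, by norm_num, by norm_num, by omega⟩
  by_cases h13 : m < 26
  · exact ⟨13, 17, 19, by norm_num, by norm_num, by norm_num, by omega, by norm_num, by norm_num, by omega⟩
  by_cases h17 : m < 34
  · exact ⟨17, 19, 23, by norm_num, by norm_num, by norm_num, by omega, by norm_num, by norm_num, by omega⟩
  by_cases h23 : m < 46
  · exact ⟨23, 29, 31, by norm_num, by norm_num, by norm_num, by omega, by norm_num, by norm_num, by omega⟩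
  by_cases h37 : m < 74
  · exact ⟨37, 41, 43, by norm_num, by norm_num, by norm_num, by omega, by norm_num, by norm_num, by omega⟩
  by_cases h67 : m < 134
  · exact ⟨67, 71, 73, by norm_num, by norm_num, by norm_num, by omega, by norm_num, by norm_num, by omega⟩
  by_cases h113 : m < 226
  · exact ⟨113, 127, 131, by norm_num, by norm_num, by norm_num, by omega, by norm_num, by norm_num, by omega⟩
  by_cases h199 : m < 398
  · exact ⟨199, 211, 223, by norm_num, by norm_num, by norm_num, by omega, by norm_num, by norm_num, by omega⟩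
  by_cases h383 : m < 766
  · exact ⟨383, 389, 397, by norm_num, by norm_num, by norm_num, by omega, by norm_num, by norm_num, by omega⟩
  by_cases h751 : m < 1502
  · exact ⟨751, 757, 761, by norm_num, by norm_num, by norm_num, by omega, by norm_num, by norm_num, by omega⟩
  omega

/-- **Three primes**: for `m ≥ 17` there are three primes `p < q < r` in `(m/2, m]`. -/
theorem exists_three_primes (m : ℕ) (hm : 17 ≤ m) :
    ∃ p q r : ℕ, p.Prime ∧ q.Prime ∧ r.Prime ∧ m < 2 * p ∧ p < q ∧ q < r ∧ r ≤ m := by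
  rcases lt_or_ge m 1024 with h | h
  · exact exists_three_primes_small m hm h
  · obtain ⟨p, q, r, hp, hq, hr, h1, h2, h3, h4⟩ :=
      exists_three_primes_large (m / 2) (by omega)
    exact ⟨p, q, r, hp, hq, hr, by omega, h2, h3, by omega⟩

/-- Consequence: for `m ≥ 17` there are primes `p < q` in `(m/2, m]` with `p + 4 ≤ q`. -/
theorem exists_two_primes_gap (m : ℕ) (hm : 17 ≤ m) :
    ∃ p q : ℕ, p.Prime ∧ q.Prime ∧ m < 2 * p ∧ p + 4 ≤ q ∧ q ≤ m := by
  obtain ⟨p, q, r, hp, hq, hr, h1, h2, h3, h4⟩ := exists_three_primes m hm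
  refine ⟨p, r, hp, hr, h1, ?_, h4⟩
  -- p, q, r are odd primes (p > 8), so q ≥ p + 2 and r ≥ q + 2
  have hp2 : p % 2 = 1 := (hp.eq_two_or_odd).resolve_left (by omega)
  have hq2 : q % 2 = 1 := (hq.eq_two_or_odd).resolve_left (by omega)
  have hr2 : r % 2 = 1 := (hr.eq_two_or_odd).resolve_left (by omega)
  omega

end Cfsg.Agent.Helper75.ThreePrimes
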