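import Mathlib
import Cfsg.Agent.Lib.Helper93.U20

/-!
# U2 project (S2335), piece B3: `det (1 + N) = 1` if `N * N = 0` (over a field).
-/

set_option autoImplicit false

namespace Cfsg.Agent.Helper75.U2

open Matrix Cfsg.Agent.Helper13 Cfsg.Agent.Helper93.U2

section GRP

variable {F : Type*} [Field F] [Fintype F] {q : ℕ} (hF : Fintype.card F = q ^ 2)

/-- piece B3 -/
theorem det_one_add_of_sq_zero {n : ℕ} (N : Matrix (Fin n) (Fin n) F) (h : N * N = 0) :
    (1 + N).det = 1 := by
  have hnil : IsNilpotent N := ⟨2, by rw [pow_two, h]⟩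
  have h1 : N.charpoly = Polynomial.X ^ (Fintype.card (Fin n)) := by
    have := (Matrix.isNilpotent_charpoly_sub_pow_of_isNilpotent hnil).eq_zero
    exact sub_eq_zero.1 this
  have h2 := Matrix.eval_charpoly N (-1)
  rw [h1, Polynomial.eval_pow, Polynomial.eval_X] at h2
  have h3 : (Matrix.scalar (Fin n) (-1 : F) - N) = -(1 + N) := by
    ext i j
    simp [Matrix.scalar_apply, Matrix.diagonal_apply, Matrix.one_apply]
    split_ifs <;> ring
  rw [h3, Matrix.det_neg] at h2
  have h4 : ((-1 : F) ^ Fintype.card (Fin n)) ≠ 0 := pow_ne_zero _ (neg_ne_zero.2 one_ne_zero)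
  have h5 : (-1 : F) ^ Fintype.card (Fin n) * 1 = (-1) ^ Fintype.card (Fin n) * (1 + N).det := by
    rw [mul_one]; exact h2
  exact (mul_left_cancel₀ h4 h5).symm

end GRP

end Cfsg.Agent.Helper75.U2
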