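import Mathlib
import Cfsg.Agent.Lib.Helper93.U20

/-!
# U2 project (S2335), piece D2: a finite field has an additive character with `ψ 1 ≠ 1`.
-/

set_option autoImplicit false

namespace Cfsg.Agent.Helper75.U2

open Matrix Cfsg.Agent.Helper13 Cfsg.Agent.Helper93.U2

section GRP

variable {F : Type*} [Field F] [Fintype F] {q : ℕ} (hF : Fintype.card F = q ^ 2)

/-- piece D2 -/
theorem exists_addChar (F : Type*) [Field F] [Fintype F] : ∃ ψ : AddChar F ℂ, ψ 1 ≠ 1 := by
  have : Finite F := Finite.of_fintype F
  exact (AddChar.exists_apply_ne_zero (α := F) (a := (1 : F))).2 one_ne_zero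

end GRP

end Cfsg.Agent.Helper75.U2
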